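import Groth.Agent.ASBun8.SBMult
import Groth.Agent.CSA.TPowIndex
import Groth.Agent.ThetaLib.Effective

/-!
# Consequences of the multiplicity formula
-/

set_option autoImplicit false
set_option linter.style.haveILetI false
set_option linter.unusedSectionVars false
set_option backward.isDefEq.respectTransparency.types false
set_option backward.isDefEq.respectTransparency false
set_option maxHeartbeats 1600000

universe u

open CategoryTheory CategoryTheory.Limits AlgebraicGeometry
open Groth.Agent.CSA

namespace Groth.Agent.ASBun8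

variable {k K : Type u} [Field k] [Field K] [Algebra k K] {X : Scheme.{u}} (p : X ⟶ Spec (CommRingCat.of k))

/-- A bundle which is a line bundle after extending the field is one. -/
theorem isInvertible_of_bc {M : X.Modules} (hM : FlatMod.IsFinLocFree M)
    (h : PicF.IsInvertible (BrSev.bcMod p K M)) : PicF.IsInvertible M := by
  let s := Spec.map (CommRingCat.ofHom (algebraMap k K))
  haveI : Flat s := by
    rw [HasRingHomProperty.Spec_iff (P := @Flat)]
    exact RingHom.flat_algebraMap_iff.2 inferInstance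
  haveI : Surjective s := ⟨fun y => ⟨default, Subsingleton.elim _ _⟩⟩
  haveI : QuasiCompact s := inferInstance
  haveI : Coh.IsQCoh M := (Coherent.CohBC.isCoh_of_isFinLocFree hM).1
  exact ThetaLib.isInvertible_of_fpqc (pullback.fst p s) M h

variable [IsAlgClosure k K] [IsProper p] {m : ℕ} (e : BrSev.Splitting p K m)
  {A : Type u} [Ring A] [Algebra k A] [Algebra.IsCentral k A] [IsSimpleRing A]
  (hA : Module.finrank k A = (m + 1) * (m + 1))
  (hX : BrSev.IsSBOf k A ((m + 1) * (m + 1) - (m + 1)) p)

include hA hX in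
/-- The multiplicity is the index of the tensor power. -/
theorem isIndex_mult {W : X.Modules} (hW : FlatMod.IsFinLocFree W) (hWi : Ind W) {j : ℤ} {r : ℕ}
    (hr : 0 < r) (hWt : BrSev.IsTwPow e j r W) : CSAGal.IsIndex k (CSAGal.tpow k A j.natAbs) r := by
  letI : X.Over (Spec (CommRingCat.of k)) := ⟨p⟩
  haveI : IsProper (X ↘ Spec (CommRingCat.of k)) := ‹IsProper p›
  haveI : FiniteDimensional k A := FiniteDimensional.of_finrank_pos (by rw [hA]; positivity)
  haveI : IsCSA k A := {}
  exact isIndex_multiplicity (K := K) (m := m) e A hA hX hW hWi hr hWt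

include hA hX in
/-- Multiplicity one gives an invertible module. -/
theorem isInvertible_of_mult_one {W : X.Modules} (hW : FlatMod.IsFinLocFree W) {j : ℤ}
    (hWt : BrSev.IsTwPow e j 1 W) : PicF.IsInvertible W := by
  obtain ⟨a⟩ := hWt
  exact isInvertible_of_bc p hW (KLLib.isInvertible_of_iso
    (a ≪≫ coproductUniqueIso fun _ : Fin 1 => e.twist j).symm (isInvertible_twist e j))

include hA hX in
/-- Types congruent modulo the period have equal multiplicity. -/
theorem mult_eq_of_dvd {d : ℕ} (hd : CSAGal.IsPeriod k A d) {W W' : X.Modules} (hW : FlatMod.IsFinLocFree W)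
    (hW' : FlatMod.IsFinLocFree W') (hWi : Ind W) (hW'i : Ind W') {j j' : ℤ} {r r' : ℕ} (hr : 0 < r) (hr' : 0 < r')
    (hWt : BrSev.IsTwPow e j r W) (hW't : BrSev.IsTwPow e j' r' W') (hjj : (d : ℤ) ∣ j - j') : r = r' := by
  haveI : FiniteDimensional k A := FiniteDimensional.of_finrank_pos (by rw [hA]; positivity)
  haveI : IsCSA k A := {}
  have key : ∀ {x y : ℤ}, (d : ℤ) ∣ x - y → ∀ {dx dy : ℕ}, CSAGal.IsIndex k (TPow k A x.natAbs) dx →
      CSAGal.IsIndex k (TPow k A y.natAbs) dy → dx ∣ dy := by
    intro x y hxy dx dy hx hy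
    obtain ⟨c, hc⟩ : ∃ c : ℤ, (d : ℤ) ∣ (x.natAbs : ℤ) - (y.natAbs : ℤ) * c := by
      rcases Int.natAbs_eq x with h1 | h1 <;> rcases Int.natAbs_eq y with h2 | h2
      · exact ⟨1, by rw [mul_one, ← h1, ← h2]; exact hxy⟩
      · exact ⟨-1, by rw [mul_neg_one, sub_neg_eq_add]; have : x - y = (x.natAbs : ℤ) + y.natAbs := by omega
                      exact this ▸ hxy⟩
      · exact ⟨-1, by rw [mul_neg_one, sub_neg_eq_add]
                      have : x - y = -((x.natAbs : ℤ) + y.natAbs) := by omega
                      exact dvd_neg.1 (this ▸ hxy)⟩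
      · exact ⟨1, by rw [mul_one]; have : x - y = -((x.natAbs : ℤ) - y.natAbs) := by omega
                     exact dvd_neg.1 (this ▸ hxy)⟩
    have hd0 : (d : ℤ) ≠ 0 := Int.natCast_ne_zero.2 hd.1.ne'
    refine isIndex_tpow_dvd_tpow (c := (c % d).toNat) (brEq_tpow_of_modEq hd ?_) hx hy
    refine (Int.natCast_modEq_iff.1 ?_)
    push_cast
    rw [Int.toNat_of_nonneg (Int.emod_nonneg c hd0)]
    rw [← Int.natCast_natAbs x, ← Int.natCast_natAbs y]
    exact ((Int.modEq_iff_dvd.2 hc).symm).trans (Int.ModEq.mul_left _ (Int.mod_modEq _ _).symm)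
  exact Nat.dvd_antisymm (key hjj (isIndex_mult p e hA hX hW hWi hr hWt) (isIndex_mult p e hA hX hW' hW'i hr' hW't))
    (key (dvd_sub_comm.1 hjj) (isIndex_mult p e hA hX hW' hW'i hr' hW't) (isIndex_mult p e hA hX hW hWi hr hWt))

include hA hX in
/-- The multiplicity when period and index agree. -/
theorem mult_eq_div_gcd {d : ℕ} (hd : CSAGal.IsPeriod k A d) (hi : CSAGal.IsIndex k A d) {W : X.Modules}
    (hW : FlatMod.IsFinLocFree W) (hWi : Ind W) {j : ℤ} {r : ℕ} (hr : 0 < r) (hWt : BrSev.IsTwPow e j r W) :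
    r = d / Nat.gcd d j.natAbs := by
  haveI : FiniteDimensional k A := FiniteDimensional.of_finrank_pos (by rw [hA]; positivity)
  haveI : IsCSA k A := {}
  exact isIndex_tpow_eq hd hi _ (isIndex_mult p e hA hX hW hWi hr hWt)

end Groth.Agent.ASBun8
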