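import Groth.Agent.ASBun8.Deuring
import Groth.Agent.KZeroLib.SigmaCoh

/-!
# Isotypical modules
-/

set_option autoImplicit false
set_option linter.style.haveILetI false
set_option linter.unusedSectionVars false
set_option backward.isDefEq.respectTransparency.types false
set_option backward.isDefEq.respectTransparency false

universe u

open CategoryTheory CategoryTheory.Limits AlgebraicGeometry Opposite TopologicalSpace
open Groth.Agent.WeilFin Groth.Agent.Coherent

namespace Groth.Agent.ASBun8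

section
variable {X : Scheme.{u}}

/-- Exchange of two iterated sums. -/
noncomputable def sigmaSwap (M : X.Modules) (a b : ℕ) :
    (∐ fun _ : Fin a => ∐ fun _ : Fin b => M) ≅ ∐ fun _ : Fin b => ∐ fun _ : Fin a => M where
  hom := Sigma.desc fun i => Sigma.desc fun j =>
    Sigma.ι (fun _ : Fin a => M) i ≫ Sigma.ι (fun _ : Fin b => ∐ fun _ : Fin a => M) j
  inv := Sigma.desc fun i => Sigma.desc fun j =>
    Sigma.ι (fun _ : Fin b => M) i ≫ Sigma.ι (fun _ : Fin a => ∐ fun _ : Fin b => M) j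
  hom_inv_id := by
    refine Sigma.hom_ext _ _ fun i => Sigma.hom_ext _ _ fun j => ?_
    erw [Sigma.ι_desc_assoc, Sigma.ι_desc_assoc, Category.assoc, Sigma.ι_desc, Sigma.ι_desc, Category.comp_id]
  inv_hom_id := by
    refine Sigma.hom_ext _ _ fun i => Sigma.hom_ext _ _ fun j => ?_
    erw [Sigma.ι_desc_assoc, Sigma.ι_desc_assoc, Category.assoc, Sigma.ι_desc, Sigma.ι_desc, Category.comp_id]

/-- A summand of a finite sum. -/
noncomputable def sigmaRetract {n : ℕ} (F : Fin n → X.Modules) (i : Fin n) : Retract (F i) (∐ F) where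
  i := Sigma.ι F i
  r := Sigma.desc fun j => if h : j = i then eqToHom (congrArg F h) else 0
  retract := by rw [Sigma.ι_desc, dif_pos rfl]; rfl

variable (k : Type u) [Field k] [X.Over (Spec (CommRingCat.of k))] [IsProper (X ↘ Spec (CommRingCat.of k))]

include k in
theorem isCoh_sigma' {n : ℕ} (F : Fin n → X.Modules) (hF : ∀ i, Coh.IsCoh (F i)) : Coh.IsCoh (∐ F) :=
  haveI := isLocallyNoetherian_X (X := X) k
  KZeroLib.isCoh_sigma_finite ⟨inferInstance⟩ F hF

include k in
/-- A summand of `L^r`, `L` indecomposable, is a power of `L`. -/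
theorem exists_pow_of_retract {L A : X.Modules} (hL : Ind L) (hLc : Coh.IsCoh L) {r : ℕ}
    (hr : Retract A (∐ fun _ : Fin r => L)) : ∃ s : ℕ, Nonempty (A ≅ ∐ fun _ : Fin s => L) := by
  have hc := isCoh_sigma' k (fun _ : Fin r => L) fun _ => hLc
  have hA := isCoh_of_retract k hr hc
  obtain ⟨s, Hs, hHs, ⟨e⟩⟩ := exists_decomposition k _ hA le_rfl
  refine ⟨s, ⟨e ≪≫ Sigma.mapIso fun i => Nonempty.some ?_⟩⟩
  let R : Retract (Hs i) (∐ fun _ : Fin r => L) :=
    (sigmaRetract Hs i).trans ((⟨e.inv, e.hom, e.inv_hom_id⟩ : Retract (∐ Hs) A).trans hr)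
  have hHc := isCoh_of_retract k R hc
  have hH := indec_of_ind k hHc (hHs i)
  have h1 := (mult_pos_iff k hH hHc hc).2 ⟨R⟩
  rw [mult_sigma k hH hHc (fun _ : Fin r => L) fun _ => hLc] at h1
  exact (mult_pos_iff_iso k hH (indec_of_ind k hLc hL) hHc hLc).1 fun h0 => h1 (Finset.sum_eq_zero fun _ _ => h0)

end

variable {k K : Type u} [Field k] [Field K] [Algebra k K] {X X' : Scheme.{u}}
  [X.Over (Spec (CommRingCat.of k))] [X'.Over (Spec (CommRingCat.of K))] {g : X' ⟶ X}
  (h : IsPullback g (X' ↘ Spec (CommRingCat.of K)) (X ↘ Spec (CommRingCat.of k))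
    (Spec.map (CommRingCat.ofHom (algebraMap k K))))
  [IsProper (X ↘ Spec (CommRingCat.of k))] [IsProper (X' ↘ Spec (CommRingCat.of K))]

/-- Base change commutes with finite sums. -/
noncomputable def pullbackSigma (g : X' ⟶ X) {n : ℕ} (F : Fin n → X.Modules) :
    (Scheme.Modules.pullback g).obj (∐ F) ≅ ∐ fun i => (Scheme.Modules.pullback g).obj (F i) :=
  haveI : PreservesColimitsOfSize.{0, 0} (Scheme.Modules.pullback g) :=
    (Scheme.Modules.pullbackPushforwardAdjunction g).leftAdjoint_preservesColimits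
  PreservesCoproduct.iso (Scheme.Modules.pullback g) F

include h in
/-- Indecomposable isotypical modules of the same type are isomorphic. -/
theorem nonempty_iso_of_isotypical {E E' : X.Modules} (hE : Coh.IsCoh E) (hE' : Coh.IsCoh E') (hEi : Ind E)
    (hE'i : Ind E') {W : X'.Modules} {r s : ℕ}
    (eE : (Scheme.Modules.pullback g).obj E ≅ ∐ fun _ : Fin r => W)
    (eE' : (Scheme.Modules.pullback g).obj E' ≅ ∐ fun _ : Fin s => W) : Nonempty (E ≅ E') := by
  haveI := hE'.1
  have hs : 0 < s := Nat.pos_of_ne_zero fun hs => by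
    subst hs
    exact hE'i.1 (isZero_of_isZero_pullback h ((isZero_sigma _ fun i => i.elim0).of_iso eE'))
  have hc := isCoh_sigma' k (fun _ : Fin s => E) fun _ => hE
  have hc' := isCoh_sigma' k (fun _ : Fin r => E') fun _ => hE'
  obtain ⟨e⟩ := nonempty_iso_of_iso_pullback h _ hc hc' le_rfl
    ⟨pullbackSigma g _ ≪≫ (Sigma.mapIso fun _ => eE) ≪≫ sigmaSwap W s r ≪≫
      (Sigma.mapIso fun _ => eE'.symm) ≪≫ (pullbackSigma g _).symm⟩
  obtain ⟨σ, hσ⟩ := exists_equiv_of_iso k _ _ (fun _ => hEi) (fun _ => hE'i) hc e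
  exact hσ ⟨0, hs⟩

include h in
/-- An isotypical module is a power of an indecomposable one. -/
theorem exists_iso_pow {E : X.Modules} (hE : Coh.IsCoh E) (hE0 : ¬ IsZero E) {L : X'.Modules} (hLi : Ind L)
    (hLc : Coh.IsCoh L) {r : ℕ} (e : (Scheme.Modules.pullback g).obj E ≅ ∐ fun _ : Fin r => L) :
    ∃ (G : X.Modules) (n : ℕ), Ind G ∧ Nonempty (Retract G E) ∧ Nonempty (E ≅ ∐ fun _ : Fin n => G) := by
  obtain ⟨n, Gs, hGs, ⟨e₀⟩⟩ := exists_decomposition k _ hE le_rfl
  have hn : 0 < n := Nat.pos_of_ne_zero fun hn => by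
    subst hn
    exact hE0 ((isZero_sigma _ fun i => i.elim0).of_iso e₀)
  let R : ∀ i, Retract (Gs i) E := fun i => (sigmaRetract Gs i).trans ⟨e₀.inv, e₀.hom, e₀.inv_hom_id⟩
  have hpow : ∀ i, ∃ s : ℕ, Nonempty ((Scheme.Modules.pullback g).obj (Gs i) ≅ ∐ fun _ : Fin s => L) := fun i =>
    exists_pow_of_retract K hLi hLc (((R i).map (Scheme.Modules.pullback g)).trans ⟨e.hom, e.inv, e.hom_inv_id⟩)
  choose s hs using hpow
  refine ⟨Gs ⟨0, hn⟩, n, hGs _, ⟨R _⟩, ⟨e₀ ≪≫ Sigma.mapIso fun i => Nonempty.some ?_⟩⟩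
  exact nonempty_iso_of_isotypical h (isCoh_of_retract k (R i) hE) (isCoh_of_retract k (R _) hE) (hGs _) (hGs _)
    (hs i).some (hs _).some

end Groth.Agent.ASBun8
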