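import Groth.Agent.ASBun8.Invertible
import Groth.Prelude.Def_W4c1astiltbs12AS

/-!
# Isotypical bundles from Galois invariant summands
-/

set_option autoImplicit false
set_option linter.style.haveILetI false
set_option linter.unusedSectionVars false
set_option backward.isDefEq.respectTransparency.types false
set_option backward.isDefEq.respectTransparency false

universe u

open CategoryTheory CategoryTheory.Limits AlgebraicGeometry Opposite TopologicalSpace
open Groth.Agent.WeilFin Groth.Agent.Coherent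
open W4c1astiltbs12

namespace Groth.Agent.ASBun8

variable {k K : Type u} [Field k] [Field K] [Algebra k K] [IsGalois k K] {X : Scheme.{u}}
  (p : X ⟶ Spec (CommRingCat.of k)) [IsProper p]

theorem galAct_proj (σ : K ≃ₐ[k] K) : galAct p K σ ≫ proj p K = proj p K := by
  simp [galAct, proj]

theorem galAct_snd (σ : K ≃ₐ[k] K) : galAct p K σ ≫ W4bk4gw11416.baseChangeTo p K =
    W4bk4gw11416.baseChangeTo p K ≫ Spec.map (CommRingCat.ofHom (σ : K →+* K)) := by
  simp [galAct]

/-- An indecomposable bundle with an invariant indecomposable summand over `K` is isotypical. -/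
theorem isotypical_of_retract {M : X.Modules} (hM : FlatMod.IsFinLocFree M) (hMi : Ind M)
    {W : (W4bk4gw11416.baseChange p K).Modules} (hW : Ind W) (R : Retract W (bcMod p K M))
    (hinv : ∀ σ : K ≃ₐ[k] K, Nonempty ((Scheme.Modules.pullback (galAct p K σ)).obj W ≅ W)) :
    ∃ r : ℕ, 0 < r ∧ Nonempty (bcMod p K M ≅ pow W r) := by
  letI : X.Over (Spec (CommRingCat.of k)) := ⟨p⟩
  haveI : IsProper (X ↘ Spec (CommRingCat.of k)) := ‹IsProper p›
  letI : (W4bk4gw11416.baseChange p K).Over (Spec (CommRingCat.of K)) := ⟨W4bk4gw11416.baseChangeTo p K⟩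
  haveI : IsProper (W4bk4gw11416.baseChange p K ↘ Spec (CommRingCat.of K)) :=
    inferInstanceAs (IsProper (pullback.snd p (Spec.map (CommRingCat.ofHom (algebraMap k K)))))
  exact exists_pow_of_invariant (IsPullback.of_hasPullback p (Spec.map (CommRingCat.ofHom (algebraMap k K)))) hM hMi hW R
    (fun σ => galAct p K σ) (galAct_proj p) (galAct_snd p) hinv

/-- A Galois invariant indecomposable bundle gives an isotypical indecomposable bundle on `X`. -/
theorem exists_isotypical {W : (W4bk4gw11416.baseChange p K).Modules} (hW : FlatMod.IsFinLocFree W) (hWi : Ind W)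
    (hinv : ∀ σ : K ≃ₐ[k] K, Nonempty ((Scheme.Modules.pullback (galAct p K σ)).obj W ≅ W)) :
    ∃ (M : X.Modules) (r : ℕ), FlatMod.IsFinLocFree M ∧ Ind M ∧ 0 < r ∧ Nonempty (bcMod p K M ≅ pow W r) := by
  letI : X.Over (Spec (CommRingCat.of k)) := ⟨p⟩
  haveI : IsProper (X ↘ Spec (CommRingCat.of k)) := ‹IsProper p›
  letI : (W4bk4gw11416.baseChange p K).Over (Spec (CommRingCat.of K)) := ⟨W4bk4gw11416.baseChangeTo p K⟩
  haveI : IsProper (W4bk4gw11416.baseChange p K ↘ Spec (CommRingCat.of K)) :=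
    inferInstanceAs (IsProper (pullback.snd p (Spec.map (CommRingCat.ofHom (algebraMap k K)))))
  haveI := isLocallyNoetherian_X (X := X) k
  obtain ⟨N, hN, ⟨R⟩⟩ := exists_retract_pullback p (W := W) hW
  have hNc := Coherent.CohBC.isCoh_of_isFinLocFree hN
  obtain ⟨n, Ms, hMs, ⟨e⟩⟩ := exists_decomposition k _ hNc le_rfl
  let RM : ∀ i, Retract (Ms i) N := fun i => (sigmaRetract Ms i).trans ⟨e.inv, e.hom, e.inv_hom_id⟩
  have hPN : Coh.IsCoh (bcMod p K N) := isCoh_pullback (g := proj p K) hNc
  have hWc := isCoh_of_retract K R hPN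
  have hWI := indec_of_ind K hWc hWi
  let eP : bcMod p K N ≅ ∐ fun i => bcMod p K (Ms i) :=
    (Scheme.Modules.pullback (proj p K)).mapIso e ≪≫ pullbackSigma (proj p K) Ms
  have hMc : ∀ i, Coh.IsCoh (bcMod p K (Ms i)) := fun i =>
    isCoh_pullback (g := proj p K) (isCoh_of_retract k (RM i) hNc)
  have h1 := (mult_pos_iff K hWI hWc hPN).2 ⟨R⟩
  rw [mult_congr K hWI eP, mult_sigma K hWI hWc _ hMc] at h1
  obtain ⟨i, -, hi⟩ := Finset.exists_ne_zero_of_sum_ne_zero h1
  obtain ⟨R'⟩ := (mult_pos_iff K hWI hWc (hMc i)).1 hi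
  obtain ⟨r, hr, er⟩ := isotypical_of_retract p (WeilFin.isFinLocFree_retract (RM i) hN) (hMs i) hWi R' hinv
  exact ⟨Ms i, r, WeilFin.isFinLocFree_retract (RM i) hN, hMs i, hr, er⟩

end Groth.Agent.ASBun8
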