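import Groth.Agent.ASBun8.Simple
import Mathlib.FieldTheory.JacobsonNoether
import Mathlib.FieldTheory.IsSepClosed
import Mathlib.FieldTheory.IsAlgClosed.AlgebraicClosure
import Mathlib.RingTheory.Polynomial.SeparableDegree
import Mathlib.RingTheory.TensorProduct.Free

/-!
# Indecomposable modules over a separably closed field are absolutely indecomposable
-/

set_option autoImplicit false
set_option linter.style.haveILetI false
set_option linter.unusedSectionVars false
set_option backward.isDefEq.respectTransparency.types false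
set_option backward.isDefEq.respectTransparency false
set_option maxHeartbeats 1600000

universe u

open CategoryTheory CategoryTheory.Limits AlgebraicGeometry Opposite TopologicalSpace TensorProduct
open Groth.Agent.WeilFin Groth.Agent.Coherent

namespace Groth.Agent.ASBun8

section Algebra

variable {k : Type u} [Field k] [IsSepClosed k]

/-- In a division algebra over a separably closed field all elements are purely inseparable. -/
theorem exists_pow_mem_range {D : Type u} [DivisionRing D] [Algebra k D] [Module.Finite k D] (q : ℕ) [ExpChar k q]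
    (x : D) : ∃ n : ℕ, x ^ q ^ n ∈ (algebraMap k D).range := by
  have hint : IsIntegral k x := Algebra.IsIntegral.isIntegral x
  have hirr : Irreducible (minpoly k x) := minpoly.irreducible hint
  obtain ⟨g, hg, m, hm⟩ := hirr.hasSeparableContraction q
  have hq0 : q ≠ 0 := (expChar_pos k q).ne'
  have hgirr : Irreducible g := Polynomial.of_irreducible_expand_pow hq0 (hm ▸ hirr)
  have hdeg : g.degree = 1 := IsSepClosed.degree_eq_one_of_irreducible k hgirr hg
  refine ⟨m, ?_⟩
  have h0 : Polynomial.aeval (x ^ q ^ m) g = 0 := by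
    rw [← Polynomial.expand_aeval, hm, minpoly.aeval]
  rw [Polynomial.eq_X_add_C_of_degree_le_one hdeg.le, map_add, map_mul, Polynomial.aeval_C, Polynomial.aeval_C,
    Polynomial.aeval_X] at h0
  have hc : g.coeff 1 ≠ 0 := by
    have h1 : g.natDegree = 1 := Polynomial.natDegree_eq_of_degree_eq_some hdeg
    rw [← h1]
    exact Polynomial.leadingCoeff_ne_zero.2 hgirr.ne_zero
  refine ⟨-((g.coeff 1)⁻¹ * g.coeff 0), ?_⟩
  have h2 := congrArg (algebraMap k D (g.coeff 1)⁻¹ * ·) h0
  simp only [mul_add, ← mul_assoc, ← map_mul, inv_mul_cancel₀ hc, map_one, one_mul, mul_zero] at h2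
  rw [map_neg]
  exact (eq_neg_of_add_eq_zero_left h2).symm

/-- A finite division algebra over a separably closed field is commutative. -/
theorem comm_of_isSepClosed {D : Type u} [DivisionRing D] [Algebra k D] [Module.Finite k D] (x y : D) :
    x * y = y * x := by
  classical
  by_contra hxy
  have hne : Subring.center D ≠ ⊤ := fun h => hxy
    ((Subring.mem_center_iff.1 (h ▸ Subring.mem_top y : y ∈ Subring.center D)) x)
  obtain ⟨q, hq⟩ := ExpChar.exists k
  haveI : Algebra.IsAlgebraic (Subring.center D) D :=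
    ⟨fun z => by
      obtain ⟨P, hP0, hP⟩ := (Algebra.IsAlgebraic.isAlgebraic (R := k) z)
      let φ : k →+* Subring.center D := (algebraMap k D).codRestrict _ fun c =>
        Subring.mem_center_iff.2 fun w => (Algebra.commutes c w).symm
      refine ⟨P.map φ, (Polynomial.map_ne_zero_iff φ.injective).2 hP0, ?_⟩
      rw [Polynomial.aeval_def, Polynomial.eval₂_map]
      exact hP⟩
  obtain ⟨z, hz, hzsep⟩ := JacobsonNoether.exists_separable_and_not_isCentral D hne
  apply hz
  let Z := Subring.center D
  haveI : ExpChar Z q := expChar_of_injective_ringHom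
    (f := ((algebraMap k D).codRestrict _ fun c => Subring.mem_center_iff.2 fun w => (Algebra.commutes c w).symm :
      k →+* Z)) (RingHom.injective _) q
  obtain ⟨n, c, hc⟩ := exists_pow_mem_range (k := k) q z
  let a : Z := ⟨algebraMap k D c, Subring.mem_center_iff.2 fun w => (Algebra.commutes c w).symm⟩
  have hint : IsIntegral Z z := Algebra.IsIntegral.isIntegral z
  let f := minpoly Z z
  have hdvd : f ∣ Polynomial.X ^ q ^ n - Polynomial.C a := minpoly.dvd _ _ (by
    rw [map_sub, map_pow, Polynomial.aeval_X, Polynomial.aeval_C, ← hc]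
    exact sub_self _)
  let Ω := AlgebraicClosure Z
  haveI : ExpChar Ω q := expChar_of_injective_ringHom (algebraMap Z Ω).injective q
  obtain ⟨b, hb⟩ := IsAlgClosed.exists_pow_nat_eq (algebraMap Z Ω a) (pow_pos (expChar_pos Z q) n)
  have hΩ : (f.map (algebraMap Z Ω)) ∣ (Polynomial.X - Polynomial.C b) ^ q ^ n := by
    rw [sub_pow_expChar_pow, ← map_pow, hb]
    simpa using Polynomial.map_dvd (algebraMap Z Ω) hdvd
  have hsq : Squarefree (f.map (algebraMap Z Ω)) := (Polynomial.Separable.map hzsep).squarefree
  have hX : (f.map (algebraMap Z Ω)) ∣ Polynomial.X - Polynomial.C b := hsq.isRadical _ _ hΩ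
  have hd : f.degree ≤ 1 := by
    rw [← Polynomial.degree_map f (algebraMap Z Ω), ← Polynomial.degree_X_sub_C b]
    exact Polynomial.degree_le_of_dvd hX (Polynomial.X_sub_C_ne_zero b)
  have hd1 : f.degree = 1 := le_antisymm hd (Nat.WithBot.one_le_iff_zero_lt.2 (minpoly.degree_pos hint))
  obtain ⟨w, hw⟩ := minpoly.mem_range_of_degree_eq_one Z z hd1
  rw [← hw]
  exact w.2

/-- Idempotents of `K ⊗ D`, `D` a field purely inseparable over `k`, are trivial. -/
theorem idem_eq_zero_or_one {K : Type u} [Field K] [Algebra k K] {D : Type u} [Field D] [Algebra k D]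
    [Module.Finite k D] (e : K ⊗[k] D) (he : e * e = e) : e = 0 ∨ e = 1 := by
  classical
  obtain ⟨q, hq⟩ := ExpChar.exists k
  haveI : ExpChar (K ⊗[k] D) q := expChar_of_injective_ringHom
    (f := algebraMap k (K ⊗[k] D)) (RingHom.injective _) q
  have key : ∀ z : K ⊗[k] D, ∃ (n : ℕ) (c : K), z ^ q ^ n = c ⊗ₜ[k] (1 : D) := by
    intro z
    induction z using TensorProduct.induction_on with
    | zero => exact ⟨0, 0, by simp [(expChar_pos k q).ne']⟩
    | tmul a d =>
      obtain ⟨n, c, hc⟩ := exists_pow_mem_range (k := k) q d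
      refine ⟨n, c • a ^ q ^ n, ?_⟩
      rw [Algebra.TensorProduct.tmul_pow, ← hc, Algebra.algebraMap_eq_smul_one, TensorProduct.smul_tmul]
    | add u v hu hv =>
      obtain ⟨n, c, hc⟩ := hu
      obtain ⟨m, d, hd⟩ := hv
      refine ⟨n + m, c ^ q ^ m + d ^ q ^ n, ?_⟩
      rw [add_pow_expChar_pow, TensorProduct.add_tmul]
      congr 1
      · rw [pow_add, pow_mul, hc, Algebra.TensorProduct.tmul_pow, one_pow]
      · rw [add_comm n m, pow_add, pow_mul, hd, Algebra.TensorProduct.tmul_pow, one_pow]
  obtain ⟨n, c, hc⟩ := key e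
  have hpow : ∀ m : ℕ, 0 < m → e ^ m = e := fun m hm => by
    induction m with
    | zero => omega
    | succ m ih =>
      rcases Nat.eq_zero_or_pos m with rfl | hm'
      · rw [pow_one]
      · rw [pow_succ, ih hm', he]
  rw [hpow _ (pow_pos (expChar_pos k q) n)] at hc
  have hinj : Function.Injective fun c : K => c ⊗ₜ[k] (1 : D) :=
    Algebra.TensorProduct.includeLeft_injective (S := k) (algebraMap k D).injective
  have hcc : c * c = c := hinj (by
    show (c * c) ⊗ₜ[k] (1 : D) = c ⊗ₜ[k] (1 : D)
    rw [← hc, ← mul_one (1 : D), ← Algebra.TensorProduct.tmul_mul_tmul, ← hc, he])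
  rcases eq_or_ne c 0 with h | h
  · exact Or.inl (hc.trans (by rw [h, TensorProduct.zero_tmul]))
  · exact Or.inr (hc.trans (by rw [mul_eq_left₀ h |>.1 hcc]; rfl))

end Algebra

/-- Modules whose idempotents are trivial are indecomposable. -/
theorem ind_of_idem {X : Scheme.{u}} {T : X.Modules} (h0 : ¬ IsZero T)
    (hid : ∀ e : T ⟶ T, e ≫ e = e → e = 0 ∨ e = 𝟙 T) : Ind T := by
  refine ⟨h0, fun A B ⟨e⟩ => ?_⟩
  rcases hid (e.hom ≫ biprod.fst ≫ biprod.inl ≫ e.inv) (by simp) with hr | hr
  · refine Or.inl ((IsZero.iff_id_eq_zero A).2 ?_)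
    calc 𝟙 A = (biprod.inl ≫ e.inv) ≫ (e.hom ≫ biprod.fst ≫ biprod.inl ≫ e.inv) ≫ e.hom ≫ biprod.fst := by simp
      _ = 0 := by rw [hr, zero_comp, comp_zero]
  · refine Or.inr ((IsZero.iff_id_eq_zero B).2 ?_)
    calc 𝟙 B = (biprod.inr ≫ e.inv) ≫ 𝟙 T ≫ e.hom ≫ biprod.snd := by simp
      _ = 0 := by rw [← hr]; simp

variable {k K : Type u} [Field k] [Field K] [Algebra k K] {X X' : Scheme.{u}}
  [X.Over (Spec (CommRingCat.of k))] [X'.Over (Spec (CommRingCat.of K))] {g : X' ⟶ X}
  (h : IsPullback g (X' ↘ Spec (CommRingCat.of K)) (X ↘ Spec (CommRingCat.of k))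
    (Spec.map (CommRingCat.ofHom (algebraMap k K))))
  [IsProper (X ↘ Spec (CommRingCat.of k))]

include h in
/-- Over a separably closed field an indecomposable bundle stays indecomposable after any extension. -/
theorem ind_pullback_of_isSepClosed [IsSepClosed k] {M : X.Modules} (hM : FlatMod.IsFinLocFree M) (hMi : Ind M) :
    Ind ((Scheme.Modules.pullback g).obj M) := by
  classical
  haveI := isLocallyNoetherian_X (X := X) k
  haveI := EulerLib.isNoetherian_of_proper (X := X) k
  have hMc := Coherent.CohBC.isCoh_of_isFinLocFree hM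
  haveI := hMc.1
  refine ind_of_idem (fun hz => hMi.1 (isZero_of_isZero_pullback h hz)) fun e he => ?_
  haveI : Module.Finite k (End M) := TF7.finite_hom_coh k hMc hMc
  haveI : IsArtinianRing (End M) := IsArtinianRing.of_finite k (End M)
  haveI : Nontrivial (End M) := ⟨⟨1, 0, fun h' => hMi.1 ((IsZero.iff_id_eq_zero M).2 h')⟩⟩
  have hun : ∀ x : End M, IsUnit x ∨ IsNilpotent x := fun x =>
    VB5.isUnit_or_isNilpotent (k := k) (A := End M) (fun e he => VB5.idem_of_indecomposable hMi.2 e he) x
  let J := Ring.jacobson (End M)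
  let D := End M ⧸ J
  haveI : Nontrivial D := Ideal.Quotient.nontrivial_iff.2 fun h1 => by
    have h2 : (1 : End M) ∈ J := h1 ▸ Submodule.mem_top
    replace h2 : (1 : End M) ∈ Ring.jacobson (End M) := h2
    rw [← Ideal.jacobson_bot, Ideal.mem_jacobson_iff] at h2
    obtain ⟨z, hz⟩ := h2 (-1)
    simp at hz
    exact hMi.1 ((IsZero.iff_id_eq_zero M).2 hz)
  have hD : ∀ d : D, IsUnit d ∨ d = 0 := fun d => by
    obtain ⟨x, rfl⟩ := Ideal.Quotient.mk_surjective d
    rcases hun x with hu | hn
    · exact Or.inl (hu.map _)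
    · exact Or.inr (Ideal.Quotient.eq_zero_iff_mem.2
        (mem_jacobson_of_not_isUnit hun fun hu => hn.not_isUnit hu))
  let _ : DivisionRing D := DivisionRing.ofIsUnitOrEqZero hD
  haveI : Module.Finite k D := Module.Finite.of_surjective (Ideal.Quotient.mkₐ k J).toLinearMap
    Ideal.Quotient.mk_surjective
  let _ : Field D := { (inferInstance : DivisionRing D) with mul_comm := comm_of_isSepClosed (k := k) }
  let q : K ⊗[k] End M →ₐ[K] K ⊗[k] D :=
    Algebra.TensorProduct.map (AlgHom.id K K) (Ideal.Quotient.mkₐ k J)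
  let Φ := GenOneBC5.homBC h M M
  have hΦ := GenOneBC5.bijective_homBC h M M hM hM
  have hmul : ∀ z w : K ⊗[k] End M, Φ (z * w) = Φ w ≫ Φ z := by
    intro z w
    induction z using TensorProduct.induction_on with
    | zero => rw [zero_mul, map_zero, comp_zero]
    | add a b ha hb => rw [add_mul, map_add, map_add, Preadditive.comp_add, ha, hb]
    | tmul b f =>
      induction w using TensorProduct.induction_on with
      | zero => rw [mul_zero, map_zero, zero_comp]
      | add c d hc hd => rw [mul_add, map_add, map_add, Preadditive.add_comp, hc, hd]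
      | tmul b' f' =>
        rw [Algebra.TensorProduct.tmul_mul_tmul]
        show GenOneBC5.homBC h M M ((b * b') ⊗ₜ (f' ≫ f)) =
          GenOneBC5.homBC h M M (b' ⊗ₜ (show M ⟶ M from f')) ≫ GenOneBC5.homBC h M M (b ⊗ₜ (show M ⟶ M from f))
        rw [GenOneBC5.homBC_tmul, GenOneBC5.homBC_tmul, GenOneBC5.homBC_tmul, Functor.map_comp, Linear.smul_comp,
          Linear.comp_smul, smul_smul, mul_comm b]
  have hΦ1 : Φ (1 : K ⊗[k] End M) = 𝟙 _ := by
    show GenOneBC5.homBC h M M ((1 : K) ⊗ₜ (𝟙 M)) = _
    rw [GenOneBC5.homBC_tmul, one_smul]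
    exact (Scheme.Modules.pullback g).map_id M
  obtain ⟨N, hN⟩ : IsNilpotent J := IsSemiprimaryRing.isNilpotent
  have hzero : ∀ z : K ⊗[k] End M, z * z = z → q z = 0 → z = 0 := by
    intro z hz hqz
    have hmem : z ∈ Submodule.span K ((fun x : End M => (1 : K) ⊗ₜ[k] x) '' (J : Set (End M))) := by
      have hex := (lTensor_exact K (f := (J.restrictScalars k).subtype) (g := (Ideal.Quotient.mkₐ k J).toLinearMap)
        (LinearMap.exact_iff.2 (by ext x; simp [Ideal.Quotient.eq_zero_iff_mem])) Ideal.Quotient.mk_surjective z).1 hqz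
      obtain ⟨w, rfl⟩ := hex
      clear hqz hz
      induction w using TensorProduct.induction_on with
      | zero => rw [map_zero]; exact zero_mem _
      | add a b ha hb => rw [map_add]; exact add_mem ha hb
      | tmul b x =>
        have h1 : b • ((1 : K) ⊗ₜ[k] (x : End M)) ∈
            Submodule.span K ((fun x : End M => (1 : K) ⊗ₜ[k] x) '' (J : Set (End M))) :=
          Submodule.smul_mem _ _ (Submodule.subset_span ⟨x, x.2, rfl⟩)
        simpa [TensorProduct.smul_tmul'] using h1
    let V : ℕ → Submodule K (K ⊗[k] End M) :=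
      fun m => Submodule.span K ((fun x : End M => (1 : K) ⊗ₜ[k] x) '' (J ^ m : Ideal (End M)))
    have hstep : ∀ m, ∀ t ∈ V m, t * z ∈ V (m + 1) := by
      intro m t ht
      generalize z = s at hmem ⊢
      induction ht using Submodule.span_induction with
      | mem t ht =>
        obtain ⟨x, hx, rfl⟩ := ht
        induction hmem using Submodule.span_induction with
        | mem s hs =>
          obtain ⟨y, hy, rfl⟩ := hs
          refine Submodule.subset_span ⟨x * y, ?_, by rw [Algebra.TensorProduct.tmul_mul_tmul, one_mul]⟩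
          rw [SetLike.mem_coe, Submodule.pow_succ]
          exact Ideal.mul_mem_mul hx hy
        | zero => rw [mul_zero]; exact zero_mem _
        | add p r _ _ hp hr => rw [mul_add]; exact add_mem hp hr
        | smul a p _ hp => rw [mul_smul_comm]; exact Submodule.smul_mem _ _ hp
      | zero => rw [zero_mul]; exact zero_mem _
      | add p r _ _ hp hr => rw [add_mul]; exact add_mem hp hr
      | smul a p _ hp => rw [smul_mul_assoc]; exact Submodule.smul_mem _ _ hp
    have hzV : ∀ m, z ∈ V (m + 1) := by
      intro m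
      induction m with
      | zero =>
        show z ∈ Submodule.span K ((fun x : End M => (1 : K) ⊗ₜ[k] x) '' (J ^ (0 + 1) : Ideal (End M)))
        rw [zero_add, Submodule.pow_one]
        exact hmem
      | succ m ih => simpa only [hz] using hstep _ _ ih
    have hVN : V (N + 1) ≤ ⊥ := Submodule.span_le.2 (by
      rintro _ ⟨x, hx, rfl⟩
      rw [show J ^ (N + 1) = 0 from by rw [Submodule.pow_succ, show J ^ N = 0 from hN, zero_mul]] at hx
      have hx0 : x = 0 := hx
      show (1 : K) ⊗ₜ[k] x = 0
      rw [hx0, TensorProduct.tmul_zero])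
    exact hVN (hzV N)
  obtain ⟨z₀, rfl⟩ := hΦ.2 e
  let z : K ⊗[k] End M := z₀
  have hz : z * z = z := hΦ.1 ((hmul z z).trans he)
  rcases idem_eq_zero_or_one (k := k) (q z) (by rw [← map_mul, hz]) with h1 | h1
  · exact Or.inl ((congrArg Φ (hzero z hz h1)).trans (map_zero Φ))
  · refine Or.inr ?_
    have h2 := hzero (1 - z) (by rw [mul_sub, mul_one, sub_mul, one_mul, hz, sub_self, sub_zero])
      (by rw [map_sub, map_one, h1, sub_self])
    exact (congrArg Φ (sub_eq_zero.1 h2).symm).trans hΦ1

end Groth.Agent.ASBun8
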