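import Groth.Agent.ASBun8.PurelyInsep
import Groth.Agent.ASBun8.SepClosed
import Groth.Agent.ASBun8.Main
import Groth.Agent.ASBun8.Iso

/-!
# Every twist is the type of an indecomposable bundle
-/

set_option autoImplicit false
set_option linter.style.haveILetI false
set_option linter.unusedSectionVars false
set_option backward.isDefEq.respectTransparency.types false
set_option backward.isDefEq.respectTransparency false
set_option maxHeartbeats 1600000

universe u

open CategoryTheory CategoryTheory.Limits AlgebraicGeometry Opposite TopologicalSpace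
open Groth.Agent.PicLib Groth.Agent.WeilFin
open W4c1astiltbs12

namespace Groth.Agent.ASBun8

variable {k K : Type u} [Field k] [Field K] [Algebra k K] {X : Scheme.{u}}
  {p : X ⟶ Spec (CommRingCat.of k)} {n : ℕ}

/-- Every twist on a split Severi–Brauer variety is the type of an indecomposable bundle. -/
theorem exists_isTwPow_of_twist [IsProper p] [IsAlgClosure k K] (e : BrSev.Splitting p K n) (j : ℤ) :
    ∃ (W : X.Modules) (r : ℕ), FlatMod.IsFinLocFree W ∧ Ind W ∧ 0 < r ∧ BrSev.IsTwPow e j r W := by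
  classical
  haveI : IsAlgClosed K := IsAlgClosure.isAlgClosed k
  haveI : Algebra.IsAlgebraic k K := IsAlgClosure.isAlgebraic
  let F : IntermediateField k K := separableClosure k K
  haveI hF : IsSepClosure k F := separableClosure.isSepClosure k K
  haveI : IsSepClosed F := hF.sep_closed
  haveI : IsGalois k F := IsSepClosure.isGalois
  haveI : Algebra.IsAlgebraic F K := Algebra.IsAlgebraic.tower_top (K := k) F
  haveI : Normal k K := IsAlgClosure.normal k K
  haveI : IsPurelyInseparable F K := separableClosure.isPurelyInseparable k K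
  letI : X.Over (Spec (CommRingCat.of k)) := ⟨p⟩
  haveI : IsProper (X ↘ Spec (CommRingCat.of k)) := ‹IsProper p›
  let pF : W4bk4gw11416.baseChange p F ⟶ Spec (CommRingCat.of F) := W4bk4gw11416.baseChangeTo p F
  haveI : IsProper pF :=
    inferInstanceAs (IsProper (pullback.snd p (Spec.map (CommRingCat.ofHom (algebraMap k F)))))
  letI : (W4bk4gw11416.baseChange p K).Over (Spec (CommRingCat.of K)) := ⟨W4bk4gw11416.baseChangeTo p K⟩
  haveI : IsProper (W4bk4gw11416.baseChange p K ↘ Spec (CommRingCat.of K)) :=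
    inferInstanceAs (IsProper (pullback.snd p (Spec.map (CommRingCat.ofHom (algebraMap k K)))))
  letI : (W4bk4gw11416.baseChange p F).Over (Spec (CommRingCat.of F)) := ⟨pF⟩
  haveI : IsProper (W4bk4gw11416.baseChange p F ↘ Spec (CommRingCat.of F)) := ‹IsProper pF›
  haveI := isLocallyNoetherian_X (X := X) k
  haveI := isLocallyNoetherian_X (X := W4bk4gw11416.baseChange p F) F
  haveI := isLocallyNoetherian_X (X := W4bk4gw11416.baseChange p K) K
  have hmap : Spec.map (CommRingCat.ofHom (algebraMap F K)) ≫ Spec.map (CommRingCat.ofHom (algebraMap k F)) =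
      Spec.map (CommRingCat.ofHom (algebraMap k K)) := by
    rw [← Spec.map_comp]
    rfl
  let u : W4bk4gw11416.baseChange p K ⟶ W4bk4gw11416.baseChange p F :=
    pullback.lift (pullback.fst _ _) (pullback.snd _ _ ≫ Spec.map (CommRingCat.ofHom (algebraMap F K)))
      (by rw [Category.assoc, hmap, pullback.condition])
  have hu : u ≫ proj p F = proj p K := pullback.lift_fst _ _ _
  have hsq : IsPullback u (W4bk4gw11416.baseChange p K ↘ Spec (CommRingCat.of K))
      (W4bk4gw11416.baseChange p F ↘ Spec (CommRingCat.of F)) (Spec.map (CommRingCat.ofHom (algebraMap F K))) := by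
    refine IsPullback.of_right ?_ (pullback.lift_snd _ _ _) (IsPullback.of_hasPullback p (Spec.map (CommRingCat.ofHom (algebraMap k F))))
    rw [hmap]
    show IsPullback (u ≫ proj p F) _ _ _
    rw [hu]
    exact IsPullback.of_hasPullback _ _
  let c : W4bk4gw11416.baseChange p K ≅ BrSev.bc pF K := hsq.isoPullback
  let e' : BrSev.Splitting pF K n := ⟨c.symm ≪≫ e.iso, by
    rw [Iso.trans_hom, Category.assoc, e.comm]
    exact hsq.isoPullback_inv_snd⟩
  obtain ⟨N, hN, ⟨R⟩⟩ := exists_retract_twist e' j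
  let T := e.twist j
  have hT : PicF.IsInvertible T := isInvertible_twist e j
  haveI := irreducibleSpace_bc e
  haveI : ConnectedSpace ↥(W4bk4gw11416.baseChange p K) := inferInstanceAs (ConnectedSpace ↥(BrSev.bc p K))
  have hTi : Ind T := ind_of_invertible hT
  have eT : (Scheme.Modules.pullback c.hom).obj (e'.twist j) ≅ T :=
    (Scheme.Modules.pullbackComp c.hom (c.symm ≪≫ e.iso).hom).app _ ≪≫
      (Scheme.Modules.pullbackCongr (show c.hom ≫ (c.symm ≪≫ e.iso).hom = e.iso.hom by simp)).app _
  have eN : (Scheme.Modules.pullback c.hom).obj (BrSev.bcMod pF K N) ≅ (Scheme.Modules.pullback u).obj N :=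
    (Scheme.Modules.pullbackComp c.hom (BrSev.proj pF K)).app N ≪≫
      (Scheme.Modules.pullbackCongr (show c.hom ≫ BrSev.proj pF K = u from hsq.isoPullback_hom_fst)).app N
  let RT : Retract T ((Scheme.Modules.pullback u).obj N) :=
    (⟨eT.inv, eT.hom, eT.inv_hom_id⟩ : Retract T _).trans
      ((R.map (Scheme.Modules.pullback c.hom)).trans ⟨eN.hom, eN.inv, eN.hom_inv_id⟩)
  have hNc := Coherent.CohBC.isCoh_of_isFinLocFree hN
  obtain ⟨m, Ws, hWs, ⟨eW⟩⟩ := exists_decomposition F _ hNc le_rfl
  let RW : ∀ i, Retract (Ws i) N := fun i => (sigmaRetract Ws i).trans ⟨eW.inv, eW.hom, eW.inv_hom_id⟩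
  have hWl : ∀ i, FlatMod.IsFinLocFree (Ws i) := fun i => WeilFin.isFinLocFree_retract (RW i) hN
  have hWc : ∀ i, Coh.IsCoh ((Scheme.Modules.pullback u).obj (Ws i)) := fun i =>
    isCoh_pullback (g := u) (Coherent.CohBC.isCoh_of_isFinLocFree (hWl i))
  have hTc : Coh.IsCoh T := Coherent.CohBC.isCoh_of_isFinLocFree (RelVAFib14.isFinLocFree_of_isInvertible hT)
  have hTI := indec_of_ind K hTc hTi
  have h1 := (mult_pos_iff K hTI hTc (isCoh_pullback (g := u) hNc)).2 ⟨RT⟩
  rw [mult_congr K hTI ((Scheme.Modules.pullback u).mapIso eW ≪≫ pullbackSigma u Ws),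
    mult_sigma K hTI hTc _ hWc] at h1
  obtain ⟨i, -, hi⟩ := Finset.exists_ne_zero_of_sum_ne_zero h1
  obtain ⟨ei⟩ := (mult_pos_iff_iso K hTI (indec_of_ind K (hWc i) (ind_pullback_of_isSepClosed hsq (hWl i) (hWs i)))
    hTc (hWc i)).1 hi
  have hinv : ∀ σ : F ≃ₐ[k] F, Nonempty ((Scheme.Modules.pullback (galAct p F σ)).obj (Ws i) ≅ Ws i) := by
    intro σ
    let σ' : K ≃ₐ[k] K := σ.liftNormal K
    have hcomm : galAct p K σ' ≫ u = u ≫ galAct p F σ := by
      have hs : Spec.map (CommRingCat.ofHom (σ' : K →+* K)) ≫ Spec.map (CommRingCat.ofHom (algebraMap F K)) =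
          Spec.map (CommRingCat.ofHom (algebraMap F K)) ≫ Spec.map (CommRingCat.ofHom (σ : F →+* F)) := by
        rw [← Spec.map_comp, ← Spec.map_comp]
        congr 1
        ext x
        exact σ.liftNormal_commutes K x
      apply pullback.hom_ext
      · simp [galAct, u]
      · simp [galAct, u, hs]
    obtain ⟨iσ⟩ := nonempty_galAct_twist e σ' j
    refine nonempty_iso_of_iso_pullback hsq _ (isCoh_pullback (g := galAct p F σ) (Coherent.CohBC.isCoh_of_isFinLocFree (hWl i)))
      (Coherent.CohBC.isCoh_of_isFinLocFree (hWl i)) le_rfl ⟨?_⟩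
    exact (Scheme.Modules.pullbackComp u (galAct p F σ)).app _ ≪≫ (Scheme.Modules.pullbackCongr hcomm.symm).app _ ≪≫
      ((Scheme.Modules.pullbackComp (galAct p K σ') u).app _).symm ≪≫
      (Scheme.Modules.pullback (galAct p K σ')).mapIso ei.symm ≪≫ iσ ≪≫ ei
  obtain ⟨M, r, hM, hMi, hr, ⟨eM⟩⟩ := exists_isotypical p (hWl i) (hWs i) hinv
  exact ⟨M, r, hM, hMi, hr, ⟨((Scheme.Modules.pullbackComp u (proj p F)).app M ≪≫ (Scheme.Modules.pullbackCongr hu).app M).symm ≪≫
    (Scheme.Modules.pullback u).mapIso eM ≪≫ pullbackSigma u _ ≪≫ Sigma.mapIso fun _ => ei.symm⟩⟩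

end Groth.Agent.ASBun8
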