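import Groth.Agent.ASBun8.Twist
import Groth.Agent.EulerPn5.SplitPull
import Groth.Agent.AmpleLib.Tensor

/-!
# Tensor products of sums of copies
-/

set_option autoImplicit false
set_option linter.style.haveILetI false
set_option linter.unusedSectionVars false
set_option backward.isDefEq.respectTransparency.types false
set_option backward.isDefEq.respectTransparency false

universe u

open CategoryTheory CategoryTheory.Limits AlgebraicGeometry Opposite TopologicalSpace
open Groth.Agent.AmpleLib Groth.Agent.PicLib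

namespace Groth.Agent.ASBun8

variable {Y : Scheme.{u}}

/-- Tensoring on the right. -/
noncomputable def tensR (N : Y.Modules) : Y.Modules ⥤ Y.Modules where
  obj A := CohB1.tensorMod A N
  map f := tensorMap f (𝟙 N)
  map_id A := AmpleLib.hom_ext fun U a b => by
    rw [tensorMap_tmul]
    rfl
  map_comp f g := AmpleLib.hom_ext fun U a b => by
    show (tensorMap (f ≫ g) (𝟙 N)).app U (tmul a b) =
      (tensorMap g (𝟙 N)).app U ((tensorMap f (𝟙 N)).app U (tmul a b))
    rw [tensorMap_tmul, tensorMap_tmul, tensorMap_tmul]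
    rfl

instance (N : Y.Modules) : (tensR N).Additive where
  map_add {A B f g} := AmpleLib.hom_ext fun U a b => by
    rw [Scheme.Modules.Hom.add_app]
    show (tensorMap (f + g) (𝟙 N)).app U (tmul a b) =
      (tensorMap f (𝟙 N)).app U (tmul a b) + (tensorMap g (𝟙 N)).app U (tmul a b)
    rw [tensorMap_tmul, tensorMap_tmul, tensorMap_tmul, Scheme.Modules.Hom.add_app]
    exact tmul_add_left _ _ _

/-- `(∐ F) ⊗ N ≅ ∐ (F ⊗ N)`. -/
noncomputable def sigmaTensorIso {n : ℕ} (F : Fin n → Y.Modules) (N : Y.Modules) :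
    CohB1.tensorMod (∐ F) N ≅ ∐ fun i => CohB1.tensorMod (F i) N :=
  haveI : HasFiniteBiproducts Y.Modules := HasFiniteBiproducts.of_hasFiniteCoproducts
  (tensR N).mapIso (biproduct.isoCoproduct F).symm ≪≫ (tensR N).mapBiproduct F ≪≫ biproduct.isoCoproduct _

/-- `r` copies of `s` copies are `r * s` copies. -/
noncomputable def powPowIso (M : Y.Modules) (r s : ℕ) :
    (∐ fun _ : Fin r => ∐ fun _ : Fin s => M) ≅ ∐ fun _ : Fin (r * s) => M :=
  sigmaSigmaIso (fun _ : Fin r => Fin s) (fun (_ : Fin r) (_ : Fin s) => M) ≪≫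
    Sigma.whiskerEquiv (g := fun _ : Fin (r * s) => M) ((Equiv.sigmaEquivProd (Fin r) (Fin s)).trans finProdFinEquiv) (fun _ => Iso.refl _)

/-- Tensor product of two powers. -/
theorem nonempty_pow_tensor_pow {A B C : Y.Modules} (e : CohB1.tensorMod A B ≅ C) (r s : ℕ) :
    Nonempty (CohB1.tensorMod (∐ fun _ : Fin r => A) (∐ fun _ : Fin s => B) ≅ ∐ fun _ : Fin (r * s) => C) :=
  ⟨sigmaTensorIso _ _ ≪≫ (Sigma.mapIso fun _ => tensorComm _ _ ≪≫ sigmaTensorIso _ _ ≪≫
    Sigma.mapIso fun _ => tensorComm _ _ ≪≫ e) ≪≫ powPowIso C r s⟩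

variable {k K : Type u} [Field k] [Field K] [Algebra k K] {X : Scheme.{u}}
  {p : X ⟶ Spec (CommRingCat.of k)} {n : ℕ} (e : BrSev.Splitting p K n)

theorem nonempty_twist_tensor (a b : ℤ) : Nonempty (CohB1.tensorMod (e.twist a) (e.twist b) ≅ e.twist (a + b)) := by
  have h : PicM.of (isInvertible_twist e a) * PicM.of (isInvertible_twist e b) = PicM.of (isInvertible_twist e (a + b)) :=
    tX_add e a b
  rw [PicM.of_mul] at h
  exact (PicM.of_eq_iff _ _).1 h

theorem isTwPow_tensor {j l : ℤ} {r s : ℕ} {W W' : X.Modules} (hW : BrSev.IsTwPow e j r W)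
    (hW' : BrSev.IsTwPow e l s W') : BrSev.IsTwPow e (j + l) (r * s) (CohB1.tensorMod W W') := by
  obtain ⟨a⟩ := hW
  obtain ⟨b⟩ := hW'
  obtain ⟨c⟩ := EulerPn5.nonempty_pullback_tensor (BrSev.proj p K) W W' a b
  obtain ⟨t⟩ := nonempty_twist_tensor e j l
  obtain ⟨d⟩ := nonempty_pow_tensor_pow t r s
  exact ⟨c ≪≫ d⟩

end Groth.Agent.ASBun8
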