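import Groth.Agent.ASBun8.Simple
import Groth.Agent.ASBun8.Tensor
import Groth.Agent.CSA.Index
import Mathlib.RingTheory.TensorProduct.Maps

/-!
# Endomorphisms of powers and of tensor products
-/

set_option autoImplicit false
set_option linter.style.haveILetI false
set_option linter.unusedSectionVars false
set_option backward.isDefEq.respectTransparency.types false
set_option backward.isDefEq.respectTransparency false
set_option maxHeartbeats 1600000

universe u

open CategoryTheory CategoryTheory.Limits AlgebraicGeometry Opposite TopologicalSpace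
open Groth.Agent.Coherent Groth.Agent.PicLib Groth.Agent.AmpleLib
open scoped TensorProduct

namespace Groth.Agent.ASBun8

section

variable (k : Type u) [Field k] {X : Scheme.{u}} [X.Over (Spec (CommRingCat.of k))] (W : X.Modules) (t : ℕ)

/-- The projection to a summand. -/
noncomputable def piPow (a : Fin t) : (∐ fun _ : Fin t => W) ⟶ W :=
  (sigmaRetract (fun _ : Fin t => W) a).r

theorem ι_piPow (b a : Fin t) : Sigma.ι (fun _ : Fin t => W) b ≫ piPow W t a = if b = a then 𝟙 W else 0 := by
  show Sigma.ι (fun _ : Fin t => W) b ≫ (Sigma.desc fun i => if h : i = a then eqToHom (congrArg (fun _ : Fin t => W) h) else 0) = _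
  rw [Sigma.ι_desc]
  by_cases hb : b = a
  · rw [dif_pos hb, if_pos hb]; rfl
  · rw [dif_neg hb, if_neg hb]

theorem sum_piPow : ∑ a, piPow W t a ≫ Sigma.ι (fun _ : Fin t => W) a = 𝟙 _ := by
  refine Sigma.hom_ext _ _ fun b => ?_
  rw [Preadditive.comp_sum, Category.comp_id, Finset.sum_eq_single b]
  · rw [← Category.assoc, ι_piPow, if_pos rfl, Category.id_comp]
  · intro a _ ha
    rw [← Category.assoc, ι_piPow, if_neg (Ne.symm ha), zero_comp]
  · exact fun h => absurd (Finset.mem_univ b) h

/-- Endomorphisms of a power are matrices of endomorphisms. -/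
noncomputable def endPow : End (∐ fun _ : Fin t => W) ≃ₐ[k] Matrix (Fin t) (Fin t) (End W) :=
  AlgEquiv.ofLinearEquiv
    { toFun := fun φ => Matrix.of fun a b => End.of (Sigma.ι (fun _ : Fin t => W) b ≫ End.asHom φ ≫ piPow W t a)
      map_add' := fun φ ψ => Matrix.ext fun a b => by
        show Sigma.ι (fun _ : Fin t => W) b ≫ (End.asHom φ + End.asHom ψ) ≫ piPow W t a = _
        rw [Preadditive.add_comp, Preadditive.comp_add]; rfl
      map_smul' := fun c φ => Matrix.ext fun a b => by
        show Sigma.ι (fun _ : Fin t => W) b ≫ (c • End.asHom φ) ≫ piPow W t a = _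
        rw [Linear.smul_comp, Linear.comp_smul]; rfl
      invFun := fun M => End.of (Sigma.desc fun b => ∑ a, End.asHom (M a b) ≫ Sigma.ι (fun _ : Fin t => W) a)
      left_inv := fun φ => by
        refine Sigma.hom_ext _ _ fun b => ?_
        show Sigma.ι (fun _ : Fin t => W) b ≫ Sigma.desc _ = Sigma.ι (fun _ : Fin t => W) b ≫ End.asHom φ
        rw [Sigma.ι_desc]
        conv_rhs => rw [← Category.comp_id (End.asHom φ), ← sum_piPow W t, Preadditive.comp_sum, Preadditive.comp_sum]
        exact Finset.sum_congr rfl fun a _ => by simp [Category.assoc]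
      right_inv := fun M => Matrix.ext fun a b => by
        show Sigma.ι (fun _ : Fin t => W) b ≫ Sigma.desc _ ≫ piPow W t a = End.asHom (M a b)
        rw [Sigma.ι_desc_assoc, Preadditive.sum_comp, Finset.sum_eq_single a]
        · rw [Category.assoc, ι_piPow, if_pos rfl, Category.comp_id]
        · intro c _ hc
          rw [Category.assoc, ι_piPow, if_neg hc, comp_zero]
        · exact fun h => absurd (Finset.mem_univ a) h }
    (Matrix.ext fun a b => by
      show Sigma.ι (fun _ : Fin t => W) b ≫ 𝟙 _ ≫ piPow W t a = (1 : Matrix (Fin t) (Fin t) (End W)) a b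
      rw [Category.id_comp, ι_piPow, Matrix.one_apply]
      by_cases hab : a = b
      · rw [if_pos hab, if_pos hab.symm]; rfl
      · rw [if_neg hab, if_neg (Ne.symm hab)])
    (fun φ ψ => Matrix.ext fun a c => by
      rw [Matrix.mul_apply]
      show Sigma.ι (fun _ : Fin t => W) c ≫ (End.asHom ψ ≫ End.asHom φ) ≫ piPow W t a = ∑ b, (Sigma.ι (fun _ : Fin t => W) c ≫ End.asHom ψ ≫ piPow W t b) ≫
        (Sigma.ι (fun _ : Fin t => W) b ≫ End.asHom φ ≫ piPow W t a)
      conv_lhs => rw [Category.assoc, ← Category.id_comp (End.asHom φ ≫ piPow W t a), ← sum_piPow W t,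
        Preadditive.sum_comp, Preadditive.comp_sum, Preadditive.comp_sum]
      exact Finset.sum_congr rfl fun b _ => by simp [Category.assoc])

/-- Conjugation by an isomorphism, as algebras. -/
noncomputable def endConj {A B : X.Modules} (e : A ≅ B) : End A ≃ₐ[k] End B :=
  AlgEquiv.ofLinearEquiv (Linear.homCongr k e e)
    (by show e.inv ≫ 𝟙 A ≫ e.hom = 𝟙 B; simp)
    (fun f g => by
      show e.inv ≫ (End.asHom g ≫ End.asHom f) ≫ e.hom = (e.inv ≫ End.asHom g ≫ e.hom) ≫ (e.inv ≫ End.asHom f ≫ e.hom)
      simp)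

variable {A B : Type*} [Ring A] [Algebra k A] [Ring B] [Algebra k B] {Q P : X.Modules}

/-- Two algebras acting on two modules act on their tensor product. -/
noncomputable def endTensor (F : A →ₐ[k] End Q) (G : B →ₐ[k] End P) : A ⊗[k] B →ₐ[k] End (CohB1.tensorMod Q P) :=
  Algebra.TensorProduct.lift
    (AlgHom.ofLinearMap ((SerreDual.tensorRightHom k Q Q P).comp F.toLinearMap)
      (by show tensorMap (End.asHom (F 1)) (𝟙 P) = 𝟙 _
          rw [map_one]; exact AmpleLib.hom_ext fun U a b => by rw [tensorMap_tmul]; rfl)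
      (fun x y => by
        show tensorMap (End.asHom (F (x * y))) (𝟙 P) = tensorMap (End.asHom (F y)) (𝟙 P) ≫ tensorMap (End.asHom (F x)) (𝟙 P)
        rw [map_mul]
        exact AmpleLib.hom_ext fun U a b => by
          show _ = (tensorMap (End.asHom (F x)) (𝟙 P)).app U ((tensorMap (End.asHom (F y)) (𝟙 P)).app U (tmul a b))
          rw [tensorMap_tmul, tensorMap_tmul, tensorMap_tmul]; rfl))
    (AlgHom.ofLinearMap
      { toFun := fun x => tensorMap (𝟙 Q) (End.asHom (G x))
        map_add' := fun x y => AmpleLib.hom_ext fun U a b => by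
          show _ = (tensorMap (𝟙 Q) (End.asHom (G x))).app U (tmul a b) + (tensorMap (𝟙 Q) (End.asHom (G y))).app U (tmul a b)
          rw [map_add, tensorMap_tmul, tensorMap_tmul, tensorMap_tmul]
          exact (congrArg (tmul _) rfl).trans (tmul_add_right _ _ _)
        map_smul' := fun c x => AmpleLib.hom_ext fun U a b => by
          show (tensorMap (𝟙 Q) (End.asHom (G (c • x)))).app U (tmul a b) =
            (c • tensorMap (𝟙 Q) (End.asHom (G x))).app U (tmul a b)
          rw [map_smul, KLin.smul_app_apply, tensorMap_tmul, tensorMap_tmul]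
          exact (congrArg (tmul _) (KLin.smul_app_apply c (End.asHom (G x)) U b)).trans (tmul_smul_right _ _ _) }
      (by show tensorMap (𝟙 Q) (End.asHom (G 1)) = 𝟙 _
          rw [map_one]; exact AmpleLib.hom_ext fun U a b => by rw [tensorMap_tmul]; rfl)
      (fun x y => by
        show tensorMap (𝟙 Q) (End.asHom (G (x * y))) = tensorMap (𝟙 Q) (End.asHom (G y)) ≫ tensorMap (𝟙 Q) (End.asHom (G x))
        rw [map_mul]
        exact AmpleLib.hom_ext fun U a b => by
          show _ = (tensorMap (𝟙 Q) (End.asHom (G x))).app U ((tensorMap (𝟙 Q) (End.asHom (G y))).app U (tmul a b))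
          rw [tensorMap_tmul, tensorMap_tmul, tensorMap_tmul]; rfl))
    (fun x y => by
      show tensorMap (𝟙 Q) (End.asHom (G y)) ≫ tensorMap (End.asHom (F x)) (𝟙 P) =
        tensorMap (End.asHom (F x)) (𝟙 P) ≫ tensorMap (𝟙 Q) (End.asHom (G y))
      exact AmpleLib.hom_ext fun U a b => by
        show (tensorMap (End.asHom (F x)) (𝟙 P)).app U ((tensorMap (𝟙 Q) (End.asHom (G y))).app U (tmul a b)) =
          (tensorMap (𝟙 Q) (End.asHom (G y))).app U ((tensorMap (End.asHom (F x)) (𝟙 P)).app U (tmul a b))
        rw [tensorMap_tmul, tensorMap_tmul, tensorMap_tmul, tensorMap_tmul]; rfl)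

end

section Isotypical

variable {k K : Type u} [Field k] [Field K] [Algebra k K] {X X' : Scheme.{u}}
  [X.Over (Spec (CommRingCat.of k))] [X'.Over (Spec (CommRingCat.of K))] {g : X' ⟶ X}
  (h : IsPullback g (X' ↘ Spec (CommRingCat.of K)) (X ↘ Spec (CommRingCat.of k))
    (Spec.map (CommRingCat.ofHom (algebraMap k K))))
  [IsProper (X ↘ Spec (CommRingCat.of k))] [IsProper (X' ↘ Spec (CommRingCat.of K))] [IsAlgClosed K] [IsIntegral X']

include h in
/-- The endomorphisms of an isotypical bundle of multiplicity `r` have dimension `r ^ 2`. -/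
theorem finrank_end_isotypical {E : X.Modules} (hE : FlatMod.IsFinLocFree E) {L : X'.Modules}
    (hL : PicF.IsInvertible L) {r : ℕ} (e : (Scheme.Modules.pullback g).obj E ≅ ∐ fun _ : Fin r => L) :
    Module.finrank k (End E) = r ^ 2 := by
  haveI : CompactSpace X := QuasiCompact.compactSpace_of_compactSpace (X ↘ Spec (CommRingCat.of k))
  haveI := isLocallyNoetherian_X (X := X) k
  have hLi : Ind L := ind_of_invertible hL
  have h1 : 𝟙 L ≠ 0 := fun hz => hLi.1 ((IsZero.iff_id_eq_zero L).2 hz)
  have hEndL : Module.finrank K (End L) = 1 := finrank_eq_one (𝟙 L : L ⟶ L) h1 fun φ => by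
    obtain ⟨c, hc⟩ := exists_smul_id K hL φ
    exact ⟨c, hc.symm⟩
  haveI : Module.Finite K (End L) := Module.finite_of_finrank_eq_succ hEndL
  let H := LinearEquiv.ofBijective (GenOneBC5.homBC h E E) (GenOneBC5.bijective_homBC h E E hE hE)
  have h2 : Module.finrank K (K ⊗[k] (E ⟶ E)) = r ^ 2 := by
    refine H.finrank_eq.trans (((endConj K e).trans (endPow K L r)).toLinearEquiv.finrank_eq.trans ?_)
    rw [Module.finrank_matrix, hEndL, Fintype.card_fin, mul_one, sq]
  exact (Module.finrank_baseChange (R := K) (S := k) (M' := (E ⟶ E))).symm.trans h2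

end Isotypical

end Groth.Agent.ASBun8
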