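import Groth.Agent.ASBun8.Exists
import Groth.Agent.ThetaLib.Commutator
import Groth.Agent.Inters29.Constants

/-!
# Invertible modules on connected schemes are indecomposable
-/

set_option autoImplicit false
set_option linter.style.haveILetI false
set_option backward.isDefEq.respectTransparency.types false
set_option backward.isDefEq.respectTransparency false

universe u

open CategoryTheory CategoryTheory.Limits AlgebraicGeometry Opposite TopologicalSpace
open Groth.Agent.Coherent

namespace Groth.Agent.ASBun8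

theorem ind_of_invertible {X : Scheme.{u}} [ConnectedSpace X] {L : X.Modules} (hL : PicF.IsInvertible L) : Ind L := by
  have hid : 𝟙 L = EulerLib.smulMod L (1 : Γ(X, ⊤)) :=
    Scheme.Modules.hom_ext _ _ fun V => ConcreteCategory.hom_ext _ _ fun x => by
      show x = (EulerLib.smulMod L (1 : Γ(X, ⊤))).app V x
      rw [ThetaLib.smulMod_app', map_one, one_smul]
  have h0' : (0 : L ⟶ L) = EulerLib.smulMod L (0 : Γ(X, ⊤)) :=
    Scheme.Modules.hom_ext _ _ fun V => ConcreteCategory.hom_ext _ _ fun x => by
      show (0 : Γ(L, V)) = (EulerLib.smulMod L (0 : Γ(X, ⊤))).app V x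
      rw [ThetaLib.smulMod_app', map_zero, zero_smul]
  refine ⟨fun hz => ?_, fun A B ⟨e⟩ => ?_⟩
  · have h := ThetaLib.smulMod_injective hL (hid.symm.trans ((hz.eq_of_src (𝟙 L) 0).trans h0'))
    obtain ⟨x⟩ := (inferInstance : Nonempty X)
    have h' := congrArg (X.presheaf.germ ⊤ x trivial) h
    rw [map_one, map_zero] at h'
    exact one_ne_zero h'
  obtain ⟨r, hr⟩ := ThetaLib.exists_eq_smulMod hL (e.hom ≫ biprod.fst ≫ biprod.inl ≫ e.inv)
  have hrr : r * r = r := ThetaLib.smulMod_injective hL <| by
    calc EulerLib.smulMod L (r * r) = EulerLib.smulMod L r ≫ EulerLib.smulMod L r :=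
          Scheme.Modules.hom_ext _ _ fun V => ConcreteCategory.hom_ext _ _ fun x => by
            show (EulerLib.smulMod L (r * r)).app V x = (EulerLib.smulMod L r).app V ((EulerLib.smulMod L r).app V x)
            rw [ThetaLib.smulMod_app', ThetaLib.smulMod_app', ThetaLib.smulMod_app', map_mul, mul_smul]
      _ = EulerLib.smulMod L r := by rw [← hr]; simp
  rcases Inters29.idempotent_eq_zero_or_one r hrr with rfl | rfl
  · rw [← h0'] at hr
    refine Or.inl ((IsZero.iff_id_eq_zero A).2 ?_)
    calc 𝟙 A = (biprod.inl ≫ e.inv) ≫ (e.hom ≫ biprod.fst ≫ biprod.inl ≫ e.inv) ≫ e.hom ≫ biprod.fst := by simp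
      _ = 0 := by rw [hr, zero_comp, comp_zero]
  · rw [← hid] at hr
    refine Or.inr ((IsZero.iff_id_eq_zero B).2 ?_)
    calc 𝟙 B = (biprod.inr ≫ e.inv) ≫ 𝟙 L ≫ e.hom ≫ biprod.snd := by simp
      _ = 0 := by rw [← hr]; simp

end Groth.Agent.ASBun8
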