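import Groth.Agent.ASBun8.Twist
import Groth.Agent.ASBun8.Invertible

/-!
# Absolutely split bundles on Severi–Brauer varieties
-/

set_option autoImplicit false
set_option linter.style.haveILetI false
set_option linter.unusedSectionVars false
set_option backward.isDefEq.respectTransparency.types false
set_option backward.isDefEq.respectTransparency false

universe u

open CategoryTheory CategoryTheory.Limits AlgebraicGeometry

namespace Groth.Agent.ASBun8

variable {k K : Type u} [Field k] [Field K] [Algebra k K] [IsAlgClosure k K] {X : Scheme.{u}}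
  {p : X ⟶ Spec (CommRingCat.of k)} [IsProper p] {n : ℕ} (e : BrSev.Splitting p K n)

include e in
/-- An indecomposable absolutely split bundle has a twisting type. -/
theorem exists_isTwPow {E : X.Modules} (hE : FlatMod.IsFinLocFree E) (hEi : Ind E) {s : ℕ}
    (Ls : Fin s → (BrSev.bc p K).Modules) (hLs : ∀ i, PicF.IsInvertible (Ls i))
    (hsplit : BrSev.bcMod p K E ≅ ∐ Ls) : ∃ (j : ℤ) (r : ℕ), 0 < r ∧ BrSev.IsTwPow e j r E := by
  haveI := irreducibleSpace_bc e
  haveI : ConnectedSpace (BrSev.bc p K) := inferInstance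
  choose d hd using fun i => exists_iso_twist e (hLs i)
  obtain ⟨i, r, hr, ⟨f⟩⟩ := split_isotypical (K := K) p hE hEi Ls (fun i => ind_of_invertible (hLs i))
    (fun σ i => ⟨(Scheme.Modules.pullback (W4c1astiltbs12.galAct p K σ)).mapIso (hd i).some ≪≫
      (nonempty_galAct_twist e σ (d i)).some ≪≫ (hd i).some.symm⟩) hsplit
  exact ⟨d i, r, hr, ⟨f ≪≫ Sigma.mapIso fun _ => (hd i).some⟩⟩

include e in
/-- Absolutely split bundles decompose into indecomposables of twisting type. -/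
theorem exists_decomposition_isTwPow {E : X.Modules} (hE : FlatMod.IsFinLocFree E) {s : ℕ}
    (Ls : Fin s → (BrSev.bc p K).Modules) (hLs : ∀ i, PicF.IsInvertible (Ls i))
    (hsplit : BrSev.bcMod p K E ≅ ∐ Ls) :
    ∃ (t : ℕ) (Ms : Fin t → X.Modules) (js : Fin t → ℤ) (rs : Fin t → ℕ),
      (∀ i, FlatMod.IsFinLocFree (Ms i) ∧ Ind (Ms i) ∧ 0 < rs i ∧ BrSev.IsTwPow e (js i) (rs i) (Ms i)) ∧
      Nonempty (E ≅ ∐ Ms) := by
  classical
  letI : X.Over (Spec (CommRingCat.of k)) := ⟨p⟩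
  haveI : IsProper (X ↘ Spec (CommRingCat.of k)) := ‹IsProper p›
  letI : (BrSev.bc p K).Over (Spec (CommRingCat.of K)) := ⟨BrSev.bcTo p K⟩
  haveI : IsProper (BrSev.bc p K ↘ Spec (CommRingCat.of K)) :=
    inferInstanceAs (IsProper (pullback.snd p (Spec.map (CommRingCat.ofHom (algebraMap k K)))))
  haveI := isLocallyNoetherian_X (X := X) k
  haveI := irreducibleSpace_bc e
  haveI : ConnectedSpace (BrSev.bc p K) := inferInstance
  have hEc := Coherent.CohBC.isCoh_of_isFinLocFree hE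
  obtain ⟨t, Ms, hMs, ⟨eE⟩⟩ := exists_decomposition k _ hEc le_rfl
  have hMl : ∀ i, FlatMod.IsFinLocFree (Ms i) := fun i =>
    WeilFin.isFinLocFree_retract ((sigmaRetract Ms i).trans ⟨eE.inv, eE.hom, eE.inv_hom_id⟩) hE
  let g : BrSev.bc p K ⟶ X := BrSev.proj p K
  have hsum : Coh.IsCoh (∐ Ls) := isCoh_of_retract K ⟨hsplit.inv, hsplit.hom, hsplit.inv_hom_id⟩
    (isCoh_pullback (g := g) hEc)
  have hkey : ∀ i, ∃ (j : ℤ) (r : ℕ), 0 < r ∧ BrSev.IsTwPow e j r (Ms i) := by
    intro i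
    let a : (Scheme.Modules.pullback g).obj E ≅ ∐ Ls := hsplit
    let R : Retract ((Scheme.Modules.pullback g).obj (Ms i)) (∐ Ls) :=
      (((sigmaRetract Ms i).trans ⟨eE.inv, eE.hom, eE.inv_hom_id⟩).map (Scheme.Modules.pullback g)).trans
        ⟨a.hom, a.inv, a.hom_inv_id⟩
    have hLc : ∀ l, Coh.IsCoh (Ls l) := fun l => isCoh_of_retract K (sigmaRetract Ls l) hsum
    obtain ⟨m, Hs, hHs, ⟨eH⟩⟩ := exists_decomposition K _ (isCoh_of_retract K R hsum) le_rfl
    have hH : ∀ q, ∃ l, Nonempty (Hs q ≅ Ls l) := fun q => by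
      let Rq : Retract (Hs q) (∐ Ls) := (sigmaRetract Hs q).trans
        ((⟨eH.inv, eH.hom, eH.inv_hom_id⟩ : Retract (∐ Hs) _).trans R)
      have hqc := isCoh_of_retract K Rq hsum
      have hq := indec_of_ind K hqc (hHs q)
      have h1 := (mult_pos_iff K hq hqc hsum).2 ⟨Rq⟩
      rw [mult_sigma K hq hqc Ls hLc] at h1
      obtain ⟨l, -, hl⟩ := Finset.exists_ne_zero_of_sum_ne_zero h1
      exact ⟨l, (mult_pos_iff_iso K hq (indec_of_ind K (hLc l) (ind_of_invertible (hLs l))) hqc (hLc l)).1 hl⟩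
    choose l hl using hH
    exact exists_isTwPow e (hMl i) (hMs i) (fun q => Ls (l q)) (fun q => hLs _)
      (eH ≪≫ Sigma.mapIso fun q => (hl q).some)
  choose js rs hr ht using hkey
  exact ⟨t, Ms, js, rs, fun i => ⟨hMl i, hMs i, hr i, ht i⟩, ⟨eE⟩⟩

end Groth.Agent.ASBun8
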