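import Groth.Agent.ASBun8.SplitPoint
import Groth.Agent.S4839
import Groth.Prelude.Def_W4bk4gw11416BS

/-!
# Brauer–Severi schemes are split by finite extensions
-/

set_option autoImplicit false
set_option linter.style.haveILetI false
set_option linter.unusedSectionVars false
set_option backward.isDefEq.respectTransparency.types false
set_option backward.isDefEq.respectTransparency false
set_option maxHeartbeats 1600000

universe u

open CategoryTheory CategoryTheory.Limits AlgebraicGeometry Opposite TopologicalSpace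
open Groth.Agent.Coherent Groth.Agent.PicLib

namespace Groth.Agent.ASBun8

variable {k : Type u} [Field k] {X : Scheme.{u}}

theorem isBS_of_isBrauerSeveri {p : X ⟶ Spec (CommRingCat.of k)} (hX : W4bk4gw11416.IsBrauerSeveri p) :
    ∃ n, BrSev.IsBS p n := by
  obtain ⟨K, iK, iA, n, e, he⟩ := hX
  haveI : IsProper p := isProper_of_splitting (m := n) (K := K) ⟨e, he⟩
  let q := CohB1.ProjSpace.toSpec n k
  haveI : IsProper q := Coherent.isProper_projSpace_toSpec n k
  let c := (Coherent.isPullback_projSpace n k K).isoPullback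
  obtain ⟨k', i1, i2, i3, e', he'⟩ := S4839.result p q K (e ≪≫ c) (by
    rw [Iso.trans_hom, Category.assoc]
    exact (congrArg (e.hom ≫ ·) (IsPullback.isoPullback_hom_snd _)).trans he)
  let c' := (Coherent.isPullback_projSpace n k k').isoPullback
  refine ⟨n, k', i1, i2, i3, ⟨⟨e' ≪≫ c'.symm, ?_⟩⟩⟩
  rw [Iso.trans_hom, Category.assoc]
  exact (congrArg (e'.hom ≫ ·) (IsPullback.isoPullback_inv_snd _)).trans he'

theorem isProjSpaceOver_of_splitting {p : X ⟶ Spec (CommRingCat.of k)} {n : ℕ} (e : BrSev.Splitting p k n) :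
    W4bk4gw11416.IsProjSpaceOver p n := by
  have hid : Spec.map (CommRingCat.ofHom (algebraMap k k)) = 𝟙 _ := by
    rw [Algebra.algebraMap_self]; exact Spec.map_id _
  haveI : IsIso (Spec.map (CommRingCat.ofHom (algebraMap k k))) := by rw [hid]; infer_instance
  refine ⟨(asIso (BrSev.proj p k)).symm ≪≫ e.iso, ?_⟩
  rw [Iso.trans_hom, Iso.symm_hom, asIso_inv, Category.assoc, e.comm, IsIso.inv_comp_eq]
  exact (pullback.condition.trans ((congrArg (_ ≫ ·) hid).trans (Category.comp_id _))).symm

theorem isProjSpaceOver_of_section {p : X ⟶ Spec (CommRingCat.of k)} (hX : W4bk4gw11416.IsBrauerSeveri p)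
    (s : Spec (CommRingCat.of k) ⟶ X) (hs : s ≫ p = 𝟙 _) : ∃ n, W4bk4gw11416.IsProjSpaceOver p n := by
  obtain ⟨n, hn⟩ := isBS_of_isBrauerSeveri hX
  exact ⟨n, isProjSpaceOver_of_splitting (nonempty_splitting_of_section hn s hs).some⟩

end Groth.Agent.ASBun8
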