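import Groth.Agent.ASBun8.BrauerSeveri
import Groth.Agent.ASBun8.AmitsurApps
import Groth.Agent.Dual22Lib.ProjSmooth
import Groth.Agent.VarietyLib.SeparablePoints
import Groth.Agent.NormAmple8.Normal
import Groth.Agent.NeronLib.NormalSmooth
import Groth.Agent.CurveRR24.DoubleCover.Insep
import Groth.Agent.MorProj.VeryAmple
import Groth.Agent.VarietyLib.ProperCurveAmple
import Mathlib.AlgebraicGeometry.Morphisms.LocalFlatDescent
import Mathlib.FieldTheory.Normal.Closure

/-!
# Geometry of Brauer–Severi schemes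
-/

set_option autoImplicit false
set_option linter.style.haveILetI false
set_option linter.unusedSectionVars false
set_option backward.isDefEq.respectTransparency.types false
set_option backward.isDefEq.respectTransparency false
set_option maxHeartbeats 1600000

universe u

open CategoryTheory CategoryTheory.Limits AlgebraicGeometry Opposite TopologicalSpace
open Groth.Agent.Coherent Groth.Agent.PicLib

namespace Groth.Agent.ASBun8

variable {k : Type u} [Field k] {X : Scheme.{u}} {p : X ⟶ Spec (CommRingCat.of k)} {n : ℕ}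

theorem smooth_of_isBS (hX : BrSev.IsBS p n) : Smooth p := by
  obtain ⟨K, _, _, _, ⟨e⟩⟩ := hX
  let s := Spec.map (CommRingCat.ofHom (algebraMap k K))
  haveI : Flat s := by
    rw [HasRingHomProperty.Spec_iff (P := @Flat)]
    exact RingHom.flat_algebraMap_iff.2 inferInstance
  haveI : Surjective s := ⟨fun y => ⟨default, Subsingleton.elim _ _⟩⟩
  haveI : MorphismProperty.DescendsAlong @Smooth Et18.FPQC.{u} :=
    inferInstanceAs (MorphismProperty.DescendsAlong @Smooth (@Surjective ⊓ @Flat ⊓ @QuasiCompact))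
  refine MorphismProperty.of_isPullback_of_descendsAlong (P := @Smooth) (Q := Et18.FPQC.{u})
    (IsPullback.of_hasPullback p s).flip ⟨⟨inferInstance, inferInstance⟩, inferInstance⟩ ?_
  show Smooth (BrSev.bcTo p K)
  rw [← e.comm]
  haveI : Smooth (CohB1.ProjSpace.toSpec n K) := Dual22Lib.ProjSmooth.smooth_toSpec n K
  infer_instance

/-- Splitting over any algebraically closed extension. -/
theorem nonempty_splitting_isAlgClosed (hX : BrSev.IsBS p n) (M : Type u) [Field M] [Algebra k M] [IsAlgClosed M] :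
    Nonempty (BrSev.Splitting p M n) := by
  obtain ⟨K, iK, iA, iF, ⟨e⟩⟩ := hX
  let ι : K →ₐ[k] M := IsAlgClosed.lift
  letI : Algebra K M := ι.toRingHom.toAlgebra
  haveI : IsScalarTower k K M := IsScalarTower.of_algHom ι
  obtain ⟨e', -⟩ := exists_extend (m := n) e M
  exact ⟨e'⟩

theorem nonempty_splitting_bcTo {M : Type u} [Field M] [Algebra k M] (L : Type u) [Field L] [Algebra k L]
    [Algebra L M] [IsScalarTower k L M] (e : BrSev.Splitting p M n) :
    Nonempty (BrSev.Splitting (BrSev.bcTo p L) M n) := by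
  have hmap : Spec.map (CommRingCat.ofHom (algebraMap L M)) ≫ Spec.map (CommRingCat.ofHom (algebraMap k L)) =
      Spec.map (CommRingCat.ofHom (algebraMap k M)) := by
    rw [← Spec.map_comp, ← CommRingCat.ofHom_comp, ← IsScalarTower.algebraMap_eq]
  have h : IsPullback (BrSev.proj (BrSev.bcTo p L) M ≫ BrSev.proj p L) (BrSev.bcTo (BrSev.bcTo p L) M) p
      (Spec.map (CommRingCat.ofHom (algebraMap k M))) := by
    rw [← hmap]
    exact (IsPullback.of_hasPullback (BrSev.bcTo p L) (Spec.map (CommRingCat.ofHom (algebraMap L M)))).paste_horiz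
      (IsPullback.of_hasPullback p (Spec.map (CommRingCat.ofHom (algebraMap k L))))
  refine ⟨⟨h.isoPullback ≪≫ e.iso, ?_⟩⟩
  rw [Iso.trans_hom, Category.assoc, e.comm]
  exact h.isoPullback_hom_snd

theorem isBS_bcTo (hX : BrSev.IsBS p n) (L : Type u) [Field L] [Algebra k L] :
    ∃ m, BrSev.IsBS (BrSev.bcTo p L) m := by
  obtain ⟨e⟩ := nonempty_splitting_isAlgClosed hX (AlgebraicClosure L)
  obtain ⟨e'⟩ := nonempty_splitting_bcTo L e
  exact isBS_of_isBrauerSeveri ⟨AlgebraicClosure L, inferInstance, inferInstance, n, e'.iso, e'.comm⟩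

theorem isIntegral_bcTo (hX : BrSev.IsBS p n) (L : Type u) [Field L] [Algebra k L] :
    IsIntegral (BrSev.bc p L) := by
  obtain ⟨e⟩ := nonempty_splitting_isAlgClosed hX (AlgebraicClosure L)
  obtain ⟨e'⟩ := nonempty_splitting_bcTo L e
  haveI : IsProper (BrSev.bcTo p L) := isProper_of_splitting (m := n) e'
  exact Amitsur.isIntegral_of_splitting e'

theorem geometricallyIntegral_of_isBS (hX : BrSev.IsBS p n) : GeometricallyIntegral p :=
  ⟨geometrically_iff_of_commRing_of_isClosedUnderIsomorphisms.2 fun L _ _ => isIntegral_bcTo hX L⟩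

theorem exists_closedImmersion_of_isBS (hX : BrSev.IsBS p n) :
    ∃ (N : ℕ) (i : X ⟶ CohB1.ProjSpace N k), IsClosedImmersion i ∧ i ≫ CohB1.ProjSpace.toSpec N k = p := by
  haveI := smooth_of_isBS hX
  obtain ⟨eb⟩ := nonempty_splitting_isAlgClosed hX (AlgebraicClosure k)
  haveI : IsProper p := isProper_of_splitting (m := n) eb
  haveI : IsIntegral X := Amitsur.isIntegral_of_splitting eb
  obtain ⟨K, iK, iA, iF, ⟨e⟩⟩ := hX
  haveI := iF
  let s := Spec.map (CommRingCat.ofHom (algebraMap k K))
  haveI : IsFinite s := (IsFinite.SpecMap_iff _).mpr (RingHom.finite_algebraMap.mpr inferInstance)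
  haveI : Surjective s := ⟨fun y => ⟨default, Subsingleton.elim _ _⟩⟩
  let g : BrSev.bc p K ⟶ X := BrSev.proj p K
  haveI : IsFinite g := inferInstanceAs (IsFinite (pullback.fst p s))
  haveI : Surjective g := inferInstanceAs (Surjective (pullback.fst p s))
  letI : Algebra (ULift.{u} ℤ) K := ((Int.castRingHom K).comp ULift.ringEquiv.toRingHom).toAlgebra
  haveI : IsAffineHom (Quot8.projChange n (ULift.{u} ℤ) K) :=
    MorphismProperty.of_isPullback (P := @IsAffineHom) (Coherent.isPullback_projSpace n (ULift.{u} ℤ) K).flip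
      inferInstance
  have hL := AmpleLib.isAmple_pullback_of_isAffineHom (e.iso.hom ≫ Quot8.projChange n (ULift.{u} ℤ) K)
    (MorProj.isAmple_twistProjSpace n)
  have hn : Pi1.IsNormalScheme X :=
    NeronLib.isNormalScheme_of_smooth p (CurveRR24.isNormalScheme_spec_field k)
  obtain ⟨M, hM⟩ := NormAmple8.exists_ample_of_normal g hn _ hL
  obtain ⟨n₀, hn0⟩ := PnEmb.eventually_isRelVeryAmplePn p hM (AmpleLib.isInvertible_structureModule (X := X))
  obtain ⟨d, c, hc, hcq, -⟩ := AbCubeLib.exists_isClosedImmersion_projSpace p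
    (AmpleLib.isInvertible_tensorMod (AmpleLib.isInvertible_tensorPow hM.1 n₀) AmpleLib.isInvertible_structureModule)
    (hn0 n₀ le_rfl)
  exact ⟨d, c, hc, hcq⟩

theorem exists_galois_splitting (hX : BrSev.IsBS p n) :
    ∃ (K : Type u) (_ : Field K) (_ : Algebra k K), FiniteDimensional k K ∧ IsGalois k K ∧
      ∃ m, Nonempty (BrSev.Splitting (BrSev.bcTo p K) K m) := by
  haveI := smooth_of_isBS hX
  obtain ⟨eb⟩ := nonempty_splitting_isAlgClosed hX (AlgebraicClosure k)
  haveI : IsProper p := isProper_of_splitting (m := n) eb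
  haveI : IsIntegral X := Amitsur.isIntegral_of_splitting eb
  obtain ⟨U, hU, hxU, -⟩ := exists_isAffineOpen_mem_and_subset (x := genericPoint X) (U := ⊤) trivial
  let A := Γ(X, U)
  let φ : CommRingCat.of k ⟶ A := Spec.preimage (hU.fromSpec ≫ p)
  have hφ : Spec.map φ = hU.fromSpec ≫ p := Spec.map_preimage _
  letI : Algebra k A := φ.hom.toAlgebra
  haveI : Smooth (Spec.map φ) := by rw [hφ]; infer_instance
  haveI : Algebra.Smooth k A := by
    have h := (HasRingHomProperty.Spec_iff (P := @Smooth)).1 ‹Smooth (Spec.map φ)›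
    exact RingHom.smooth_algebraMap.1 h
  haveI : Nonempty U := ⟨⟨_, hxU⟩⟩
  haveI : Nontrivial A := inferInstance
  obtain ⟨Ω, iΩ, iAlg, hfin, hsep, ⟨ψ⟩⟩ := VarietyLib.exists_separable_point k A
  haveI := hsep
  haveI := hfin
  let E := SeparableClosure k
  let ι : Ω →ₐ[k] E := IsSepClosed.lift
  letI : Algebra Ω E := ι.toRingHom.toAlgebra
  haveI : IsScalarTower k Ω E := IsScalarTower.of_algHom ι
  haveI : IsGalois k E := IsSepClosure.isGalois
  let K := IntermediateField.normalClosure k Ω E
  haveI : IsGalois k K := IsGalois.normalClosure k Ω E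
  haveI : FiniteDimensional k K := inferInstance
  let χ : A →ₐ[k] K := (IsScalarTower.toAlgHom k Ω K).comp ψ
  let t : Spec (CommRingCat.of K) ⟶ X := Spec.map (CommRingCat.ofHom χ.toRingHom) ≫ hU.fromSpec
  have ht : t ≫ p = Spec.map (CommRingCat.ofHom (algebraMap k K)) := by
    rw [Category.assoc, ← hφ, ← Spec.map_comp]
    congr 1
    exact CommRingCat.hom_ext (RingHom.ext fun r => χ.commutes r)
  obtain ⟨m, hm⟩ := isBS_bcTo hX K
  exact ⟨K, inferInstance, inferInstance, inferInstance, inferInstance, m,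
    nonempty_splitting_of_section hm (pullback.lift t (𝟙 _) (by rw [ht, Category.id_comp])) (pullback.lift_snd _ _ _)⟩

end Groth.Agent.ASBun8
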