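import Groth.Agent.ASBun8.SepClosed
import Groth.Agent.ASBun8.Main
import Mathlib.FieldTheory.SeparableClosure
import Mathlib.FieldTheory.Normal.Basic

/-!
# Indecomposable absolutely split bundles are isotypical
-/

set_option autoImplicit false
set_option linter.style.haveILetI false
set_option linter.unusedSectionVars false
set_option backward.isDefEq.respectTransparency.types false
set_option backward.isDefEq.respectTransparency false
set_option maxHeartbeats 1600000

universe u

open CategoryTheory CategoryTheory.Limits AlgebraicGeometry Opposite TopologicalSpace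
open Groth.Agent.WeilFin Groth.Agent.Coherent
open W4c1astiltbs12

namespace Groth.Agent.ASBun8

variable {k K : Type u} [Field k] [Field K] [Algebra k K] {X : Scheme.{u}}
  (p : X ⟶ Spec (CommRingCat.of k)) [IsProper p]

/-- An indecomposable bundle splitting into Galois invariant indecomposables is isotypical. -/
theorem split_isotypical [IsAlgClosure k K] {E : X.Modules} (hE : FlatMod.IsFinLocFree E) (hEi : Ind E) {n : ℕ}
    (Ls : Fin n → (W4bk4gw11416.baseChange p K).Modules) (hLs : ∀ i, Ind (Ls i))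
    (hinv : ∀ (σ : K ≃ₐ[k] K) (i : Fin n), Nonempty ((Scheme.Modules.pullback (galAct p K σ)).obj (Ls i) ≅ Ls i))
    (e : bcMod p K E ≅ ∐ Ls) : ∃ (i : Fin n) (r : ℕ), 0 < r ∧ Nonempty (bcMod p K E ≅ pow (Ls i) r) := by
  classical
  haveI : IsAlgClosed K := IsAlgClosure.isAlgClosed k
  haveI : Algebra.IsAlgebraic k K := IsAlgClosure.isAlgebraic
  let F : IntermediateField k K := separableClosure k K
  haveI hF : IsSepClosure k F := separableClosure.isSepClosure k K
  haveI : IsSepClosed F := hF.sep_closed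
  haveI : IsGalois k F := IsSepClosure.isGalois
  haveI : Algebra.IsAlgebraic F K := Algebra.IsAlgebraic.tower_top (K := k) F
  haveI : Normal k K := IsAlgClosure.normal k K
  letI : X.Over (Spec (CommRingCat.of k)) := ⟨p⟩
  haveI : IsProper (X ↘ Spec (CommRingCat.of k)) := ‹IsProper p›
  letI : (W4bk4gw11416.baseChange p K).Over (Spec (CommRingCat.of K)) := ⟨W4bk4gw11416.baseChangeTo p K⟩
  haveI : IsProper (W4bk4gw11416.baseChange p K ↘ Spec (CommRingCat.of K)) :=
    inferInstanceAs (IsProper (pullback.snd p (Spec.map (CommRingCat.ofHom (algebraMap k K)))))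
  letI : (W4bk4gw11416.baseChange p F).Over (Spec (CommRingCat.of F)) := ⟨W4bk4gw11416.baseChangeTo p F⟩
  haveI : IsProper (W4bk4gw11416.baseChange p F ↘ Spec (CommRingCat.of F)) :=
    inferInstanceAs (IsProper (pullback.snd p (Spec.map (CommRingCat.ofHom (algebraMap k F)))))
  haveI := isLocallyNoetherian_X (X := X) k
  haveI := isLocallyNoetherian_X (X := W4bk4gw11416.baseChange p F) F
  have hmap : Spec.map (CommRingCat.ofHom (algebraMap F K)) ≫ Spec.map (CommRingCat.ofHom (algebraMap k F)) =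
      Spec.map (CommRingCat.ofHom (algebraMap k K)) := by
    rw [← Spec.map_comp]
    rfl
  let u : W4bk4gw11416.baseChange p K ⟶ W4bk4gw11416.baseChange p F :=
    pullback.lift (pullback.fst _ _) (pullback.snd _ _ ≫ Spec.map (CommRingCat.ofHom (algebraMap F K)))
      (by rw [Category.assoc, hmap, pullback.condition])
  have hu : u ≫ proj p F = proj p K := pullback.lift_fst _ _ _
  have hsq : IsPullback u (W4bk4gw11416.baseChange p K ↘ Spec (CommRingCat.of K))
      (W4bk4gw11416.baseChange p F ↘ Spec (CommRingCat.of F)) (Spec.map (CommRingCat.ofHom (algebraMap F K))) := by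
    refine IsPullback.of_right ?_ (pullback.lift_snd _ _ _) (IsPullback.of_hasPullback p (Spec.map (CommRingCat.ofHom (algebraMap k F))))
    rw [hmap]
    show IsPullback (u ≫ proj p F) _ _ _
    rw [hu]
    exact IsPullback.of_hasPullback _ _
  have hEc := Coherent.CohBC.isCoh_of_isFinLocFree hE
  haveI := hEc.1
  let EF := bcMod p F E
  have hEFl : FlatMod.IsFinLocFree EF := FlatMorAdm.isFinLocFree_pullback (proj p F) hE
  have hEFc : Coh.IsCoh EF := isCoh_pullback (g := proj p F) hEc
  have hpF : IsPullback (proj p F) (W4bk4gw11416.baseChange p F ↘ Spec (CommRingCat.of F)) (X ↘ Spec (CommRingCat.of k))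
      (Spec.map (CommRingCat.ofHom (algebraMap k F))) := IsPullback.of_hasPullback _ _
  have hF0 : ¬ IsZero EF := fun hz => hEi.1 (isZero_of_isZero_pullback hpF hz)
  obtain ⟨m, Ws, hWs, ⟨eW⟩⟩ := exists_decomposition F _ hEFc le_rfl
  have hm : 0 < m := Nat.pos_of_ne_zero fun hm => by
    subst hm
    exact hF0 ((isZero_sigma _ fun i => i.elim0).of_iso eW)
  let W := Ws ⟨0, hm⟩
  let R : Retract W EF := (sigmaRetract Ws ⟨0, hm⟩).trans ⟨eW.inv, eW.hom, eW.inv_hom_id⟩
  have hWl : FlatMod.IsFinLocFree W := WeilFin.isFinLocFree_retract R hEFl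
  have hWc := Coherent.CohBC.isCoh_of_isFinLocFree hWl
  have hWK : Ind ((Scheme.Modules.pullback u).obj W) := ind_pullback_of_isSepClosed hsq hWl (hWs _)
  let a : (Scheme.Modules.pullback u).obj EF ≅ bcMod p K E :=
    (Scheme.Modules.pullbackComp u (proj p F)).app E ≪≫ (Scheme.Modules.pullbackCongr hu).app E
  let RK : Retract ((Scheme.Modules.pullback u).obj W) (∐ Ls) :=
    (R.map (Scheme.Modules.pullback u)).trans ⟨(a ≪≫ e).hom, (a ≪≫ e).inv, Iso.hom_inv_id _⟩
  have hWKc : Coh.IsCoh ((Scheme.Modules.pullback u).obj W) := isCoh_pullback (g := u) hWc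
  have hsum : Coh.IsCoh (∐ Ls) :=
    isCoh_of_retract K ⟨e.inv, e.hom, e.inv_hom_id⟩ (isCoh_pullback (g := proj p K) hEc)
  have hLc : ∀ i, Coh.IsCoh (Ls i) := fun i => isCoh_of_retract K (sigmaRetract Ls i) hsum
  have hWKi := indec_of_ind K hWKc hWK
  have h1 := (mult_pos_iff K hWKi hWKc hsum).2 ⟨RK⟩
  rw [mult_sigma K hWKi hWKc Ls hLc] at h1
  obtain ⟨i, -, hi⟩ := Finset.exists_ne_zero_of_sum_ne_zero h1
  obtain ⟨ei⟩ := (mult_pos_iff_iso K hWKi (indec_of_ind K (hLc i) (hLs i)) hWKc (hLc i)).1 hi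
  have hWinv : ∀ σ : F ≃ₐ[k] F, Nonempty ((Scheme.Modules.pullback (galAct p F σ)).obj W ≅ W) := by
    intro σ
    let σ' : K ≃ₐ[k] K := σ.liftNormal K
    have hcomm : galAct p K σ' ≫ u = u ≫ galAct p F σ := by
      have hs : Spec.map (CommRingCat.ofHom (σ' : K →+* K)) ≫ Spec.map (CommRingCat.ofHom (algebraMap F K)) =
          Spec.map (CommRingCat.ofHom (algebraMap F K)) ≫ Spec.map (CommRingCat.ofHom (σ : F →+* F)) := by
        rw [← Spec.map_comp, ← Spec.map_comp]
        congr 1
        ext x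
        exact σ.liftNormal_commutes K x
      apply pullback.hom_ext
      · simp [galAct, u]
      · simp [galAct, u, hs]
    obtain ⟨iσ⟩ := hinv σ' i
    refine nonempty_iso_of_iso_pullback hsq _ (isCoh_pullback (g := galAct p F σ) hWc) hWc le_rfl ⟨?_⟩
    exact (Scheme.Modules.pullbackComp u (galAct p F σ)).app W ≪≫ (Scheme.Modules.pullbackCongr hcomm.symm).app W ≪≫
      ((Scheme.Modules.pullbackComp (galAct p K σ') u).app W).symm ≪≫
      (Scheme.Modules.pullback (galAct p K σ')).mapIso ei ≪≫ iσ ≪≫ ei.symm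
  obtain ⟨r, hr, ⟨er⟩⟩ := isotypical_of_retract p hE hEi (hWs _) R hWinv
  exact ⟨i, r, hr, ⟨a.symm ≪≫ (Scheme.Modules.pullback u).mapIso er ≪≫ pullbackSigma u _ ≪≫ Sigma.mapIso fun _ => ei⟩⟩

end Groth.Agent.ASBun8
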