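import Groth.Agent.ASBun8.Dual
import Groth.Agent.ASBun8.Main
import Groth.Agent.ASBun8.SplitIso

/-!
# Twisting isotypical modules by invertible modules
-/

set_option autoImplicit false
set_option linter.style.haveILetI false
set_option linter.unusedSectionVars false
set_option backward.isDefEq.respectTransparency.types false
set_option backward.isDefEq.respectTransparency false

universe u

open CategoryTheory CategoryTheory.Limits AlgebraicGeometry Opposite TopologicalSpace
open Groth.Agent.AmpleLib Groth.Agent.PicLib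

namespace Groth.Agent.ASBun8

section

variable {Y : Scheme.{u}}

/-- The comparison of the Picard group with the monoid of invertible classes. -/
noncomputable def toM [PicGrp.Law Y] : PicLoc.PicSet Y →* PicM Y where
  toFun a := ⟨a.1, a.2⟩
  map_one' := PicM.ext (PicGrp.one_val (Y := Y))
  map_mul' a b := PicM.ext (PicGrp.mul_val a b)

theorem toM_cls [PicGrp.Law Y] {L : Y.Modules} (hL : PicF.IsInvertible L) : toM (PicGrp.cls L hL) = PicM.of hL :=
  rfl

theorem isZero_tensor {A : Y.Modules} (hA : IsZero A) (N : Y.Modules) : IsZero (CohB1.tensorMod A N) :=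
  (tensR N).map_isZero hA

theorem nonempty_tensor_cancel (A : Y.Modules) {N N' : Y.Modules}
    (e : CohB1.tensorMod N N' ≅ Coh.structureModule Y) : Nonempty (CohB1.tensorMod (CohB1.tensorMod A N) N' ≅ A) := by
  obtain ⟨a⟩ := EulerPn5.nonempty_assoc A N N'
  exact ⟨a ≪≫ tensorComm _ _ ≪≫ AmpleLib.tensorIso e (Iso.refl A) ≪≫ unitTensorIso A⟩

theorem ind_tensor {E N N' : Y.Modules} (hE : Ind E) (e : CohB1.tensorMod N N' ≅ Coh.structureModule Y) :
    Ind (CohB1.tensorMod E N) := by
  obtain ⟨c⟩ := nonempty_tensor_cancel E e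
  refine ⟨fun hz => hE.1 ((isZero_tensor hz N').of_iso c.symm), fun A B hAB => ?_⟩
  obtain ⟨i⟩ := hAB
  haveI : HasFiniteBiproducts Y.Modules := HasFiniteBiproducts.of_hasFiniteCoproducts
  haveI := preservesBinaryBiproduct_of_preservesBiproduct (tensR N') A B
  have j : E ≅ CohB1.tensorMod A N' ⊞ CohB1.tensorMod B N' :=
    c.symm ≪≫ (tensR N').mapIso i ≪≫ (tensR N').mapBiprod A B
  have e' : CohB1.tensorMod N' N ≅ Coh.structureModule Y := tensorComm _ _ ≪≫ e
  rcases hE.2 _ _ ⟨j⟩ with hz | hz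
  · obtain ⟨cA⟩ := nonempty_tensor_cancel A e'
    exact Or.inl ((isZero_tensor hz N).of_iso cA.symm)
  · obtain ⟨cB⟩ := nonempty_tensor_cancel B e'
    exact Or.inr ((isZero_tensor hz N).of_iso cB.symm)

theorem nonempty_pullback_twist {Y' : Scheme.{u}} (g : Y' ⟶ Y) {E N : Y.Modules} {A C : Y'.Modules} {d : ℕ}
    (eE : (Scheme.Modules.pullback g).obj E ≅ ∐ fun _ : Fin d => A)
    (c : CohB1.tensorMod A ((Scheme.Modules.pullback g).obj N) ≅ C) :
    Nonempty ((Scheme.Modules.pullback g).obj (CohB1.tensorMod E N) ≅ ∐ fun _ : Fin d => C) := by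
  obtain ⟨i⟩ := EulerPn5.nonempty_pullback_tensor g E N eE (Iso.refl _)
  exact ⟨i ≪≫ sigmaTensorIso _ _ ≪≫ Sigma.mapIso fun _ => c⟩

end

section

variable {k K : Type u} [Field k] [Field K] [Algebra k K] {X : Scheme.{u}}
  (p : X ⟶ Spec (CommRingCat.of k)) [IsProper p] [ConnectedSpace ↥(W4bk4gw11416.baseChange p K)]

open W4c1astiltbs12 in
/-- The type of an isotypical module is Galois invariant. -/
theorem nonempty_galAct_of_isotypical {M : X.Modules} (hM : FlatMod.IsFinLocFree M) (hM0 : ¬ IsZero M)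
    {L : (W4bk4gw11416.baseChange p K).Modules} (hL : PicF.IsInvertible L) {d : ℕ} (e : bcMod p K M ≅ pow L d)
    (σ : K ≃ₐ[k] K) : Nonempty ((Scheme.Modules.pullback (galAct p K σ)).obj L ≅ L) := by
  letI : X.Over (Spec (CommRingCat.of k)) := ⟨p⟩
  haveI : IsProper (X ↘ Spec (CommRingCat.of k)) := ‹IsProper p›
  letI : (W4bk4gw11416.baseChange p K).Over (Spec (CommRingCat.of K)) := ⟨W4bk4gw11416.baseChangeTo p K⟩
  haveI : IsProper (W4bk4gw11416.baseChange p K ↘ Spec (CommRingCat.of K)) :=
    inferInstanceAs (IsProper (pullback.snd p (Spec.map (CommRingCat.ofHom (algebraMap k K)))))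
  haveI := isLocallyNoetherian_X (X := X) k
  haveI := isLocallyNoetherian_X (X := W4bk4gw11416.baseChange p K) K
  have h : IsPullback (proj p K) (W4bk4gw11416.baseChange p K ↘ Spec (CommRingCat.of K)) (X ↘ Spec (CommRingCat.of k))
      (Spec.map (CommRingCat.ofHom (algebraMap k K))) := IsPullback.of_hasPullback _ _
  have hd := pos_of_isotypical h (Coherent.CohBC.isCoh_of_isFinLocFree hM) hM0 e
  have hLσ := PicLoc.isInvertible_pullback (galAct p K σ) hL
  let q : pow ((Scheme.Modules.pullback (galAct p K σ)).obj L) d ≅ pow L d :=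
    (pullbackSigma _ _).symm ≪≫ (Scheme.Modules.pullback _).mapIso e.symm ≪≫
      ((Scheme.Modules.pullbackComp _ _).app M) ≪≫ ((Scheme.Modules.pullbackCongr (show galAct p K σ ≫ proj p K = proj p K by simp [galAct, proj])).app M) ≪≫ e
  obtain ⟨τ, hτ⟩ := exists_equiv_of_iso K (fun _ : Fin d => (Scheme.Modules.pullback (galAct p K σ)).obj L)
    (fun _ : Fin d => L) (fun _ => ind_of_invertible hLσ) (fun _ => ind_of_invertible hL)
    (isCoh_sigma' K _ fun _ => Coherent.CohBC.isCoh_of_isFinLocFree (RelVAFib14.isFinLocFree_of_isInvertible hLσ)) q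
  exact hτ ⟨0, hd⟩

open W4c1astiltbs12 in
/-- If the invariant class generates the Picard group, all classes are invariant. -/
theorem nonempty_galAct_of_cyclic [PicGrp.Law (W4bk4gw11416.baseChange p K)]
    {L : (W4bk4gw11416.baseChange p K).Modules} (hL : PicF.IsInvertible L) (σ : K ≃ₐ[k] K)
    (hσ : Nonempty ((Scheme.Modules.pullback (galAct p K σ)).obj L ≅ L))
    {N : (W4bk4gw11416.baseChange p K).Modules} (hN : PicF.IsInvertible N) (c : ℤ)
    (hc : PicGrp.cls N hN = PicGrp.cls L hL ^ c) :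
    Nonempty ((Scheme.Modules.pullback (galAct p K σ)).obj N ≅ N) := by
  let P := PicM.pull (galAct p K σ)
  have h1 : P (toM (PicGrp.cls L hL)) = toM (PicGrp.cls L hL) :=
    (PicM.of_eq_iff (PicLoc.isInvertible_pullback _ hL) hL).2 hσ
  have h2 : ∀ m : ℤ, P (toM (PicGrp.cls L hL ^ m)) = toM (PicGrp.cls L hL ^ m) := by
    intro m
    induction m using Int.induction_on with
    | zero => rw [zpow_zero, map_one, map_one]
    | succ m ih => rw [zpow_add_one, map_mul, map_mul, ih, h1]
    | pred m ih =>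
      have h3 : P (toM (PicGrp.cls L hL ^ (-(m : ℤ) - 1))) * toM (PicGrp.cls L hL) =
          toM (PicGrp.cls L hL ^ (-(m : ℤ) - 1)) * toM (PicGrp.cls L hL) := by
        conv_lhs => rw [← h1]
        rw [← map_mul, ← map_mul, ← zpow_add_one, sub_add_cancel, ih]
      exact mul_right_cancel h3
  have h3 := h2 c
  rw [← hc] at h3
  exact (PicM.of_eq_iff (PicLoc.isInvertible_pullback _ hN) hN).1 h3

end

end Groth.Agent.ASBun8
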