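import Groth.Agent.ASBun8.Sections
import Groth.Agent.VarietyLib.TensorExact
import Groth.Agent.Props12.FinLocFree
import Groth.Agent.Coherent.FiniteType
import Groth.Agent.H8Lim.ModHomDescent
import Groth.Agent.VB5.Endo

/-!
# Morphisms between base changes of coherent modules along a field extension
-/

set_option autoImplicit false
set_option backward.isDefEq.respectTransparency false
set_option backward.isDefEq.respectTransparency.types false
set_option linter.style.haveILetI false
set_option maxHeartbeats 1600000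

universe u

open CategoryTheory CategoryTheory.Limits AlgebraicGeometry Opposite TopologicalSpace
open Groth.Agent.Coherent Groth.Agent.PicLib

namespace Groth.Agent.ASBun8

variable {X : Scheme.{u}}

theorem sum_app {M N : X.Modules} {ι : Type*} (s : Finset ι) (f : ι → (M ⟶ N)) (U : X.Opens) (a : Γ(M, U)) :
    (∑ i ∈ s, f i).app U a = ∑ i ∈ s, (f i).app U a := by
  let ev : (M ⟶ N) →+ Γ(N, U) :=
    { toFun := fun φ => φ.app U a
      map_zero' := rfl
      map_add' := fun _ _ => rfl }
  exact map_sum ev f s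

theorem eq_zero_of_gens {M N : X.Modules} [Coh.IsQCoh M] (t : M ⟶ N) {ι : Type*} (U : ι → X.Opens)
    (hU : ∀ a, IsAffineOpen (U a)) (hcov : ∀ x, ∃ a, x ∈ U a) (n : ι → ℕ) (s : ∀ a, Fin (n a) → Γ(M, U a))
    (hs : ∀ a, ⊤ ≤ Submodule.span Γ(X, U a) (Set.range (s a))) (h : ∀ a i, t.app (U a) (s a i) = 0) : t = 0 := by
  refine VarietyLib.eq_zero_of_stalks t fun x v => ?_
  obtain ⟨a, hx⟩ := hcov x
  have hv : (v : M.presheaf.stalk x) ∈ Submodule.span (X.presheaf.stalk x)
      (Set.range fun i => M.presheaf.germ (U a) x hx (s a i)) :=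
    Props12.span_germ_eq_top M (hU a) (hs a) hx Submodule.mem_top
  change ((DerSch.stalkFunctor X x).map t).hom v = 0
  induction hv using Submodule.span_induction with
  | mem w hw =>
    obtain ⟨i, rfl⟩ := hw
    refine (stalk_map_germ t hx (s a i)).trans ?_
    rw [h a i]
    exact map_zero _
  | zero => exact map_zero _
  | add p q _ _ hp hq => exact (map_add _ p q).trans (by rw [hp, hq, add_zero])
  | smul r p _ hp => exact (map_smul _ r p).trans (by rw [hp, smul_zero])

variable {k K : Type u} [Field k] [Field K] [Algebra k K] {X' : Scheme.{u}}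
  [X.Over (Spec (CommRingCat.of k))] [X'.Over (Spec (CommRingCat.of K))] {g : X' ⟶ X}
  (h : IsPullback g (X' ↘ Spec (CommRingCat.of K)) (X ↘ Spec (CommRingCat.of k))
    (Spec.map (CommRingCat.ofHom (algebraMap k K))))

include h in
/-- Every morphism between base changes is a combination of base changes of morphisms. -/
theorem exists_hom_sum [CompactSpace X] [IsLocallyNoetherian X] {F G : X.Modules} (hF : Coh.IsCoh F)
    [Coh.IsQCoh G] (φ : (Scheme.Modules.pullback g).obj F ⟶ (Scheme.Modules.pullback g).obj G) :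
    ∃ (n : ℕ) (b : Fin n → K) (f : Fin n → (F ⟶ G)), φ = ∑ i, b i • (Scheme.Modules.pullback g).map (f i) := by
  classical
  haveI := hF.1
  obtain ⟨hFq, hfin⟩ := (isCoh_iff_finite_sections F).1 hF
  let B₀ := Module.Free.chooseBasis k K
  let P := (Scheme.Modules.pullback g).obj G
  let adj := Scheme.Modules.pullbackPushforwardAdjunction g
  let φ' : F ⟶ (Scheme.Modules.pushforward g).obj P := adj.homEquiv F P φ
  have hU : ∀ x : X, ∃ U : X.Opens, IsAffineOpen U ∧ x ∈ U := fun x => by
    obtain ⟨U, hU, hx, -⟩ := exists_isAffineOpen_mem_and_subset (x := x) (U := ⊤) trivial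
    exact ⟨U, hU, hx⟩
  choose U hUa hxU using hU
  obtain ⟨T, hT⟩ := isCompact_univ.elim_finite_subcover (fun x : X => (U x : Set X)) (fun x => (U x).2)
    fun x _ => Set.mem_iUnion.2 ⟨x, hxU x⟩
  have hgen : ∀ x : X, ∃ (n : ℕ) (s : Fin n → Γ(F, U x)), Submodule.span Γ(X, U x) (Set.range s) = ⊤ := fun x => by
    haveI := hfin (U x) (hUa x)
    exact Module.Finite.exists_fin
  choose n s hs using hgen
  choose c hc hcu using fun (x : X) (i : Fin (n x)) =>
    existsUnique_coords h B₀ G (hUa x) (φ.app _ (pullSec g (s x i)))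
  let S : Finset (Module.Free.ChooseBasisIndex k K) :=
    T.biUnion fun x => Finset.univ.biUnion fun i => (c x i).support
  let e : Fin S.card ≃ {i // i ∈ S} := S.equivFin.symm
  let bK : Fin S.card → K := fun i => B₀ (e i).1
  let jb : Fin S.card → (G ⟶ (Scheme.Modules.pushforward g).obj P) := fun i => adj.homEquiv G P (bK i • 𝟙 P)
  have hjb : ∀ (i) (V : X.Opens) (a : Γ(G, V)), (jb i).app V a = scl (K := K) X' (g ⁻¹ᵁ V) (bK i) • pullSec g a :=
    fun i V a => (H8Lim.homEquiv_app_apply g _ a).trans (KLin.smul_app_apply (bK i) (𝟙 P) _ _)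
  haveI : HasFiniteBiproducts X.Modules := HasFiniteBiproducts.of_hasFiniteProducts
  let j : (⨁ fun _ : Fin S.card => G) ⟶ (Scheme.Modules.pushforward g).obj P := biproduct.desc jb
  have hdec : ∀ (V : X.Opens) (y : Γ(⨁ fun _ : Fin S.card => G, V)),
      j.app V y = ∑ i, (jb i).app V ((biproduct.π (fun _ : Fin S.card => G) i).app V y) := fun V y => by
    have hj : j = ∑ i, biproduct.π (fun _ : Fin S.card => G) i ≫ jb i := biproduct.desc_eq
    rw [hj, sum_app]
    rfl
  haveI : Mono j := Preadditive.mono_of_cancel_zero _ fun {Z} t ht => by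
    refine H8Lim.modHom_ext_of_cover t 0 fun x => ⟨⊤, trivial, fun W hW _ a => ?_⟩
    show t.app W a = 0
    set y := t.app W a
    let x' : Module.Free.ChooseBasisIndex k K →₀ Γ(G, W) :=
      ∑ i, Finsupp.single (e i).1 ((biproduct.π (fun _ : Fin S.card => G) i).app W y)
    have hx' : (0 : Γ(P, g ⁻¹ᵁ W)) = x'.sum fun i z => scl (K := K) X' (g ⁻¹ᵁ W) (B₀ i) • pullSec g z := by
      rw [← Finsupp.sum_finset_sum_index (fun i => by rw [H8Lim.pullSec_zero, smul_zero])
        (fun i p q => by rw [H8Lim.pullSec_add, smul_add])]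
      calc (0 : Γ(P, g ⁻¹ᵁ W)) = j.app W y := (congr(($ht).app W a)).symm
        _ = _ := by
          rw [hdec]
          refine Finset.sum_congr rfl fun i _ => ?_
          rw [hjb, Finsupp.sum_single_index (by rw [H8Lim.pullSec_zero, smul_zero])]
    have hx0 : x' = 0 := ((existsUnique_coords h B₀ G hW (0 : Γ(P, g ⁻¹ᵁ W))).unique hx' (by simp))
    have hπ : ∀ i, (biproduct.π (fun _ : Fin S.card => G) i).app W y = 0 := fun i => by
      have h1 := DFunLike.congr_fun hx0 (e i).1
      simp only [x', Finsupp.finsetSum_apply, Finsupp.zero_apply] at h1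
      rw [Finset.sum_eq_single i (fun q _ hq => Finsupp.single_eq_of_ne
        fun hh => hq (e.injective (Subtype.ext hh)).symm) (fun hn => absurd (Finset.mem_univ i) hn),
        Finsupp.single_eq_same] at h1
      exact h1
    calc y = (𝟙 (⨁ fun _ : Fin S.card => G) : _ ⟶ _).app W y := rfl
      _ = (∑ i, biproduct.π (fun _ : Fin S.card => G) i ≫ biproduct.ι (fun _ : Fin S.card => G) i).app W y := by
          rw [biproduct.total]
      _ = 0 := by
          rw [sum_app]
          refine Finset.sum_eq_zero fun i _ => ?_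
          show (biproduct.ι (fun _ : Fin S.card => G) i).app W ((biproduct.π (fun _ : Fin S.card => G) i).app W y) = 0
          rw [hπ i]
          exact map_zero _
  have hker : φ' ≫ cokernel.π j = 0 := by
    refine eq_zero_of_gens _ (fun x : T => U x.1) (fun x => hUa x.1) (fun y => ?_) (fun x => n x.1) (fun x => s x.1)
      (fun x => (hs x.1).ge) fun x i => ?_
    · obtain ⟨x, hxT, hyx⟩ := Set.mem_iUnion₂.1 (hT (Set.mem_univ y))
      exact ⟨⟨x, hxT⟩, hyx⟩
    · let y : Γ(⨁ fun _ : Fin S.card => G, U x.1) :=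
        ∑ q, (biproduct.ι (fun _ : Fin S.card => G) q).app (U x.1) (c x.1 i (e q).1)
      have hy : φ'.app (U x.1) (s x.1 i) = j.app (U x.1) y := by
        refine (H8Lim.homEquiv_app_apply g φ (s x.1 i)).trans ?_
        rw [hc x.1 i, map_sum]
        refine Eq.trans (Finset.sum_subset ?_ fun q _ hq => ?_) ((Finset.sum_attach S _).symm.trans
          (Eq.trans (e.sum_comp fun q : {i // i ∈ S} => scl (K := K) X' (g ⁻¹ᵁ U x.1) (B₀ q.1) • pullSec g (c x.1 i q.1)).symm
            (Finset.sum_congr rfl fun q _ => ?_)))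
        · exact fun q hq => Finset.mem_biUnion.2 ⟨x.1, x.2, Finset.mem_biUnion.2 ⟨i, Finset.mem_univ i, hq⟩⟩
        · show scl (K := K) X' _ (B₀ q) • pullSec g (c x.1 i q) = 0
          rw [Finsupp.notMem_support_iff.1 hq, H8Lim.pullSec_zero, smul_zero]
        · show _ = j.app (U x.1) ((biproduct.ι (fun _ : Fin S.card => G) q).app (U x.1) (c x.1 i (e q).1))
          have h2 : biproduct.ι (fun _ : Fin S.card => G) q ≫ j = jb q := biproduct.ι_desc _ _
          rw [show j.app (U x.1) ((biproduct.ι (fun _ : Fin S.card => G) q).app (U x.1) (c x.1 i (e q).1)) =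
            (biproduct.ι (fun _ : Fin S.card => G) q ≫ j).app (U x.1) (c x.1 i (e q).1) from rfl, h2, hjb]
      show (cokernel.π j).app (U x.1) (φ'.app (U x.1) (s x.1 i)) = 0
      rw [hy]
      exact congr(($(cokernel.condition j)).app (U x.1) y)
  let f : F ⟶ ⨁ fun _ : Fin S.card => G := Abelian.monoLift j φ' hker
  have hf : f ≫ j = φ' := Abelian.monoLift_comp j φ' hker
  refine ⟨S.card, bK, fun i => f ≫ biproduct.π (fun _ : Fin S.card => G) i, ?_⟩
  refine H8Lim.hom_ext_pullSec g _ _ (fun x : T => U x.1) (fun x => hUa x.1) (fun y => ?_) (fun x => Set.univ)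
    (fun x => Submodule.span_univ) fun x m _ => ?_
  · obtain ⟨x, hxT, hyx⟩ := Set.mem_iUnion₂.1 (hT (Set.mem_univ (g y)))
    exact ⟨⟨x, hxT⟩, hyx⟩
  · rw [sum_app]
    refine ((H8Lim.homEquiv_app_apply g φ m).symm.trans (congr(($hf).app (U x.1) m)).symm).trans ?_
    show j.app (U x.1) (f.app (U x.1) m) = _
    rw [hdec]
    refine Finset.sum_congr rfl fun i _ => ?_
    rw [hjb]
    exact (congrArg (scl (K := K) X' (g ⁻¹ᵁ U x.1) (bK i) • ·)
      (H8Lim.map_app_pullSec g (f ≫ biproduct.π (fun _ : Fin S.card => G) i) m).symm).trans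
      (KLin.smul_app_apply (bK i) ((Scheme.Modules.pullback g).map (f ≫ biproduct.π (fun _ : Fin S.card => G) i))
        (g ⁻¹ᵁ U x.1) (pullSec g m)).symm

end Groth.Agent.ASBun8
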