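import Groth.Agent.ASBun8.KS
import Groth.Agent.ASBun8.HomBC
import Groth.Agent.Coherent.SupportPullback
import Groth.Agent.EGA43.InjFibre.Scheme
import Mathlib.RingTheory.Artinian.Ring
import Mathlib.RingTheory.Jacobson.Ideal

/-!
# The theorem of Noether and Deuring for coherent modules on proper schemes
-/

set_option autoImplicit false
set_option linter.style.haveILetI false
set_option linter.unusedSectionVars false
set_option backward.isDefEq.respectTransparency.types false
set_option backward.isDefEq.respectTransparency false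

universe u

open CategoryTheory CategoryTheory.Limits AlgebraicGeometry Opposite TopologicalSpace
open Groth.Agent.WeilFin Groth.Agent.Coherent Groth.Agent.PicLib

namespace Groth.Agent.ASBun8

/-- In a ring where every element is a unit or nilpotent the non-units form the Jacobson radical. -/
theorem mem_jacobson_of_not_isUnit {A : Type*} [Ring A] (h : ∀ x : A, IsUnit x ∨ IsNilpotent x) {x : A}
    (hx : ¬ IsUnit x) : x ∈ Ring.jacobson A := by
  rw [← Ideal.jacobson_bot, Ideal.mem_jacobson_iff]
  intro y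
  have hyx : ¬ IsUnit (y * x) := fun hyx => by
    obtain ⟨v, hv⟩ := hyx
    have hl : (↑v⁻¹ * y) * x = 1 := by rw [mul_assoc, ← hv, v.inv_mul]
    rcases h x with h2 | ⟨q, hq⟩
    · exact hx h2
    · have hpow : ∀ q : ℕ, (↑v⁻¹ * y) ^ q * x ^ q = 1 := by
        intro q
        induction q with
        | zero => simp
        | succ q ih => rw [pow_succ, pow_succ', mul_assoc, ← mul_assoc (↑v⁻¹ * y) x, hl, one_mul, ih]
      have h10 := hpow q
      rw [hq, mul_zero] at h10
      haveI := subsingleton_of_zero_eq_one h10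
      exact hx (isUnit_of_subsingleton x)
  obtain h2 | h2 := h (y * x)
  · exact absurd h2 hyx
  obtain ⟨w, hw⟩ := h2.isUnit_one_add
  refine ⟨↑w⁻¹, ?_⟩
  have : (↑w⁻¹ : A) * y * x + ↑w⁻¹ - 1 = 0 := by
    rw [mul_assoc, sub_eq_zero]
    calc (↑w⁻¹ : A) * (y * x) + ↑w⁻¹ = ↑w⁻¹ * (1 + y * x) := by rw [mul_add, mul_one, add_comm]
      _ = 1 := by rw [← hw, w.inv_mul]
  rw [this]
  exact Ideal.zero_mem _

variable {k K : Type u} [Field k] [Field K] [Algebra k K] {X X' : Scheme.{u}}
  [X.Over (Spec (CommRingCat.of k))] [X'.Over (Spec (CommRingCat.of K))] {g : X' ⟶ X}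
  (h : IsPullback g (X' ↘ Spec (CommRingCat.of K)) (X ↘ Spec (CommRingCat.of k))
    (Spec.map (CommRingCat.ofHom (algebraMap k K))))

theorem isCoh_pullback {F : X.Modules} (hF : Coh.IsCoh F) : Coh.IsCoh ((Scheme.Modules.pullback g).obj F) :=
  ⟨haveI := hF.1; EGA43.InjFibre.isQCoh_pullback g F, Groth.Agent.Coherent.isFT_pullback_qcoh g hF.1 hF.2⟩

include h in
/-- Base change along a field extension reflects vanishing. -/
theorem isZero_of_isZero_pullback {G : X.Modules} [Coh.IsQCoh G]
    (hG : IsZero ((Scheme.Modules.pullback g).obj G)) : IsZero G := by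
  classical
  let B₀ := Module.Free.chooseBasis k K
  obtain ⟨i₀⟩ := B₀.index_nonempty
  refine (IsZero.iff_id_eq_zero G).2 (H8Lim.modHom_ext_of_cover _ _ fun x => ⟨⊤, trivial, fun U hU _ a => ?_⟩)
  show a = 0
  have hz : ∀ z : Γ((Scheme.Modules.pullback g).obj G, g ⁻¹ᵁ U), z = 0 := fun z =>
    congr(($((IsZero.iff_id_eq_zero _).1 hG)).app (g ⁻¹ᵁ U) z)
  have hu := (existsUnique_coords h B₀ G hU (0 : Γ((Scheme.Modules.pullback g).obj G, g ⁻¹ᵁ U))).unique
    (y₁ := Finsupp.single i₀ a) (y₂ := 0) (hz _).symm (by simp)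
  simpa using DFunLike.congr_fun hu i₀

variable [IsProper (X ↘ Spec (CommRingCat.of k))] [IsProper (X' ↘ Spec (CommRingCat.of K))]

include h in
/-- An indecomposable summand of `F` is a summand of `G` if the base changes are isomorphic. -/
theorem nonempty_retract_of_iso {T F G : X.Modules} (hT : Indec T) (hTc : Coh.IsCoh T) (hG : Coh.IsCoh G)
    (r : Retract T F) (e : (Scheme.Modules.pullback g).obj F ≅ (Scheme.Modules.pullback g).obj G) :
    Nonempty (Retract T G) := by
  classical
  haveI := isLocallyNoetherian_X (X := X) k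
  haveI : CompactSpace X := QuasiCompact.compactSpace_of_compactSpace (X ↘ Spec (CommRingCat.of k))
  haveI := hG.1
  haveI := hTc.1
  let P := Scheme.Modules.pullback g
  obtain ⟨n, b, f, hf⟩ := exists_hom_sum h (F := T) (G := G) hTc (P.map r.i ≫ e.hom)
  obtain ⟨m, c, f', hf'⟩ := exists_hom_sum h (F := G) (G := T) hG (e.inv ≫ P.map r.r)
  have h1 : 𝟙 (P.obj T) = ∑ i, ∑ j, (b i * c j) • P.map (f i ≫ f' j) := by
    calc 𝟙 (P.obj T) = (P.map r.i ≫ e.hom) ≫ (e.inv ≫ P.map r.r) := by
          rw [Category.assoc, Iso.hom_inv_id_assoc, ← P.map_comp, r.retract, P.map_id]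
      _ = _ := by
          rw [hf, hf', Preadditive.sum_comp]
          refine Finset.sum_congr rfl fun i _ => ?_
          rw [Preadditive.comp_sum]
          refine Finset.sum_congr rfl fun j _ => ?_
          rw [Linear.smul_comp, Linear.comp_smul, smul_smul, P.map_comp]
  by_cases hu : ∃ i j, IsIso (f i ≫ f' j)
  · obtain ⟨i, j, hij⟩ := hu
    exact ⟨⟨f i, f' j ≫ inv (f i ≫ f' j), by rw [← Category.assoc, IsIso.hom_inv_id]⟩⟩
  push Not at hu
  exfalso
  haveI : Module.Finite k (End T) := TF7.finite_hom_coh k hTc hTc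
  haveI : IsArtinianRing (End T) := IsArtinianRing.of_finite k (End T)
  have hid : ∀ x : End T, x * x = x → x = 0 ∨ x = 1 := fun x hx =>
    VB5.idem_of_indecomposable (ind_of_indec k hT).2 x hx
  obtain ⟨N, hN⟩ : IsNilpotent (Ring.jacobson (End T)) := IsSemiprimaryRing.isNilpotent
  have hJ : ∀ i j, (show End T from f i ≫ f' j) ∈ Ring.jacobson (End T) := fun i j =>
    mem_jacobson_of_not_isUnit (A := End T) (fun x => VB5.isUnit_or_isNilpotent (k := k) hid x)
      fun hx => hu i j ((isUnit_iff_isIso _).1 hx)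
  let J := Ring.jacobson (End T)
  let W : ℕ → Submodule K (P.obj T ⟶ P.obj T) := fun q => Submodule.span K ((fun z : End T => P.map z) '' (J ^ q : Ideal (End T)))
  have hW : ∀ q, 𝟙 (P.obj T) ∈ W q := by
    intro q
    induction q with
    | zero =>
      refine Submodule.subset_span ⟨(1 : End T), ?_, P.map_id T⟩
      rw [SetLike.mem_coe, Submodule.pow_zero, Ideal.one_eq_top]
      exact Submodule.mem_top
    | succ q ih =>
      suffices ∀ t ∈ W q, 𝟙 (P.obj T) ≫ t ∈ W (q + 1) by simpa using this _ ih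
      intro t ht
      rw [h1]
      induction ht using Submodule.span_induction with
      | mem t ht =>
        obtain ⟨z, hz, rfl⟩ := ht
        rw [Preadditive.sum_comp]
        refine Submodule.sum_mem _ fun i _ => ?_
        rw [Preadditive.sum_comp]
        refine Submodule.sum_mem _ fun j _ => ?_
        rw [Linear.smul_comp]
        refine Submodule.smul_mem _ _ (Submodule.subset_span ⟨z * (show End T from f i ≫ f' j), ?_, ?_⟩)
        · rw [SetLike.mem_coe, Submodule.pow_succ]
          exact Ideal.mul_mem_mul hz (hJ i j)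
        · exact P.map_comp (f i ≫ f' j) z
      | zero => rw [comp_zero]; exact zero_mem _
      | add p q _ _ hp hq => rw [Preadditive.comp_add]; exact add_mem hp hq
      | smul a p _ hp => rw [Linear.comp_smul]; exact Submodule.smul_mem _ _ hp
  have h0 : 𝟙 (P.obj T) = 0 := by
    have hWN : W N ≤ ⊥ := Submodule.span_le.2 (by
      rintro _ ⟨z, hz, rfl⟩
      rw [show J ^ N = 0 from hN] at hz
      have hz0 : z = 0 := hz
      show P.map z = 0
      rw [hz0]
      exact P.map_zero _ _)
    exact hWN (hW N)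
  exact hT.1 (isZero_of_isZero_pullback h ((IsZero.iff_id_eq_zero _).2 h0))

include h in
/-- Noether–Deuring. -/
theorem nonempty_iso_of_iso_pullback : ∀ (d : ℕ) {F G : X.Modules}, Coh.IsCoh F → Coh.IsCoh G →
    Module.finrank k (F ⟶ F) ≤ d →
    Nonempty ((Scheme.Modules.pullback g).obj F ≅ (Scheme.Modules.pullback g).obj G) → Nonempty (F ≅ G) := by
  intro d
  induction d using Nat.strong_induction_on with
  | _ d ih =>
    intro F G hF hG hd ⟨e⟩
    let P := Scheme.Modules.pullback g
    by_cases h0 : IsZero F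
    · haveI := hG.1
      exact ⟨h0.iso (isZero_of_isZero_pullback h ((P.map_isZero h0).of_iso e.symm))⟩
    · obtain ⟨T, K₁, hT, hTc, hK₁, ⟨e₁⟩, hlt⟩ := exists_split k hF h0
      obtain ⟨r⟩ := nonempty_retract_of_iso h hT hTc hG (retractFst e₁) e
      obtain ⟨K₂, ⟨e₂⟩⟩ := exists_biprod_of_retract r
      haveI : PreservesBinaryBiproducts P := preservesBinaryBiproducts_of_preservesBiproducts P
      let e' : P.obj T ⊞ P.obj K₁ ≅ P.obj T ⊞ P.obj K₂ :=
        (P.mapBiprod T K₁).symm ≪≫ P.mapIso e₁.symm ≪≫ e ≪≫ P.mapIso e₂ ≪≫ P.mapBiprod T K₂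
      have hc : Coh.IsCoh (P.obj T ⊞ P.obj K₁) :=
        isCoh_of_retract K ⟨((P.mapBiprod T K₁).symm ≪≫ P.mapIso e₁.symm).hom,
          ((P.mapBiprod T K₁).symm ≪≫ P.mapIso e₁.symm).inv, Iso.hom_inv_id _⟩ (isCoh_pullback (g := g) hF)
      obtain ⟨i⟩ := ih _ (by omega : Module.finrank k (K₁ ⟶ K₁) < d) hK₁
        (isCoh_of_retract k (retractSnd e₂) hG) le_rfl (nonempty_iso_of_biprod K hc e')
      exact ⟨e₁ ≪≫ biprod.mapIso (Iso.refl T) i ≪≫ e₂.symm⟩

end Groth.Agent.ASBun8
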