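import Groth.Agent.ASBun8.Tensor
import Groth.Agent.CycLib28.PB.Ops.DualCalc
import Groth.Agent.RelVAFib14.Main
import Groth.Agent.VarietyLib.DegBasic
import Groth.Agent.KRRPBLib.Basic

/-!
# Duals of isotypical modules
-/

set_option autoImplicit false
set_option linter.style.haveILetI false
set_option linter.unusedSectionVars false
set_option backward.isDefEq.respectTransparency.types false
set_option backward.isDefEq.respectTransparency false

universe u

open CategoryTheory CategoryTheory.Limits AlgebraicGeometry Opposite TopologicalSpace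
open Groth.Agent.Coherent Groth.Agent.PicLib Groth.Agent.Coherent.CohBC
open Groth.Agent.CycLib28.PB.Ops (dual isFinLocFreeOfRank_dual nonempty_pullback_dual nonempty_dual_congr)

namespace Groth.Agent.ASBun8

section

variable {Y : Scheme.{u}}

/-- The dual of a finite sum. -/
theorem nonempty_dual_sigma {n : ℕ} (F : Fin n → Y.Modules) :
    Nonempty (dual (∐ F) ≅ ∐ fun i => dual (F i)) := by
  classical
  haveI : HasFiniteBiproducts Y.Modules := HasFiniteBiproducts.of_hasFiniteCoproducts
  obtain ⟨a⟩ := nonempty_dual_congr (biproduct.isoCoproduct F)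
  refine ⟨a ≪≫ ?_ ≪≫ biproduct.isoCoproduct _⟩
  exact
    { hom := biproduct.lift fun i => SerreDual.precompApp (biproduct.ι F i) _
      inv := biproduct.desc fun i => SerreDual.precompApp (biproduct.π F i) _
      hom_inv_id := by
        rw [biproduct.lift_desc]
        simp_rw [← SerreDual.precompApp_comp]
        rw [← SerreDual.precompApp_sum, biproduct.total, SerreDual.precompApp_id]
      inv_hom_id := by
        refine biproduct.hom_ext' _ _ fun j => biproduct.hom_ext _ _ fun i => ?_
        rw [biproduct.ι_desc_assoc, Category.comp_id, Category.assoc, biproduct.lift_π,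
          ← SerreDual.precompApp_comp, biproduct.ι_π, biproduct.ι_π]
        by_cases h : i = j
        · subst h
          simp [SerreDual.precompApp_id]
        · rw [dif_neg h, dif_neg (Ne.symm h), SerreDual.precompApp_zero] }

theorem isInvertible_dual {M : Y.Modules} (hM : PicF.IsInvertible M) : PicF.IsInvertible (dual M) :=
  KRRPBLib.isInvertible_of_rankOne (isFinLocFreeOfRank_dual (PicLib.isFinLocFreeOfRank_one hM))

theorem of_dual {M : Y.Modules} (hM : PicF.IsInvertible M) :
    PicM.of (isInvertible_dual hM) * PicM.of hM = 1 := by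
  have hM1 := PicLib.isFinLocFreeOfRank_one hM
  haveI := isIso_contract (E := dual M) (VarietyLib.isFinLocFree_of_rank (isFinLocFreeOfRank_dual hM1)) M
  haveI := CohBC.isIso_scalar hM
  obtain ⟨dd⟩ := ExtSS.nonempty_dual_dual (VarietyLib.isFinLocFree_of_rank hM1)
  rw [PicM.of_mul, PicM.of_eq_one_iff]
  exact ⟨asIso (contractBilin (dual M) M).desc ≪≫ CohBC.internalHomSourceIso dd.symm M ≪≫
    (asIso (curry (CohBC.scalarBilin M))).symm⟩

theorem nonempty_dual_pow {M M' : Y.Modules} (hM : PicF.IsInvertible M) (hM' : PicF.IsInvertible M')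
    (h : PicM.of hM' * PicM.of hM = 1) {A : Y.Modules} {r : ℕ} (e : A ≅ ∐ fun _ : Fin r => M) :
    Nonempty (dual A ≅ ∐ fun _ : Fin r => M') := by
  obtain ⟨a⟩ := nonempty_dual_congr e.symm
  obtain ⟨b⟩ := nonempty_dual_sigma fun _ : Fin r => M
  obtain ⟨c⟩ := (PicM.of_eq_iff (isInvertible_dual hM) hM').1 (mul_right_cancel ((of_dual hM).trans h.symm))
  exact ⟨a ≪≫ b ≪≫ Sigma.mapIso fun _ => c⟩

end

variable {k K : Type u} [Field k] [Field K] [Algebra k K] {X X' : Scheme.{u}}
  [X.Over (Spec (CommRingCat.of k))] [X'.Over (Spec (CommRingCat.of K))] {g : X' ⟶ X}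
  (h : IsPullback g (X' ↘ Spec (CommRingCat.of K)) (X ↘ Spec (CommRingCat.of k))
    (Spec.map (CommRingCat.ofHom (algebraMap k K))))
  [IsProper (X ↘ Spec (CommRingCat.of k))] [IsProper (X' ↘ Spec (CommRingCat.of K))]

include h in
theorem pos_of_isotypical {E : X.Modules} (hE : Coh.IsCoh E) (hE0 : ¬ IsZero E) {L : X'.Modules} {r : ℕ}
    (e : (Scheme.Modules.pullback g).obj E ≅ ∐ fun _ : Fin r => L) : 0 < r := by
  haveI := hE.1
  refine Nat.pos_of_ne_zero fun hr => ?_
  subst hr
  exact hE0 (isZero_of_isZero_pullback h ((isZero_sigma _ fun i => i.elim0).of_iso e))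

include h in
/-- The type of an indecomposable bounds the multiplicity. -/
theorem isotypical_le {D E : X.Modules} (hD : Coh.IsCoh D) (hE : Coh.IsCoh E) (hEi : Ind E) {L : X'.Modules}
    (hLi : Ind L) (hLc : Coh.IsCoh L) {r s : ℕ} (hr : 0 < r)
    (eD : (Scheme.Modules.pullback g).obj D ≅ ∐ fun _ : Fin r => L)
    (eE : (Scheme.Modules.pullback g).obj E ≅ ∐ fun _ : Fin s => L) : s ≤ r := by
  have hD0 : ¬ IsZero D := fun hz => hLi.1 (by
    have h1 : IsZero (∐ fun _ : Fin r => L) := (Functor.map_isZero (Scheme.Modules.pullback g) hz).of_iso eD.symm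
    rw [IsZero.iff_id_eq_zero] at h1 ⊢
    rw [← (sigmaRetract (fun _ : Fin r => L) ⟨0, hr⟩).retract, ← Category.comp_id (sigmaRetract (fun _ : Fin r => L) ⟨0, hr⟩).i, h1, comp_zero, zero_comp])
  obtain ⟨G, t, hGi, ⟨R⟩, ⟨eG⟩⟩ := exists_iso_pow h hD hD0 hLi hLc eD
  obtain ⟨a, ⟨ea⟩⟩ := exists_pow_of_retract K hLi hLc
    ((R.map (Scheme.Modules.pullback g)).trans ⟨eD.hom, eD.inv, eD.hom_inv_id⟩)
  obtain ⟨eGE⟩ := nonempty_iso_of_isotypical h (isCoh_of_retract k R hD) hE hGi hEi ea eE
  let E' : (∐ fun _ : Fin r => L) ≅ ∐ fun _ : Fin (t * s) => L :=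
    eD.symm ≪≫ (Scheme.Modules.pullback g).mapIso (eG ≪≫ Sigma.mapIso fun _ => eGE) ≪≫ pullbackSigma g _ ≪≫
      (Sigma.mapIso fun _ => eE) ≪≫ powPowIso L t s
  obtain ⟨σ, -⟩ := exists_equiv_of_iso K (fun _ : Fin r => L) (fun _ : Fin (t * s) => L) (fun _ => hLi) (fun _ => hLi)
    (isCoh_sigma' K _ fun _ => hLc) E'
  have ht : r = t * s := by simpa using Fintype.card_congr σ
  rcases Nat.eq_zero_or_pos t with h0 | h0
  · subst h0
    omega
  · rw [ht]
    exact Nat.le_mul_of_pos_left s h0

include h in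
/-- Indecomposables of dual types have the same multiplicity. -/
theorem isotypical_dual_le {W W' : X.Modules} (hW : FlatMod.IsFinLocFree W) (hW0 : ¬ IsZero W)
    (hW' : FlatMod.IsFinLocFree W') (hW'i : Ind W') [ConnectedSpace X'] {L L' : X'.Modules}
    (hL : PicF.IsInvertible L) (hL' : PicF.IsInvertible L') (hLL : PicM.of hL' * PicM.of hL = 1) {d d' : ℕ}
    (eW : (Scheme.Modules.pullback g).obj W ≅ ∐ fun _ : Fin d => L)
    (eW' : (Scheme.Modules.pullback g).obj W' ≅ ∐ fun _ : Fin d' => L') : d' ≤ d := by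
  haveI := isLocallyNoetherian_X (X := X) k
  haveI := isLocallyNoetherian_X (X := X') K
  have hd := pos_of_isotypical h (CohBC.isCoh_of_isFinLocFree hW) hW0 eW
  obtain ⟨a⟩ := nonempty_pullback_dual g hW
  obtain ⟨b⟩ := nonempty_dual_pow hL hL' hLL eW
  exact isotypical_le h (CohBC.isCoh_of_isFinLocFree (isFinLocFree_internalHom hW (isFinLocFree_structureModule X)))
    (CohBC.isCoh_of_isFinLocFree hW') hW'i (ind_of_invertible hL') (CohBC.isCoh_of_isFinLocFree (RelVAFib14.isFinLocFree_of_isInvertible hL'))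
    hd (a ≪≫ b) eW'

end Groth.Agent.ASBun8
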