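import Groth.Agent.ASBun8.Galois

/-!
# Galois invariant indecomposable bundles are of the form of a bundle over the base
-/

set_option autoImplicit false
set_option linter.style.haveILetI false
set_option linter.unusedSectionVars false
set_option backward.isDefEq.respectTransparency.types false
set_option backward.isDefEq.respectTransparency false
set_option maxHeartbeats 1600000

universe u

open CategoryTheory CategoryTheory.Limits AlgebraicGeometry Opposite TopologicalSpace
open Groth.Agent.WeilFin Groth.Agent.Coherent Groth.Agent.FEtQuot.FieldLimit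

namespace Groth.Agent.ASBun8

variable {k K : Type u} [Field k] [Field K] [Algebra k K] [Algebra.IsSeparable k K] {X : Scheme.{u}}

/-- A bundle on `X_K` is a summand of the base change of a bundle on `X`. -/
theorem exists_retract_pullback (p : X ⟶ Spec (CommRingCat.of k)) [IsProper p]
    {W : (pullback p (Spec.map (CommRingCat.ofHom (algebraMap k K)))).Modules} (hW : FlatMod.IsFinLocFree W) :
    ∃ N : X.Modules, FlatMod.IsFinLocFree N ∧
      Nonempty (Retract W ((Scheme.Modules.pullback (pullback.fst p (Spec.map (CommRingCat.ofHom (algebraMap k K))))).obj N)) := by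
  classical
  haveI : CompactSpace X := QuasiCompact.compactSpace_of_compactSpace p
  letI : X.Over (Spec (CommRingCat.of k)) := ⟨p⟩
  haveI : IsProper (X ↘ Spec (CommRingCat.of k)) := ‹IsProper p›
  haveI := EulerLib.isNoetherian_of_proper (X := X) k
  haveI : QuasiSeparatedSpace X := inferInstance
  obtain ⟨hc⟩ := nonempty_isLimit_cone (k := k) (Ω := K) p
  haveI : Coh.IsQCoh W := (Coherent.CohBC.isCoh_of_isFinLocFree hW).1
  obtain ⟨j, -, Fj, hFj, hFjp, ⟨ej⟩⟩ := H8Lim.exists_stage_fpModule (D := diag (Ω := K) p) (c := cone p) hc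
    (i := op (∅ : Finset K)) W (Props12.isFP_of_isFinLocFree _ hW)
  haveI := hFj
  obtain ⟨l, φ, hl⟩ := (H8Lim.isFinLocFree_iff_eventually (D := diag (Ω := K) p) (c := cone p) hc (i := j) Fj hFjp).1
    (DCat.PerfTensor.isFinLocFree_of_iso ej.symm hW)
  let W₀ := (Scheme.Modules.pullback ((diag (Ω := K) p).map φ)).obj Fj
  let π₀ := (cone (Ω := K) p).π.app l
  let e₀ : (Scheme.Modules.pullback π₀).obj W₀ ≅ W :=
    (Scheme.Modules.pullbackComp π₀ ((diag (Ω := K) p).map φ)).app Fj ≪≫
      (Scheme.Modules.pullbackCongr ((cone (Ω := K) p).w φ)).app Fj ≪≫ ej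
  let L : IntermediateField k K := ext k l.unop
  haveI : Algebra.IsSeparable k L := Algebra.isSeparable_tower_bot_of_isSeparable k L K
  letI : (pullback p (bs k l.unop)).Over (Spec (CommRingCat.of L)) := ⟨pullback.snd p (bs k l.unop)⟩
  have h₀ : IsPullback (pullback.fst p (bs k l.unop))
      (pullback p (bs k l.unop) ↘ Spec (CommRingCat.of L)) (X ↘ Spec (CommRingCat.of k))
      (Spec.map (CommRingCat.ofHom (algebraMap k L))) := IsPullback.of_hasPullback p (bs k l.unop)
  haveI : IsFinite (pullback.fst p (bs k l.unop)) := (isFinLocFree_proj h₀).1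
  haveI : IsLocallyNoetherian (pullback p (bs k l.unop)) :=
    LocallyOfFiniteType.isLocallyNoetherian (pullback.fst p (bs k l.unop))
  obtain ⟨R⟩ := nonempty_retract_counit h₀ (W := W₀) hl
  let N : X.Modules := (Scheme.Modules.pushforward (pullback.fst p (bs k l.unop))).obj W₀
  refine ⟨N, DQCoh.isFinLocFree_push _ (isFinLocFree_proj h₀) hl, ⟨?_⟩⟩
  let e₁ : (Scheme.Modules.pullback π₀).obj ((Scheme.Modules.pullback (pullback.fst p (bs k l.unop))).obj N) ≅
      (Scheme.Modules.pullback (pullback.fst p (Spec.map (CommRingCat.ofHom (algebraMap k K))))).obj N :=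
    (Scheme.Modules.pullbackComp π₀ (pullback.fst p (bs k l.unop))).app N ≪≫
      (Scheme.Modules.pullbackCongr (π_fst p l)).app N
  exact ((⟨e₀.inv, e₀.hom, e₀.inv_hom_id⟩ : Retract W _).trans (R.map (Scheme.Modules.pullback π₀))).trans
    ⟨e₁.hom, e₁.inv, e₁.hom_inv_id⟩

end Groth.Agent.ASBun8
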