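import Groth.Agent.ASBun8.Sections
import Groth.Agent.GenOneBC5.HomBC
import Groth.Agent.H8Lim.ModHomDescent
import Groth.Agent.DQCoh.ResDescent
import Groth.Agent.ASBun8.HomBC
import Mathlib.RingTheory.Unramified.Finite
import Mathlib.RingTheory.Unramified.Field

/-!
# The counit of a finite separable field extension splits
-/

set_option autoImplicit false
set_option linter.style.haveILetI false
set_option linter.unusedSectionVars false
set_option backward.isDefEq.respectTransparency.types false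
set_option backward.isDefEq.respectTransparency false
set_option maxHeartbeats 1600000

universe u

open CategoryTheory CategoryTheory.Limits AlgebraicGeometry Opposite TopologicalSpace TensorProduct
open Groth.Agent.Coherent Groth.Agent.PicLib

namespace Groth.Agent.ASBun8

variable {k L : Type u} [Field k] [Field L] [Algebra k L] {X X' : Scheme.{u}}
  [X.Over (Spec (CommRingCat.of k))] [X'.Over (Spec (CommRingCat.of L))] {g : X' ⟶ X}
  (h : IsPullback g (X' ↘ Spec (CommRingCat.of L)) (X ↘ Spec (CommRingCat.of k))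
    (Spec.map (CommRingCat.ofHom (algebraMap k L))))

include h in
theorem pushforward_map_smul {A B : X'.Modules} (c : k) (φ : A ⟶ B) :
    (Scheme.Modules.pushforward g).map (algebraMap k L c • φ) = c • (Scheme.Modules.pushforward g).map φ := by
  refine Scheme.Modules.hom_ext _ _ fun U => ConcreteCategory.hom_ext _ _ fun w => ?_
  refine Eq.trans ?_ (KLin.smul_app_apply c ((Scheme.Modules.pushforward g).map φ) U w).symm
  show (algebraMap k L c • φ).app (g ⁻¹ᵁ U) w = g.app U _ • φ.app (g ⁻¹ᵁ U) w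
  refine (KLin.smul_app_apply (algebraMap k L c) φ (g ⁻¹ᵁ U) w).trans (congrArg (· • φ.app (g ⁻¹ᵁ U) w) ?_)
  have h1 := congr($(g.naturality (homOfLE (le_top : U ≤ ⊤)).op) (Coh.toGlobal (X ↘ Spec (CommRingCat.of k)) c))
  refine Eq.trans ?_ h1.symm
  exact congrArg (fun t => (X'.presheaf.map _) t) (appTop_toGlobal g h c).symm

include h in
theorem isFinLocFree_proj [FiniteDimensional k L] : Mor2.IsFinLocFree g := by
  haveI : Module.FinitePresentation k L := Module.finitePresentation_of_finite k L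
  haveI h1 : IsFinite (Spec.map (CommRingCat.ofHom (algebraMap k L))) :=
    (IsFinite.SpecMap_iff _).2 (RingHom.finite_algebraMap.2 inferInstance)
  haveI h2 : Flat (Spec.map (CommRingCat.ofHom (algebraMap k L))) :=
    (HasRingHomProperty.Spec_iff (P := @Flat)).2 (RingHom.flat_algebraMap_iff.2 inferInstance)
  haveI h3 : LocallyOfFinitePresentation (Spec.map (CommRingCat.ofHom (algebraMap k L))) :=
    (HasRingHomProperty.Spec_iff (P := @LocallyOfFinitePresentation)).2
      (RingHom.finitePresentation_algebraMap.2 inferInstance)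
  exact ⟨MorphismProperty.of_isPullback h.flip h1, MorphismProperty.of_isPullback h.flip h2,
    MorphismProperty.of_isPullback h.flip h3⟩

include h in
/-- For a finite separable extension the counit `g^* g_* W ⟶ W` is a split epimorphism. -/
theorem nonempty_retract_counit [FiniteDimensional k L] [Algebra.IsSeparable k L] [CompactSpace X]
    [QuasiSeparatedSpace X] [IsLocallyNoetherian X'] {W : X'.Modules} (hWl : FlatMod.IsFinLocFree W) :
    Nonempty (Retract W ((Scheme.Modules.pullback g).obj ((Scheme.Modules.pushforward g).obj W))) := by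
  classical
  have hW := Coherent.CohBC.isCoh_of_isFinLocFree hWl
  haveI := hW.1
  haveI : IsFinite g := (isFinLocFree_proj h).1
  let P := Scheme.Modules.pullback g
  let Q := Scheme.Modules.pushforward g
  haveI : Coh.IsQCoh (Q.obj W) := Coherent.isQCoh_push g _
  let ε : P.obj (Q.obj W) ⟶ W := (Scheme.Modules.pullbackPushforwardAdjunction g).counit.app W
  let G : L → (P.obj (Q.obj W) ⟶ P.obj (Q.obj W)) := fun y => P.map (Q.map (y • 𝟙 W))
  have hGε : ∀ y, G y ≫ ε = y • ε := fun y => by
    refine ((Scheme.Modules.pullbackPushforwardAdjunction g).counit.naturality (y • 𝟙 W)).trans ?_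
    show ε ≫ (y • 𝟙 W) = _
    rw [Linear.comp_smul, Category.comp_id]
  have hGmul : ∀ a y, G (a * y) = G a ≫ G y := fun a y => by
    show P.map (Q.map ((a * y) • 𝟙 W)) = P.map (Q.map (a • 𝟙 W)) ≫ P.map (Q.map (y • 𝟙 W))
    rw [← P.map_comp, ← Q.map_comp, Linear.smul_comp, Category.id_comp, smul_smul]
  let β : L ⊗[k] L →+ (P.obj (Q.obj W) ⟶ P.obj (Q.obj W)) :=
    TensorProduct.liftAddHom
      (AddMonoidHom.mk' (fun x => AddMonoidHom.mk' (fun y => x • G y)
        fun y y' => by
          show x • P.map (Q.map ((y + y') • 𝟙 W)) = _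
          rw [add_smul, Functor.map_add, Functor.map_add, smul_add])
        fun x x' => AddMonoidHom.ext fun y => add_smul x x' _)
      fun c x y => by
        show (c • x) • G y = x • P.map (Q.map ((c • y) • 𝟙 W))
        rw [Algebra.smul_def c y, mul_smul, pushforward_map_smul h, GenOneBC5.map_smul_bc h,
          Algebra.smul_def, mul_comm, mul_smul]
  have hβ : ∀ x y, β (x ⊗ₜ y) = x • G y := fun x y => rfl
  have hβε : ∀ t, β t ≫ ε = Algebra.TensorProduct.lmul' k t • ε := by
    intro t
    induction t using TensorProduct.induction_on with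
    | zero => rw [map_zero, map_zero, zero_comp, zero_smul]
    | tmul x y => rw [hβ, Linear.smul_comp, hGε, smul_smul, Algebra.TensorProduct.lmul'_apply_tmul]
    | add p q hp hq => rw [map_add, map_add, Preadditive.add_comp, hp, hq, add_smul]
  have hβl : ∀ (a : L) t, β ((1 ⊗ₜ a) * t) = G a ≫ β t := by
    intro a t
    induction t using TensorProduct.induction_on with
    | zero => rw [mul_zero, map_zero, comp_zero]
    | tmul x y => rw [Algebra.TensorProduct.tmul_mul_tmul, one_mul, hβ, hβ, hGmul, Linear.comp_smul]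
    | add p q hp hq => rw [mul_add, map_add, map_add, Preadditive.comp_add, hp, hq]
  have hβr : ∀ (a : L) t, β ((a ⊗ₜ 1) * t) = a • β t := by
    intro a t
    induction t using TensorProduct.induction_on with
    | zero => rw [mul_zero, map_zero, smul_zero]
    | tmul x y => rw [Algebra.TensorProduct.tmul_mul_tmul, one_mul, hβ, hβ, smul_smul]
    | add p q hp hq => rw [mul_add, map_add, map_add, smul_add, hp, hq]
  haveI : Algebra.FormallyUnramified k L := Algebra.FormallyUnramified.of_isSeparable k L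
  let e := β (Algebra.FormallyUnramified.elem k L)
  have heε : e ≫ ε = ε := by rw [hβε, Algebra.FormallyUnramified.lmul_elem, one_smul]
  have he : ∀ a : L, G a ≫ e = a • e := fun a => by
    rw [← hβl, Algebra.FormallyUnramified.one_tmul_mul_elem, hβr]
  have hεs : ∀ (U : X.Opens) (w : Γ(Q.obj W, U)), ε.app (g ⁻¹ᵁ U) (pullSec g w) = w := fun U w =>
    (congrArg (fun φ => φ.app (g ⁻¹ᵁ U) (pullSec g w))
      ((Scheme.Modules.pullbackPushforwardAdjunction g).homEquiv_counit (g := 𝟙 (Q.obj W))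
        |>.trans (by rw [P.map_id, Category.id_comp]))).symm.trans (H8Lim.homEquiv_symm_app_pullSec g (𝟙 _) w)
  have hε : Epi ε := by
    refine Preadditive.epi_of_cancel_zero _ fun {Z} t ht => ?_
    haveI : CompactSpace X := inferInstance
    obtain ⟨-, hfin⟩ := (isCoh_iff_finite_sections W).1 hW
    have hgen : ∀ U : X.affineOpens, ∃ (n : ℕ) (s : Fin n → Γ(W, g ⁻¹ᵁ U.1)),
        Submodule.span Γ(X', g ⁻¹ᵁ U.1) (Set.range s) = ⊤ := fun U => by
      haveI := hfin (g ⁻¹ᵁ U.1) (U.2.preimage g)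
      exact Module.Finite.exists_fin
    choose n s hs using hgen
    refine eq_zero_of_gens t (fun U : X.affineOpens => g ⁻¹ᵁ U.1) (fun U => U.2.preimage g) (fun y => ?_) n s
      (fun U => (hs U).ge) fun U i => ?_
    · obtain ⟨V, hV, hxV, -⟩ := exists_isAffineOpen_mem_and_subset (x := g y) (U := (⊤ : X.Opens)) trivial
      exact ⟨⟨V, hV⟩, hxV⟩
    · have h2 := congr(($ht).app (g ⁻¹ᵁ U.1) (pullSec g (show Γ(Q.obj W, U.1) from s U i)))
      exact (congrArg (t.app (g ⁻¹ᵁ U.1)) (hεs U.1 (s U i))).symm.trans h2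
  have hQ : Coh.IsCoh (Q.obj W) :=
    Coherent.CohBC.isCoh_of_isFinLocFree (DQCoh.isFinLocFree_push g (isFinLocFree_proj h) hWl)
  have hP : Coh.IsCoh (P.obj (Q.obj W)) := ⟨EGA43.InjFibre.isQCoh_pullback g _,
    Groth.Agent.Coherent.isFT_pullback_qcoh g hQ.1 hQ.2⟩
  have hker : Coh.IsCoh (kernel ε) := Coherent.isCoh_kernel ε hP hW.1
  haveI := hker.1
  obtain ⟨-, hfin⟩ := (isCoh_iff_finite_sections (kernel ε)).1 hker
  have hgen : ∀ U : X.affineOpens, ∃ (n : ℕ) (s : Fin n → Γ(kernel ε, g ⁻¹ᵁ U.1)),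
      Submodule.span Γ(X', g ⁻¹ᵁ U.1) (Set.range s) = ⊤ := fun U => by
    haveI := hfin (g ⁻¹ᵁ U.1) (U.2.preimage g)
    exact Module.Finite.exists_fin
  choose n s hs using hgen
  have hk : kernel.ι ε ≫ e = 0 := by
    refine eq_zero_of_gens _ (fun U : X.affineOpens => g ⁻¹ᵁ U.1) (fun U => U.2.preimage g) (fun y => ?_) n s
      (fun U => (hs U).ge) fun U i => ?_
    · obtain ⟨V, hV, hxV, -⟩ := exists_isAffineOpen_mem_and_subset (x := g y) (U := (⊤ : X.Opens)) trivial
      exact ⟨⟨V, hV⟩, hxV⟩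
    show e.app (g ⁻¹ᵁ U.1) ((kernel.ι ε).app (g ⁻¹ᵁ U.1) (s U i)) = 0
    set z := (kernel.ι ε).app (g ⁻¹ᵁ U.1) (s U i) with hz
    have hεz : ε.app (g ⁻¹ᵁ U.1) z = 0 := congr(($(kernel.condition ε)).app (g ⁻¹ᵁ U.1) (s U i))
    let B := Module.Free.chooseBasis k L
    obtain ⟨c, hc, -⟩ := existsUnique_coords h B (Q.obj W) U.2 z
    let c' : Module.Free.ChooseBasisIndex k L → Γ(Q.obj W, U.1) := fun i => (Q.map (B i • 𝟙 W)).app U.1 (c i)
    have hterm : ∀ i, e.app (g ⁻¹ᵁ U.1) (scl (K := L) X' (g ⁻¹ᵁ U.1) (B i) • pullSec g (c i)) =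
        e.app (g ⁻¹ᵁ U.1) (pullSec g (c' i)) := fun i => by
      rw [show pullSec g (c' i) = (G (B i)).app (g ⁻¹ᵁ U.1) (pullSec g (c i)) from
        (H8Lim.map_app_pullSec g (Q.map (B i • 𝟙 W)) (c i)).symm]
      refine Eq.trans ?_ (congr(($(he (B i))).app (g ⁻¹ᵁ U.1) (pullSec g (c i)))).symm
      exact (Scheme.Modules.Hom.app_smul e _ _).trans (KLin.smul_app_apply (B i) e _ _).symm
    have hεterm : ∀ i, ε.app (g ⁻¹ᵁ U.1) (scl (K := L) X' (g ⁻¹ᵁ U.1) (B i) • pullSec g (c i)) = c' i := fun i => by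
      refine (Scheme.Modules.Hom.app_smul ε _ _).trans ?_
      rw [hεs]
      exact (KLin.smul_app_apply (B i) (𝟙 W) (g ⁻¹ᵁ U.1) (c i)).symm
    have hsum : ∑ i ∈ c.support, c' i = 0 := by
      rw [← hεz, hc, Finsupp.sum, map_sum]
      exact Finset.sum_congr rfl fun i _ => (hεterm i).symm
    rw [hc, Finsupp.sum, map_sum, Finset.sum_congr rfl fun i _ => hterm i, ← map_sum]
    let pS : Γ(Q.obj W, U.1) →+ Γ(P.obj (Q.obj W), g ⁻¹ᵁ U.1) :=
      AddMonoidHom.mk' (fun a => pullSec g a) (fun a b => H8Lim.pullSec_add g a b)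
    rw [show ∑ i ∈ c.support, pullSec g (c' i) = pS (∑ i ∈ c.support, c' i) from (map_sum pS c' _).symm, hsum,
      map_zero, map_zero]
  let s' : W ⟶ P.obj (Q.obj W) := Abelian.epiDesc ε e hk
  refine ⟨⟨s', ε, ?_⟩⟩
  have hs' : ε ≫ s' = e := Abelian.comp_epiDesc ε e hk
  rw [← cancel_epi ε, ← Category.assoc, hs', heε, Category.comp_id]

end Groth.Agent.ASBun8
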