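import Groth.Agent.ASBun8.Simple
import Groth.Agent.ASBun8.Split
import Groth.Agent.H8Lim.ModFPDescent
import Groth.Agent.H8Lim.ModLocFree
import Groth.Agent.FEtQuot.FieldLimit
import Mathlib.FieldTheory.Galois.Infinite

/-!
# Galois invariant indecomposable bundles
-/

set_option autoImplicit false
set_option linter.style.haveILetI false
set_option linter.unusedSectionVars false
set_option backward.isDefEq.respectTransparency.types false
set_option backward.isDefEq.respectTransparency false
set_option maxHeartbeats 1600000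

universe u

open CategoryTheory CategoryTheory.Limits AlgebraicGeometry Opposite TopologicalSpace TensorProduct
open Groth.Agent.WeilFin Groth.Agent.Coherent

namespace Groth.Agent.ASBun8

section Descent

variable {k K : Type*} [Field k] [Field K] [Algebra k K] [IsGalois k K]

/-- A Galois stable subspace without rational vectors is zero. -/
theorem eq_bot_of_stable {C : Type*} [AddCommGroup C] [Module k C] (J : Submodule K (K ⊗[k] C))
    (hst : ∀ σ : K ≃ₐ[k] K, ∀ z ∈ J, LinearMap.rTensor C σ.toLinearMap z ∈ J)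
    (h0 : ∀ c : C, (1 : K) ⊗ₜ[k] c ∈ J → c = 0) : J = ⊥ := by
  classical
  let b := Module.Free.chooseBasis k C
  let B := Algebra.TensorProduct.basis K b
  have hcoord : ∀ (σ : K ≃ₐ[k] K) (z : K ⊗[k] C) i,
      B.repr (LinearMap.rTensor C σ.toLinearMap z) i = σ (B.repr z i) := by
    intro σ z i
    induction z using TensorProduct.induction_on with
    | zero => simp
    | tmul l c => simp [B, map_mul]
    | add u v hu hv => simp only [map_add, Finsupp.add_apply, hu, hv]
  suffices ∀ n : ℕ, ∀ z ∈ J, (B.repr z).support.card ≤ n → z = 0 from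
    (Submodule.eq_bot_iff J).2 fun z hz => this _ z hz le_rfl
  intro n
  induction n using Nat.strong_induction_on with
  | _ n ih =>
    intro z hz hn
    by_contra hne
    obtain ⟨i, hi⟩ : (B.repr z).support.Nonempty :=
      Finsupp.support_nonempty_iff.2 fun h => hne (B.repr.map_eq_zero_iff.1 h)
    set z' := (B.repr z i)⁻¹ • z with hz'
    have hz'J : z' ∈ J := J.smul_mem _ hz
    have h1 : ∀ j, B.repr z' j = (B.repr z i)⁻¹ * B.repr z j := fun j => by simp [z']
    have hfix : ∀ σ : K ≃ₐ[k] K, LinearMap.rTensor C σ.toLinearMap z' = z' := fun σ => by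
      refine sub_eq_zero.1 (ih ((B.repr z).support.card - 1) ?_ _ (J.sub_mem (hst σ _ hz'J) hz'J) ?_)
      · have := Finset.card_pos.2 ⟨i, hi⟩
        omega
      · refine (Finset.card_le_card fun j hj => ?_).trans (Finset.card_erase_of_mem hi).le
        rw [Finsupp.mem_support_iff, map_sub, Finsupp.sub_apply, hcoord, h1] at hj
        refine Finset.mem_erase.2 ⟨fun hji => hj ?_, Finsupp.mem_support_iff.2 fun h0' => hj ?_⟩
        · rw [hji, inv_mul_cancel₀ (Finsupp.mem_support_iff.1 hi), map_one, sub_self]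
        · rw [h0', mul_zero, map_zero, sub_self]
    choose c hc using fun j => (InfiniteGalois.mem_range_algebraMap_iff_fixed (k := k) (B.repr z' j)).2
      fun σ => by rw [← hcoord σ, hfix σ]
    have hz1 : z' = (1 : K) ⊗ₜ[k] ∑ j ∈ (B.repr z').support, c j • b j := by
      conv_lhs => rw [← B.linearCombination_repr z', Finsupp.linearCombination_apply, Finsupp.sum]
      rw [tmul_sum]
      refine Finset.sum_congr rfl fun j _ => ?_
      rw [← hc j, tmul_smul, algebraMap_smul]
      simp [B]
    have h2 := h0 _ (hz1 ▸ hz'J)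
    rw [h2, tmul_zero] at hz1
    have h3 := h1 i
    rw [hz1, inv_mul_cancel₀ (Finsupp.mem_support_iff.1 hi), map_zero, Finsupp.zero_apply] at h3
    exact zero_ne_one h3

/-- A Galois stable subspace is spanned by its rational vectors. -/
theorem le_span_of_stable {A : Type*} [AddCommGroup A] [Module k A] (J : Submodule K (K ⊗[k] A))
    (hst : ∀ σ : K ≃ₐ[k] K, ∀ z ∈ J, LinearMap.rTensor A σ.toLinearMap z ∈ J) :
    J ≤ Submodule.span K ((fun a : A => (1 : K) ⊗ₜ[k] a) '' {a : A | (1 : K) ⊗ₜ[k] a ∈ J}) := by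
  let I₀ : Submodule k A := Submodule.comap (TensorProduct.mk k K A 1) (J.restrictScalars k)
  let S := Submodule.span K ((fun a : A => (1 : K) ⊗ₜ[k] a) '' {a : A | (1 : K) ⊗ₜ[k] a ∈ J})
  have hSJ : S ≤ J := Submodule.span_le.2 (by rintro _ ⟨a, ha, rfl⟩; exact ha)
  obtain ⟨C, hC⟩ := I₀.exists_isCompl
  let π : A →ₗ[k] C := C.projectionOnto I₀ hC.symm
  have hdiff : ∀ z : K ⊗[k] A, z - C.subtype.baseChange K (π.baseChange K z) ∈ S := by
    intro z
    induction z using TensorProduct.induction_on with
    | zero => simp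
    | tmul l a =>
      have ha : a - (π a : A) ∈ I₀ := by
        refine (Submodule.projectionOnto_apply_eq_zero_iff hC.symm).1 ?_
        rw [map_sub]
        exact sub_eq_zero.2 (Submodule.projectionOnto_apply_left hC.symm (π a)).symm
      have h1 : l • ((1 : K) ⊗ₜ[k] (a - (π a : A))) ∈ S := S.smul_mem _ (Submodule.subset_span ⟨_, ha, rfl⟩)
      simpa [smul_sub, TensorProduct.smul_tmul', tmul_sub] using h1
    | add u v hu hv => simpa [map_add, add_sub_add_comm] using S.add_mem hu hv
  have hbot := eq_bot_of_stable (J.comap (C.subtype.baseChange K))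
    (fun σ z hz => by
      have h1 := hst σ _ hz
      rw [Submodule.mem_comap]
      convert h1 using 1
      clear hz h1
      induction z using TensorProduct.induction_on with
      | zero => simp
      | tmul l c => simp
      | add u v hu hv => simp only [map_add, hu, hv])
    (fun c hc => by
      have h1 : (c : A) ∈ I₀ := by simpa [I₀] using hc
      exact Subtype.ext (Submodule.disjoint_def.1 hC.disjoint _ h1 c.2))
  intro z hz
  have h2 : C.subtype.baseChange K (π.baseChange K z) ∈ J := by
    simpa using J.sub_mem hz (hSJ (hdiff z))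
  have h3 : π.baseChange K z = 0 := (Submodule.mem_bot K).1 (hbot ▸ h2)
  have h4 := hdiff z
  rwa [h3, map_zero, sub_zero] at h4

end Descent

variable {k K : Type u} [Field k] [Field K] [Algebra k K] {X X' : Scheme.{u}}
  [X.Over (Spec (CommRingCat.of k))] [X'.Over (Spec (CommRingCat.of K))] {g : X' ⟶ X}
  (h : IsPullback g (X' ↘ Spec (CommRingCat.of K)) (X ↘ Spec (CommRingCat.of k))
    (Spec.map (CommRingCat.ofHom (algebraMap k K))))
  [IsProper (X ↘ Spec (CommRingCat.of k))] [IsProper (X' ↘ Spec (CommRingCat.of K))]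

/-- Pullback along a semilinear automorphism is semilinear. -/
theorem pullback_map_smul (σ : K →+* K) (σX : X' ⟶ X')
    (hσ : σX ≫ (X' ↘ Spec (CommRingCat.of K)) = (X' ↘ Spec (CommRingCat.of K)) ≫ Spec.map (CommRingCat.ofHom σ))
    {A B : X'.Modules} (b : K) (φ : A ⟶ B) :
    (Scheme.Modules.pullback σX).map (b • φ) = σ b • (Scheme.Modules.pullback σX).map φ := by
  have e1 : b • φ = (b • 𝟙 A) ≫ φ := by rw [Linear.smul_comp, Category.id_comp]
  have e2 : σX.appTop (Coh.toGlobal (X' ↘ Spec (CommRingCat.of K)) b) =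
      Coh.toGlobal (X' ↘ Spec (CommRingCat.of K)) (σ b) := by
    show ((X' ↘ Spec (CommRingCat.of K)).appTop ≫ σX.appTop) ((Scheme.ΓSpecIso (CommRingCat.of K)).inv b) = _
    rw [← Scheme.Hom.comp_appTop, hσ, Scheme.Hom.comp_appTop]
    show (X' ↘ Spec (CommRingCat.of K)).appTop _ = (X' ↘ Spec (CommRingCat.of K)).appTop _
    refine congrArg _ ?_
    exact (congr($(Scheme.ΓSpecIso_inv_naturality (CommRingCat.ofHom σ)) b)).symm
  rw [e1, Functor.map_comp, ← VB5.smulMod_eq_smul, ThetaLib.pullback_map_smulMod, e2, VB5.smulMod_eq_smul,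
    Linear.smul_comp, Category.id_comp]

include h in
/-- An indecomposable `M` whose base change has the invariant indecomposable summand `W` is isotypical. -/
theorem exists_pow_of_invariant [IsGalois k K] {M : X.Modules} (hM : FlatMod.IsFinLocFree M) (hMi : Ind M)
    {W : X'.Modules} (hW : Ind W) (R : Retract W ((Scheme.Modules.pullback g).obj M))
    (σX : (K ≃ₐ[k] K) → (X' ⟶ X')) (hσg : ∀ σ, σX σ ≫ g = g)
    (hσ : ∀ σ : K ≃ₐ[k] K, σX σ ≫ (X' ↘ Spec (CommRingCat.of K)) =
      (X' ↘ Spec (CommRingCat.of K)) ≫ Spec.map (CommRingCat.ofHom (σ : K →+* K)))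
    (hinv : ∀ σ, Nonempty ((Scheme.Modules.pullback (σX σ)).obj W ≅ W)) :
    ∃ r : ℕ, 0 < r ∧ Nonempty ((Scheme.Modules.pullback g).obj M ≅ ∐ fun _ : Fin r => W) := by
  classical
  haveI := isLocallyNoetherian_X (X := X) k
  haveI := EulerLib.isNoetherian_of_proper (X := X) k
  haveI : CompactSpace X := QuasiCompact.compactSpace_of_compactSpace (X ↘ Spec (CommRingCat.of k))
  have hMc := Coherent.CohBC.isCoh_of_isFinLocFree hM
  haveI := hMc.1
  let P := Scheme.Modules.pullback g
  have hPc : Coh.IsCoh (P.obj M) := isCoh_pullback (g := g) hMc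
  let I : Submodule K (P.obj M ⟶ P.obj M) :=
    Submodule.span K {φ | ∃ (u : P.obj M ⟶ W) (v : W ⟶ P.obj M), u ≫ v = φ}
  let α : ∀ σ, (Scheme.Modules.pullback (σX σ)).obj (P.obj M) ≅ P.obj M := fun σ =>
    (Scheme.Modules.pullbackComp (σX σ) g).app M ≪≫ (Scheme.Modules.pullbackCongr (hσg σ)).app M
  let τ : ∀ (σ : K ≃ₐ[k] K), (P.obj M ⟶ P.obj M) → (P.obj M ⟶ P.obj M) := fun σ φ =>
    (α σ).inv ≫ (Scheme.Modules.pullback (σX σ)).map φ ≫ (α σ).hom
  have hτI : ∀ σ, ∀ φ ∈ I, τ σ φ ∈ I := by
    intro σ φ hφ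
    induction hφ using Submodule.span_induction with
    | mem φ hφ =>
      obtain ⟨u, v, rfl⟩ := hφ
      obtain ⟨β⟩ := hinv σ
      refine Submodule.subset_span ⟨(α σ).inv ≫ (Scheme.Modules.pullback (σX σ)).map u ≫ β.hom,
        β.inv ≫ (Scheme.Modules.pullback (σX σ)).map v ≫ (α σ).hom, ?_⟩
      simp [τ]
    | zero => simp [τ]
    | add p q _ _ hp hq =>
      simp only [τ, Functor.map_add, Preadditive.add_comp, Preadditive.comp_add] at hp hq ⊢
      exact I.add_mem hp hq
    | smul a p _ hp =>
      simp only [τ] at hp ⊢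
      rw [pullback_map_smul (σ : K →+* K) (σX σ) (hσ σ), Linear.smul_comp, Linear.comp_smul]
      exact I.smul_mem _ hp
  let Φ := GenOneBC5.homBC h M M
  have hΦτ : ∀ (σ : K ≃ₐ[k] K) z, Φ (LinearMap.rTensor (M ⟶ M) σ.toLinearMap z) = τ σ (Φ z) := by
    intro σ z
    induction z using TensorProduct.induction_on with
    | zero => simp [τ]
    | tmul b f =>
      rw [LinearMap.rTensor_tmul, GenOneBC5.homBC_tmul, GenOneBC5.homBC_tmul]
      show σ b • P.map f = (α σ).inv ≫ (Scheme.Modules.pullback (σX σ)).map (b • P.map f) ≫ (α σ).hom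
      rw [pullback_map_smul (σ : K →+* K) (σX σ) (hσ σ), Linear.smul_comp, Linear.comp_smul]
      refine congrArg (σ b • ·) ?_
      rw [Iso.eq_inv_comp]
      exact ((Scheme.Modules.pullbackComp (σX σ) g ≪≫ Scheme.Modules.pullbackCongr (hσg σ)).hom.naturality f).symm
    | add p q hp hq => simp only [τ, map_add, Functor.map_add, Preadditive.add_comp, Preadditive.comp_add] at hp hq ⊢; rw [hp, hq]
  have hI : ∀ φ ∈ I, φ ∈ Submodule.span K ((fun f : M ⟶ M => P.map f) '' {f | P.map f ∈ I}) := by
    intro φ hφ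
    obtain ⟨z, rfl⟩ := (GenOneBC5.bijective_homBC h M M hM hM).2 φ
    have h1 := le_span_of_stable (I.comap Φ) (fun σ z hz => by
      rw [Submodule.mem_comap, hΦτ]; exact hτI σ _ hz) hφ
    have h2 := Submodule.mem_map_of_mem (f := Φ) h1
    rw [Submodule.map_span] at h2
    refine Submodule.span_mono ?_ h2
    rintro _ ⟨_, ⟨a, ha, rfl⟩, rfl⟩
    have e : Φ (1 ⊗ₜ a) = P.map a := by rw [GenOneBC5.homBC_tmul, one_smul]
    exact ⟨a, (by rw [← e]; exact ha : P.map a ∈ I), e.symm⟩
  have hone : 𝟙 (P.obj M) ∈ I := by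
    by_contra hno
    haveI : Module.Finite k (End M) := TF7.finite_hom_coh k hMc hMc
    haveI : IsArtinianRing (End M) := IsArtinianRing.of_finite k (End M)
    obtain ⟨N, hN⟩ : IsNilpotent (Ring.jacobson (End M)) := IsSemiprimaryRing.isNilpotent
    let J := Ring.jacobson (End M)
    let V : ℕ → Submodule K (P.obj M ⟶ P.obj M) :=
      fun q => Submodule.span K ((fun z : End M => P.map z) '' (J ^ q : Ideal (End M)))
    have hcomp : ∀ f : M ⟶ M, P.map f ∈ I → ∀ u : M ⟶ M, P.map (u ≫ f) ∈ I := by
      intro f hf u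
      rw [P.map_comp]
      generalize P.map u = u'
      generalize P.map f = ψ at hf ⊢
      induction hf using Submodule.span_induction with
      | mem φ hφ =>
        obtain ⟨a, b, rfl⟩ := hφ
        exact Submodule.subset_span ⟨u' ≫ a, b, Category.assoc _ _ _⟩
      | zero => rw [comp_zero]; exact zero_mem _
      | add p q _ _ hp hq => rw [Preadditive.comp_add]; exact add_mem hp hq
      | smul a p _ hp => rw [Linear.comp_smul]; exact I.smul_mem _ hp
    have hI₀ : ∀ f : M ⟶ M, P.map f ∈ I → (show End M from f) ∈ J := fun f hf =>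
      mem_jacobson_of_not_isUnit (A := End M)
        (fun x => VB5.isUnit_or_isNilpotent (k := k) (A := End M) (fun e he => VB5.idem_of_indecomposable hMi.2 e he) x)
        fun hu => hno (by
          obtain ⟨w, hw⟩ := hu
          have h5 : (w : End M) * (↑w⁻¹ : End M) = 1 := w.mul_inv
          rw [hw] at h5
          have h6 := hcomp f hf (↑w⁻¹ : End M)
          rw [show ((↑w⁻¹ : End M) : M ⟶ M) ≫ f = 𝟙 M from h5, P.map_id] at h6
          exact h6)
    let ε : P.obj M ⟶ P.obj M := R.r ≫ R.i
    have hε1 : ε ∈ Submodule.span K ((fun z : End M => P.map z) '' (J : Set (End M))) :=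
      Submodule.span_mono (by rintro _ ⟨f, hf, rfl⟩; exact ⟨f, hI₀ f hf, rfl⟩)
        (hI ε (Submodule.subset_span ⟨R.r, R.i, rfl⟩))
    have hstep : ∀ q, ∀ t ∈ V q, ε ≫ t ∈ V (q + 1) := by
      intro q t ht
      generalize ε = s at hε1 ⊢
      induction ht using Submodule.span_induction with
      | mem t ht =>
        obtain ⟨z, hz, rfl⟩ := ht
        induction hε1 using Submodule.span_induction with
        | mem s hs =>
          obtain ⟨y, hy, rfl⟩ := hs
          refine Submodule.subset_span ⟨z * y, ?_, P.map_comp y z⟩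
          rw [SetLike.mem_coe, Submodule.pow_succ]
          exact Ideal.mul_mem_mul hz hy
        | zero => rw [zero_comp]; exact zero_mem _
        | add p q _ _ hp hq => rw [Preadditive.add_comp]; exact add_mem hp hq
        | smul a p _ hp => rw [Linear.smul_comp]; exact Submodule.smul_mem _ _ hp
      | zero => rw [comp_zero]; exact zero_mem _
      | add p q _ _ hp hq => rw [Preadditive.comp_add]; exact add_mem hp hq
      | smul a p _ hp => rw [Linear.comp_smul]; exact Submodule.smul_mem _ _ hp
    have hεV : ∀ q, ε ∈ V (q + 1) := by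
      intro q
      induction q with
      | zero =>
        show ε ∈ Submodule.span K ((fun z : End M => P.map z) '' (J ^ (0 + 1) : Ideal (End M)))
        rw [zero_add, Submodule.pow_one]
        exact hε1
      | succ q ih =>
        have h2 := hstep _ _ ih
        rwa [show ε ≫ ε = ε from by simp [ε, R.retract_assoc]] at h2
    have hε0 : ε = 0 := by
      have hVN : V (N + 1) ≤ ⊥ := Submodule.span_le.2 (by
        rintro _ ⟨z, hz, rfl⟩
        rw [show J ^ (N + 1) = 0 from by rw [Submodule.pow_succ, show J ^ N = 0 from hN, zero_mul]] at hz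
        have hz0 : z = 0 := hz
        show P.map z = 0
        rw [hz0]
        exact P.map_zero _ _)
      exact hVN (hεV N)
    refine hW.1 ((IsZero.iff_id_eq_zero W).2 ?_)
    calc 𝟙 W = R.i ≫ ε ≫ R.r := by simp [ε, R.retract_assoc]
      _ = 0 := by rw [hε0, zero_comp, comp_zero]
  obtain ⟨n, b, φ, hsum⟩ := Submodule.mem_span_set'.1 hone
  choose u v huv using fun i => (φ i).2
  have hr : Retract (P.obj M) (∐ fun _ : Fin n => W) :=
    { i := ∑ i, (b i • u i) ≫ Sigma.ι (fun _ : Fin n => W) i
      r := Sigma.desc v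
      retract := by
        rw [Preadditive.sum_comp, ← hsum]
        refine Finset.sum_congr rfl fun i _ => ?_
        rw [Category.assoc, Sigma.ι_desc, Linear.smul_comp, huv] }
  obtain ⟨r, ⟨e⟩⟩ := exists_pow_of_retract K hW (isCoh_of_retract K R hPc) hr
  refine ⟨r, Nat.pos_of_ne_zero fun h0 => ?_, ⟨e⟩⟩
  subst h0
  exact hMi.1 (isZero_of_isZero_pullback h ((isZero_sigma _ fun i => i.elim0).of_iso e))

end Groth.Agent.ASBun8
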