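import Groth.Agent.ASBun8.SBMultCor
import Groth.Agent.ASBun8.BSSplit

/-!
# Absolutely split bundles in index two
-/

set_option autoImplicit false
set_option linter.style.haveILetI false
set_option linter.unusedSectionVars false
set_option backward.isDefEq.respectTransparency.types false
set_option backward.isDefEq.respectTransparency false
set_option maxHeartbeats 1600000

universe u

open CategoryTheory CategoryTheory.Limits AlgebraicGeometry
open Groth.Agent.CSA

namespace Groth.Agent.ASBun8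

/-- A sum over a disjoint union. -/
noncomputable def sigmaSumIso {X : Scheme.{u}} {a b : ℕ} (F : Fin a ⊕ Fin b → X.Modules) :
    (∐ F) ≅ (∐ fun i => F (Sum.inl i)) ⊞ (∐ fun i => F (Sum.inr i)) where
  hom := Sigma.desc fun x => match x with
    | Sum.inl i => Sigma.ι (fun i => F (Sum.inl i)) i ≫ biprod.inl
    | Sum.inr i => Sigma.ι (fun i => F (Sum.inr i)) i ≫ biprod.inr
  inv := biprod.desc (Sigma.desc fun i => Sigma.ι F (Sum.inl i)) (Sigma.desc fun i => Sigma.ι F (Sum.inr i))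
  hom_inv_id := by
    refine Sigma.hom_ext _ _ fun x => ?_
    rw [Sigma.ι_desc_assoc, Category.comp_id]
    cases x <;> simp
  inv_hom_id := by
    apply biprod.hom_ext' <;> refine Sigma.hom_ext _ _ fun i => ?_ <;> simp

variable {k K : Type u} [Field k] [Field K] [Algebra k K] [IsAlgClosure k K] {X : Scheme.{u}}
  (p : X ⟶ Spec (CommRingCat.of k)) [IsProper p] {m : ℕ} (e : BrSev.Splitting p K m)
  {A : Type u} [Ring A] [Algebra k A] [Algebra.IsCentral k A] [IsSimpleRing A]
  (hA : Module.finrank k A = (m + 1) * (m + 1))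
  (hX : BrSev.IsSBOf k A ((m + 1) * (m + 1) - (m + 1)) p)

include hA hX in
/-- Index two: sums of line bundles of even type and rank two indecomposables of odd type. -/
theorem exists_decomposition_index_two (hi : CSAGal.IsIndex k A 2) {E : X.Modules} (hE : FlatMod.IsFinLocFree E)
    {s₀ : ℕ} (Ns : Fin s₀ → (BrSev.bc p K).Modules) (hNs : ∀ i, PicF.IsInvertible (Ns i))
    (hsplit : BrSev.bcMod p K E ≅ ∐ Ns) :
    ∃ (s t : ℕ) (Ls : Fin s → X.Modules) (Ms : Fin t → X.Modules) (a : Fin s → ℤ) (b : Fin t → ℤ),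
      (∀ i, PicF.IsInvertible (Ls i) ∧ BrSev.IsTwPow e (2 * a i) 1 (Ls i)) ∧
      (∀ i, FlatMod.IsFinLocFree (Ms i) ∧ Ind (Ms i) ∧ BrSev.IsTwPow e (2 * b i + 1) 2 (Ms i)) ∧
      Nonempty (E ≅ (∐ Ls) ⊞ (∐ Ms)) := by
  classical
  haveI : FiniteDimensional k A := FiniteDimensional.of_finrank_pos (by rw [hA]; positivity)
  haveI : IsCSA k A := {}
  obtain ⟨q, hq⟩ := exists_isPeriod (k := k) A
  have hq2 : q = 2 := (Nat.prime_two.eq_one_or_self_of_dvd q (isPeriod_dvd_index hq hi)).resolve_left fun h1 => by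
    have h := isIndex_unique hi (isIndex_one_iff.2 ((BrEq.of_algEquiv k (tpowOne k A)).symm.trans
      ((isPeriod_trivial_iff_dvd hq 1).2 (by rw [h1]))))
    exact absurd h (by omega)
  subst hq2
  obtain ⟨t, Ms, js, rs, hM, ⟨eE⟩⟩ := exists_decomposition_isTwPow e hE Ns hNs hsplit
  have hr : ∀ i, rs i = 2 / Nat.gcd 2 (js i).natAbs := fun i =>
    mult_eq_div_gcd p e hA hX hq hi (hM i).1 (hM i).2.1 (hM i).2.2.1 (hM i).2.2.2
  let P : Fin t → Prop := fun i => Even (js i)
  let eq : Fin (Fintype.card {i // P i}) ⊕ Fin (Fintype.card {i // ¬ P i}) ≃ Fin t :=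
    (Equiv.sumCongr (Fintype.equivFin _).symm (Fintype.equivFin _).symm).trans (Equiv.sumCompl P)
  have hev : ∀ a, ∃ c, js (eq (Sum.inl a)) = 2 * c := fun a => by
    obtain ⟨c, hc⟩ := ((Fintype.equivFin {i // P i}).symm a).2
    exact ⟨c, (show js (eq (Sum.inl a)) = _ from hc).trans (by ring)⟩
  have hod : ∀ a, ∃ c, js (eq (Sum.inr a)) = 2 * c + 1 := fun a =>
    Int.not_even_iff_odd.1 (((Fintype.equivFin {i // ¬ P i}).symm a).2)
  choose ca hca using hev
  choose cb hcb using hod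
  refine ⟨_, _, fun a => Ms (eq (Sum.inl a)), fun a => Ms (eq (Sum.inr a)), ca, cb, fun a => ?_, fun a => ?_, ?_⟩
  · obtain ⟨h1, -, -, h4⟩ := hM (eq (Sum.inl a))
    rw [hr, hca a, Int.natAbs_mul, show Nat.gcd 2 ((2 : ℤ).natAbs * (ca a).natAbs) = 2 from
      Nat.gcd_eq_left (dvd_mul_right 2 _)] at h4
    exact ⟨isInvertible_of_mult_one p e hA hX h1 h4, h4⟩
  · obtain ⟨h1, h2, -, h4⟩ := hM (eq (Sum.inr a))
    refine ⟨h1, h2, ?_⟩
    rw [hr, hcb a, show Nat.gcd 2 (2 * cb a + 1).natAbs = 1 from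
      (Nat.prime_two.coprime_iff_not_dvd.2 (by omega))] at h4
    exact h4
  · exact ⟨eE ≪≫ (Sigma.whiskerEquiv (f := fun x => Ms (eq x)) (g := Ms) eq (fun _ => Iso.refl _)).symm ≪≫
      sigmaSumIso fun x => Ms (eq x)⟩

end Groth.Agent.ASBun8
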