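import Groth.Agent.WeilFin.Bundle
import Groth.Agent.TF7.EndScalar
import Mathlib.GroupTheory.Perm.Basic

/-!
# Krull–Schmidt for coherent modules on proper schemes
-/

set_option autoImplicit false
set_option linter.style.haveILetI false
set_option linter.unusedSectionVars false
set_option backward.isDefEq.respectTransparency.types false
set_option backward.isDefEq.respectTransparency false

universe u

open CategoryTheory CategoryTheory.Limits AlgebraicGeometry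
open Groth.Agent.WeilFin Groth.Agent.Coherent

namespace Groth.Agent.ASBun8

variable {X : Scheme.{u}}

/-- Indecomposable: nonzero and no nontrivial decomposition. -/
def Ind (T : X.Modules) : Prop := ¬ IsZero T ∧ ∀ A B : X.Modules, Nonempty (T ≅ A ⊞ B) → IsZero A ∨ IsZero B

theorem ind_of_iso {T T' : X.Modules} (e : T ≅ T') (h : Ind T) : Ind T' :=
  ⟨fun hz => h.1 (hz.of_iso e), fun A B ⟨e'⟩ => h.2 A B ⟨e ≪≫ e'⟩⟩

theorem isZero_sigma {n : ℕ} (F : Fin n → X.Modules) (h : ∀ i, IsZero (F i)) : IsZero (∐ F) :=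
  (IsZero.iff_id_eq_zero _).2 (Sigma.hom_ext _ _ fun i => (h i).eq_of_src _ _)

/-- `T ⊕ ∐ F ≅ ∐ (T, F)`. -/
noncomputable def biprodSigmaIso (T : X.Modules) {n : ℕ} (F : Fin n → X.Modules) :
    T ⊞ ∐ F ≅ ∐ (Fin.cons T F : Fin (n + 1) → X.Modules) where
  hom := biprod.desc (Sigma.ι (Fin.cons T F : Fin (n + 1) → X.Modules) 0)
    (Sigma.desc fun i => Sigma.ι (Fin.cons T F : Fin (n + 1) → X.Modules) i.succ)
  inv := Sigma.desc (Fin.cases (biprod.inl : T ⟶ T ⊞ ∐ F) fun i => Sigma.ι F i ≫ biprod.inr)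
  hom_inv_id := by
    apply biprod.hom_ext'
    · erw [biprod.inl_desc_assoc, Category.comp_id, Sigma.ι_desc]
      rfl
    · refine Sigma.hom_ext _ _ fun i => ?_
      erw [biprod.inr_desc_assoc, Sigma.ι_desc_assoc, Category.comp_id, Sigma.ι_desc]
      rfl
  inv_hom_id := by
    refine Sigma.hom_ext _ _ fun i => ?_
    induction i using Fin.cases with
    | zero =>
      erw [Sigma.ι_desc_assoc, Category.comp_id]
      exact biprod.inl_desc _ _
    | succ i =>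
      erw [Sigma.ι_desc_assoc, Category.comp_id, Category.assoc, biprod.inr_desc, Sigma.ι_desc]

variable (k : Type u) [Field k] [X.Over (Spec (CommRingCat.of k))] [IsProper (X ↘ Spec (CommRingCat.of k))]

include k

theorem isLocallyNoetherian_X : IsLocallyNoetherian X :=
  CurveRR24.isLocallyNoetherian_of_proper k (X := X)

theorem isCoh_of_retract {A Y : X.Modules} (r : Retract A Y) (hY : Coh.IsCoh Y) : Coh.IsCoh A :=
  haveI := isLocallyNoetherian_X (X := X) k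
  WeilFin.isCoh_retract r hY

theorem indec_of_ind {T : X.Modules} (hT : Coh.IsCoh T) (h : Ind T) : Indec T := by
  refine ⟨h.1, fun f₁ f₂ hf => ?_⟩
  haveI : Module.Finite k (End T) := TF7.finite_hom_coh k hT hT
  obtain ⟨u, hu⟩ := (isUnit_iff_isIso (f₁ + f₂ : End T)).2 hf
  have hid : ∀ e : End T, e * e = e → e = 0 ∨ e = 1 := fun e he => VB5.idem_of_indecomposable h.2 e he
  have hsum : (↑u⁻¹ : End T) * (show End T from f₁) + (↑u⁻¹ : End T) * (show End T from f₂) = 1 := by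
    rw [← mul_add]
    exact (congrArg ((↑u⁻¹ : End T) * ·) hu.symm).trans u.inv_mul
  rcases VB5.isUnit_or_isNilpotent (k := k) hid ((↑u⁻¹ : End T) * (show End T from f₁)) with h1 | h1
  · exact Or.inl ((isUnit_iff_isIso (show End T from f₁)).1 ((Units.isUnit_units_mul u⁻¹ _).1 h1))
  · refine Or.inr ((isUnit_iff_isIso (show End T from f₂)).1 ((Units.isUnit_units_mul u⁻¹ _).1 ?_))
    rw [eq_sub_of_add_eq' hsum]
    exact h1.isUnit_one_sub

theorem ind_of_indec {T : X.Modules} (h : Indec T) : Ind T := by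
  refine ⟨h.1, fun A B ⟨e⟩ => ?_⟩
  have key : (e.hom ≫ biprod.fst ≫ biprod.inl ≫ e.inv) + (e.hom ≫ biprod.snd ≫ biprod.inr ≫ e.inv) = 𝟙 T := by
    calc _ = e.hom ≫ (biprod.fst ≫ biprod.inl + biprod.snd ≫ biprod.inr : A ⊞ B ⟶ A ⊞ B) ≫ e.inv := by
          simp only [Preadditive.comp_add, Preadditive.add_comp, Category.assoc]
      _ = _ := by rw [biprod.total]; simp
  rcases h.2 _ _ (by rw [key]; infer_instance) with hi | hi
  · refine Or.inr ((IsZero.iff_id_eq_zero B).2 ?_)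
    haveI := hi
    have h2 : (biprod.inr ≫ e.inv) ≫ (e.hom ≫ biprod.fst ≫ biprod.inl ≫ e.inv) =
        (0 : B ⟶ T) ≫ (e.hom ≫ biprod.fst ≫ biprod.inl ≫ e.inv) := by simp
    have hz : (biprod.inr ≫ e.inv : B ⟶ T) = 0 := (cancel_mono _).1 h2
    have h3 : 𝟙 B = (biprod.inr ≫ e.inv) ≫ e.hom ≫ biprod.snd := by simp
    rw [h3, hz, zero_comp]
  · refine Or.inl ((IsZero.iff_id_eq_zero A).2 ?_)
    haveI := hi
    have h2 : (biprod.inl ≫ e.inv) ≫ (e.hom ≫ biprod.snd ≫ biprod.inr ≫ e.inv) =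
        (0 : A ⟶ T) ≫ (e.hom ≫ biprod.snd ≫ biprod.inr ≫ e.inv) := by simp
    have hz : (biprod.inl ≫ e.inv : A ⟶ T) = 0 := (cancel_mono _).1 h2
    have h3 : 𝟙 A = (biprod.inl ≫ e.inv) ≫ e.hom ≫ biprod.fst := by simp
    rw [h3, hz, zero_comp]

theorem finrank_end_lt {F A B : X.Modules} (hF : Coh.IsCoh F) (e : F ≅ A ⊞ B) (hB : ¬ IsZero B) :
    Module.finrank k (A ⟶ A) < Module.finrank k (F ⟶ F) := by
  haveI := TF7.finite_hom_coh k hF hF
  have hA' := isCoh_of_retract k (retractFst e) hF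
  have hB' := isCoh_of_retract k (retractSnd e) hF
  haveI := TF7.finite_hom_coh k hA' hA'
  haveI := TF7.finite_hom_coh k hB' hB'
  haveI : Nontrivial (B ⟶ B) := ⟨⟨𝟙 B, 0, fun h => hB ((IsZero.iff_id_eq_zero B).2 h)⟩⟩
  have hBpos : 0 < Module.finrank k (B ⟶ B) := Module.finrank_pos
  let L : ((A ⟶ A) × (B ⟶ B)) →ₗ[k] (F ⟶ F) :=
    { toFun := fun p => (e.hom ≫ biprod.fst) ≫ p.1 ≫ (biprod.inl ≫ e.inv) +
        (e.hom ≫ biprod.snd) ≫ p.2 ≫ (biprod.inr ≫ e.inv)
      map_add' := fun p q => by simp only [Prod.fst_add, Prod.snd_add, Preadditive.add_comp, Preadditive.comp_add]; abel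
      map_smul' := fun c p => by
        simp only [Prod.smul_fst, Prod.smul_snd, Linear.smul_comp, Linear.comp_smul, RingHom.id_apply, smul_add] }
  have hL : Function.Injective L := fun p q h => by
    have h1 := congrArg (fun t => (biprod.inl ≫ e.inv) ≫ t ≫ (e.hom ≫ biprod.fst)) h
    have h2 := congrArg (fun t => (biprod.inr ≫ e.inv) ≫ t ≫ (e.hom ≫ biprod.snd)) h
    simp [L, Preadditive.comp_add, Preadditive.add_comp] at h1 h2
    exact Prod.ext h1 h2
  have h := LinearMap.finrank_le_finrank_of_injective hL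
  rw [Module.finrank_prod] at h
  omega

theorem exists_indec_retract : ∀ (d : ℕ) {Y : X.Modules}, Coh.IsCoh Y → ¬ IsZero Y →
    Module.finrank k (Y ⟶ Y) ≤ d → ∃ T : X.Modules, Indec T ∧ Coh.IsCoh T ∧ Nonempty (Retract T Y) := by
  intro d
  induction d using Nat.strong_induction_on with
  | _ d ih =>
    intro Y hY h0 hd
    by_cases hind : ∀ A B : X.Modules, Nonempty (Y ≅ A ⊞ B) → IsZero A ∨ IsZero B
    · exact ⟨Y, indec_of_ind k hY ⟨h0, hind⟩, hY, ⟨Retract.refl Y⟩⟩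
    · push Not at hind
      obtain ⟨A, B, ⟨e⟩, hA, hB⟩ := hind
      have hlt := finrank_end_lt k hY e hB
      obtain ⟨T, hT, hTc, ⟨r⟩⟩ := ih _ (by omega) (isCoh_of_retract k (retractFst e) hY) hA le_rfl
      exact ⟨T, hT, hTc, ⟨r.trans (retractFst e)⟩⟩

/-- Split off an indecomposable summand. -/
theorem exists_split {Y : X.Modules} (hY : Coh.IsCoh Y) (h0 : ¬ IsZero Y) :
    ∃ T K : X.Modules, Indec T ∧ Coh.IsCoh T ∧ Coh.IsCoh K ∧ Nonempty (Y ≅ T ⊞ K) ∧
      Module.finrank k (K ⟶ K) < Module.finrank k (Y ⟶ Y) := by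
  obtain ⟨T, hT, hTc, ⟨r⟩⟩ := exists_indec_retract k _ hY h0 le_rfl
  obtain ⟨K, ⟨e⟩⟩ := exists_biprod_of_retract r
  exact ⟨T, K, hT, hTc, isCoh_of_retract k (retractSnd e) hY, ⟨e⟩,
    finrank_end_lt k hY (e ≪≫ biprod.braiding T K) hT.1⟩

theorem exists_decomposition : ∀ (d : ℕ) {F : X.Modules}, Coh.IsCoh F → Module.finrank k (F ⟶ F) ≤ d →
    ∃ (n : ℕ) (Fs : Fin n → X.Modules), (∀ i, Ind (Fs i)) ∧ Nonempty (F ≅ ∐ Fs) := by
  intro d
  induction d using Nat.strong_induction_on with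
  | _ d ih =>
    intro F hF hd
    by_cases h0 : IsZero F
    · exact ⟨0, Fin.elim0, fun i => i.elim0, ⟨h0.iso (isZero_sigma _ fun i => i.elim0)⟩⟩
    · obtain ⟨T, K, hT, hTc, hKc, ⟨e⟩, hlt⟩ := exists_split k hF h0
      obtain ⟨n, Fs, hFs, ⟨e'⟩⟩ := ih _ (by omega) hKc le_rfl
      refine ⟨n + 1, Fin.cons T Fs, fun i => ?_, ⟨e ≪≫ biprod.mapIso (Iso.refl T) e' ≪≫ biprodSigmaIso T Fs⟩⟩
      induction i using Fin.cases with
      | zero => rw [Fin.cons_zero]; exact ind_of_indec k hT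
      | succ i => rw [Fin.cons_succ]; exact hFs i

variable {T : X.Modules} (hT : Indec T) (hTc : Coh.IsCoh T)

include hTc in
theorem mult_pos_iff {Y : X.Modules} (hY : Coh.IsCoh Y) : mult k hT Y ≠ 0 ↔ Nonempty (Retract T Y) := by
  haveI := TF7.finite_hom_coh k hTc hY
  exact ⟨retract_of_mult_ne_zero k hT, fun ⟨r⟩ => mult_ne_zero k hT r⟩

include hTc in
theorem mult_add {A B Y : X.Modules} (e : Y ≅ A ⊞ B) (hY : Coh.IsCoh Y) :
    mult k hT Y = mult k hT A + mult k hT B := by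
  haveI := TF7.finite_hom_coh k hTc (isCoh_of_retract k (retractFst e) hY)
  haveI := TF7.finite_hom_coh k hTc (isCoh_of_retract k (retractSnd e) hY)
  rw [mult_congr k hT e, mult_biprod k hT]

include hTc in
theorem mult_sigma {J : Type} [Fintype J] (F : J → X.Modules) (hF : ∀ j, Coh.IsCoh (F j)) :
    mult k hT (∐ F) = ∑ j, mult k hT (F j) := by
  classical
  haveI := fun j => TF7.finite_hom_coh k hTc (hF j)
  haveI : HasFiniteBiproducts X.Modules := HasFiniteBiproducts.of_hasFiniteCoproducts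
  rw [← mult_congr k hT (biproduct.isoCoproduct F)]
  exact mult_eq_sum k hT (biproduct.π F) (biproduct.ι F) (fun j => biproduct.ι_π_self F j)
    (fun i j h => biproduct.ι_π_ne F h) biproduct.total

include hT in
theorem nonempty_iso_of_retract {T₀ : X.Modules} (hT₀ : Indec T₀) (r : Retract T T₀) : Nonempty (T ≅ T₀) := by
  obtain ⟨K, ⟨e⟩⟩ := exists_biprod_of_retract r
  rcases (ind_of_indec k hT₀).2 T K ⟨e⟩ with h | h
  · exact absurd h hT.1
  · haveI : IsIso (biprod.inl : T ⟶ T ⊞ K) := by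
      refine ⟨biprod.fst, by simp, ?_⟩
      apply biprod.hom_ext'
      · simp
      · exact h.eq_of_src _ _
    exact ⟨(asIso (biprod.inl : T ⟶ T ⊞ K) ) ≪≫ e.symm⟩

omit hT hTc in
/-- Modules with the same multiplicities are isomorphic. -/
theorem nonempty_iso_of_mult : ∀ (d : ℕ) {Y Y' : X.Modules}, Coh.IsCoh Y → Coh.IsCoh Y' →
    Module.finrank k (Y ⟶ Y) ≤ d →
    (∀ (T : X.Modules) (hT : Indec T), Coh.IsCoh T → mult k hT Y = mult k hT Y') → Nonempty (Y ≅ Y') := by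
  intro d
  induction d using Nat.strong_induction_on with
  | _ d ih =>
    intro Y Y' hY hY' hn h
    by_cases h0 : IsZero Y
    · refine ⟨h0.iso ?_⟩
      by_contra h0'
      obtain ⟨T, hT, hTc, ⟨r⟩⟩ := exists_indec_retract k _ hY' h0' le_rfl
      exact (mult_pos_iff k hT hTc hY').2 ⟨r⟩ ((h T hT hTc).symm.trans (mult_of_isZero k hT h0))
    · obtain ⟨T₀, K, hT₀, hT₀c, hKc, ⟨e⟩, hlt⟩ := exists_split k hY h0
      obtain ⟨r⟩ := (mult_pos_iff k hT₀ hT₀c hY').1
        (h T₀ hT₀ hT₀c ▸ (mult_pos_iff k hT₀ hT₀c hY).2 ⟨retractFst e⟩)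
      obtain ⟨K', ⟨e'⟩⟩ := exists_biprod_of_retract r
      obtain ⟨i⟩ := ih _ (by omega : Module.finrank k (K ⟶ K) < d) hKc (isCoh_of_retract k (retractSnd e') hY') le_rfl
        fun T hT hTc => by
          have := h T hT hTc
          rw [mult_add k hT hTc e hY, mult_add k hT hTc e' hY'] at this
          omega
      exact ⟨e ≪≫ biprod.mapIso (Iso.refl T₀) i ≪≫ e'.symm⟩

omit hT hTc in
/-- Cancellation. -/
theorem nonempty_iso_of_biprod {A B B' : X.Modules} (hAB : Coh.IsCoh (A ⊞ B)) (e : A ⊞ B ≅ A ⊞ B') :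
    Nonempty (B ≅ B') := by
  refine nonempty_iso_of_mult k _ (isCoh_of_retract k (retractSnd (Iso.refl (A ⊞ B))) hAB)
    (isCoh_of_retract k (retractSnd e) hAB) le_rfl fun T hT hTc => ?_
  have h1 := mult_add k hT hTc (Iso.refl (A ⊞ B)) hAB
  have h2 := mult_add k hT hTc e hAB
  omega

theorem mult_pos_iff_iso {T' : X.Modules} (hT' : Indec T') (hTc : Coh.IsCoh T) (hT'c : Coh.IsCoh T') :
    mult k hT T' ≠ 0 ↔ Nonempty (T ≅ T') :=
  ⟨fun h => ((mult_pos_iff k hT hTc hT'c).1 h).elim fun r => nonempty_iso_of_retract k hT hT' r,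
    fun ⟨e⟩ => (mult_pos_iff k hT hTc hT'c).2 ⟨⟨e.hom, e.inv, e.hom_inv_id⟩⟩⟩

omit hT hTc in
/-- Uniqueness of decompositions. -/
theorem exists_equiv_of_iso {n m : ℕ} (Fs : Fin n → X.Modules) (Gs : Fin m → X.Modules)
    (hF : ∀ i, Ind (Fs i)) (hG : ∀ j, Ind (Gs j)) (hFc : Coh.IsCoh (∐ Fs)) (e : ∐ Fs ≅ ∐ Gs) :
    ∃ σ : Fin n ≃ Fin m, ∀ i, Nonempty (Fs i ≅ Gs (σ i)) := by
  classical
  haveI : HasFiniteBiproducts X.Modules := HasFiniteBiproducts.of_hasFiniteCoproducts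
  have hGc : Coh.IsCoh (∐ Gs) := isCoh_of_retract k ⟨e.inv, e.hom, e.inv_hom_id⟩ hFc
  have hret : ∀ {p : ℕ} (H : Fin p → X.Modules) (i : Fin p), Retract (H i) (∐ H) := fun H i =>
    ⟨biproduct.ι H i ≫ (biproduct.isoCoproduct H).hom, (biproduct.isoCoproduct H).inv ≫ biproduct.π H i, by simp⟩
  have hFi : ∀ i, Coh.IsCoh (Fs i) := fun i => isCoh_of_retract k (hret Fs i) hFc
  have hGi : ∀ j, Coh.IsCoh (Gs j) := fun j => isCoh_of_retract k (hret Gs j) hGc
  let R : Setoid X.Modules := ⟨fun A B => Nonempty (A ≅ B),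
    fun A => ⟨Iso.refl A⟩, fun ⟨e⟩ => ⟨e.symm⟩, fun ⟨e⟩ ⟨e'⟩ => ⟨e ≪≫ e'⟩⟩
  let cF : Fin n → Quotient R := fun i => ⟦Fs i⟧
  let cG : Fin m → Quotient R := fun j => ⟦Gs j⟧
  have hcard : ∀ q, Fintype.card {i // cF i = q} = Fintype.card {j // cG j = q} := by
    intro q
    induction q using Quotient.inductionOn with | _ Q =>
    by_cases hQ : ∃ T : X.Modules, Nonempty (Q ≅ T) ∧ Indec T ∧ Coh.IsCoh T
    · obtain ⟨T, ⟨eQ⟩, hT, hTc⟩ := hQ
      have key : ∀ {p : ℕ} (H : Fin p → X.Modules), (∀ i, Ind (H i)) → (∀ i, Coh.IsCoh (H i)) →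
          mult k hT (∐ H) = Fintype.card {i // (⟦H i⟧ : Quotient R) = ⟦Q⟧} * mult k hT T := by
        intro p H hH hHc
        rw [mult_sigma k hT hTc H hHc, Fintype.card_subtype, Finset.card_eq_sum_ones, Finset.sum_mul,
          Finset.sum_filter]
        refine Finset.sum_congr rfl fun i _ => ?_
        split_ifs with hi
        · obtain ⟨ei⟩ : Nonempty (H i ≅ Q) := Quotient.exact hi
          rw [one_mul, mult_congr k hT (ei ≪≫ eQ)]
        · by_contra hne
          obtain ⟨ei⟩ := (mult_pos_iff_iso k hT (indec_of_ind k (hHc i) (hH i)) hTc (hHc i)).1 hne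
          exact hi (Quotient.sound ⟨ei.symm ≪≫ eQ.symm⟩)
      have hpos : mult k hT T ≠ 0 := (mult_pos_iff k hT hTc hTc).2 ⟨Retract.refl T⟩
      have h := mult_congr k hT e
      rw [key Fs hF hFi, key Gs hG hGi] at h
      exact Nat.eq_of_mul_eq_mul_right (Nat.pos_of_ne_zero hpos) h
    · rw [Fintype.card_eq_zero_iff.2 ⟨?_⟩, Fintype.card_eq_zero_iff.2 ⟨?_⟩]
      · rintro ⟨j, hj⟩
        obtain ⟨ej⟩ : Nonempty (Gs j ≅ Q) := Quotient.exact hj
        exact hQ ⟨Gs j, ⟨ej.symm⟩, indec_of_ind k (hGi j) (hG j), hGi j⟩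
      · rintro ⟨i, hi⟩
        obtain ⟨ei⟩ : Nonempty (Fs i ≅ Q) := Quotient.exact hi
        exact hQ ⟨Fs i, ⟨ei.symm⟩, indec_of_ind k (hFi i) (hF i), hFi i⟩
  let E : ∀ q, {i // cF i = q} ≃ {j // cG j = q} := fun q => Fintype.equivOfCardEq (hcard q)
  exact ⟨Equiv.ofFiberEquiv E, fun i => Quotient.exact (Equiv.ofFiberEquiv_map E i).symm⟩

end Groth.Agent.ASBun8
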