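import Groth.Agent.ASBun8.SplitIso
import Groth.Agent.PicPn22.Main
import Groth.Agent.PicLib.PicMonoid
import Groth.Agent.HodgeQ27.ProjTwist
import Groth.Agent.ProjLib.ProjSpace
import Groth.Agent.Coherent.ProjSpaceCoh
import Groth.Agent.SerreDual.HomLinear
import Groth.Agent.CurveLib.ProjLine
import Groth.Agent.PruferLib.ProjVanish
import Groth.Prelude.Def_BrSev

/-!
# Twists on split Severi–Brauer varieties are Galois invariant
-/

set_option autoImplicit false
set_option linter.style.haveILetI false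
set_option linter.unusedSectionVars false
set_option backward.isDefEq.respectTransparency.types false
set_option backward.isDefEq.respectTransparency false
set_option maxHeartbeats 1600000

universe u

open CategoryTheory CategoryTheory.Limits AlgebraicGeometry Opposite TopologicalSpace
open Groth.Agent.PicLib

namespace Groth.Agent.ASBun8

variable {k K : Type u} [Field k] [Field K] [Algebra k K] {X : Scheme.{u}}
  {p : X ⟶ Spec (CommRingCat.of k)} {n : ℕ}

/-- The class of `O(d)` on projective space. -/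
noncomputable def tP (n : ℕ) (K : Type u) [Field K] (d : ℤ) : PicM (CohB1.ProjSpace n K) :=
  PicM.of (PruferLib.ProjVanish.isInvertible_twist (R := K) (n := n) d)

theorem tP_add (a b : ℤ) : tP n K a * tP n K b = tP n K (a + b) := by
  obtain ⟨e⟩ := TwistLib.nonempty_tensor_twist_iso (𝒜 := CohB1.polyGrading n K) (fun x => by
    obtain ⟨j, hj⟩ := UPLib.exists_degOne_projSpace (R := CommRingCat.of K) n x
    exact ⟨_, MvPolynomial.isHomogeneous_X K j, hj⟩) (rfl : a + b = a + b)
  rw [tP, tP, tP, PicM.of_mul, PicM.of_eq_iff]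
  exact ⟨e⟩

theorem tP_zero : tP n K 0 = 1 := by
  have h : tP n K 0 * tP n K 0 = 1 * tP n K 0 := by rw [tP_add, one_mul, add_zero]
  exact mul_right_cancel h

theorem exists_tP (a : PicM (CohB1.ProjSpace n K)) : ∃ d, a = tP n K d := by
  obtain ⟨L, hL, rfl⟩ := PicM.exists_eq_of a
  obtain ⟨d, hd⟩ := PicPn22.exists_iso_twist n K L hL
  exact ⟨d, (PicM.of_eq_iff _ _).2 hd⟩

theorem tP_injective (hn : 1 ≤ n) {a b : ℤ} (h : tP n K a = tP n K b) : a = b :=
  PicPn22.eq_of_iso_twist n K hn ((PicM.of_eq_iff _ _).1 h).some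

variable (e : BrSev.Splitting p K n)

theorem isInvertible_twist (d : ℤ) : PicF.IsInvertible (e.twist d) :=
  PicLoc.isInvertible_pullback e.iso.hom (PruferLib.ProjVanish.isInvertible_twist (R := K) (n := n) d)

/-- The class of `O_e(d)`. -/
noncomputable def tX (d : ℤ) : PicM (BrSev.bc p K) := PicM.pull e.iso.hom (tP n K d)

theorem of_twist (d : ℤ) : PicM.of (isInvertible_twist e d) = tX e d := rfl

theorem tX_add (a b : ℤ) : tX e a * tX e b = tX e (a + b) := by
  rw [tX, tX, tX, ← map_mul, tP_add]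

theorem exists_tX (a : PicM (BrSev.bc p K)) : ∃ d, a = tX e d := by
  obtain ⟨d, hd⟩ := exists_tP (PicM.pull e.iso.inv a)
  refine ⟨d, ?_⟩
  rw [tX, ← hd, PicM.pull_pull, Iso.hom_inv_id, PicM.pull_id]

theorem tX_injective (hn : 1 ≤ n) {a b : ℤ} (h : tX e a = tX e b) : a = b := by
  refine tP_injective (K := K) hn ?_
  have h1 := congrArg (PicM.pull e.iso.inv) h
  rwa [tX, tX, PicM.pull_pull, PicM.pull_pull, Iso.inv_hom_id, PicM.pull_id, PicM.pull_id] at h1

theorem ne_zero_of_iso_pullback {Y Z : Scheme.{u}} (g : Y ⟶ Z) [IsIso g] {A B : Z.Modules} {f : A ⟶ B} (hf : f ≠ 0) :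
    (Scheme.Modules.pullback g).map f ≠ 0 := by
  intro h
  apply hf
  let i : Scheme.Modules.pullback g ⋙ Scheme.Modules.pullback (inv g) ≅ 𝟭 _ :=
    Scheme.Modules.pullbackComp (inv g) g ≪≫ Scheme.Modules.pullbackCongr (IsIso.inv_hom_id g) ≪≫
      Scheme.Modules.pullbackId Z
  have h1 := i.hom.naturality f
  rw [Functor.comp_map, h, Functor.map_zero, zero_comp] at h1
  exact (cancel_epi (i.hom.app A)).1 (h1.symm.trans comp_zero.symm)

include e in
theorem irreducibleSpace_bc : IrreducibleSpace (BrSev.bc p K) := by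
  haveI := CurveLib.isIntegral_projSpace K n
  haveI : IsIntegral (BrSev.bc p K) := IsIntegral.of_isIso e.iso.inv
  infer_instance

/-- `O_e(d)` is invariant under the Galois action. -/
theorem twist_invariant (σ : K ≃ₐ[k] K) (d : ℤ) :
    PicM.pull (W4c1astiltbs12.galAct p K σ) (tX e d) = tX e d := by
  rcases Nat.eq_zero_or_pos n with rfl | hn
  · haveI := ProjLib.isIso_toSpec_zero K
    have h1 : ∀ a : PicM (BrSev.bc p K), a = 1 := fun a => by
      let q := e.iso.hom ≫ CohB1.ProjSpace.toSpec 0 K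
      rw [← PicM.pull_id a, ← IsIso.hom_inv_id q, ← PicM.pull_pull, PicM.eq_one_of_field K (PicM.pull (inv q) a), map_one]
    rw [h1 (tX e d)]
    exact map_one _
  let g : (K ≃ₐ[k] K) → (BrSev.bc p K ⟶ BrSev.bc p K) := fun τ => W4c1astiltbs12.galAct p K τ
  have hinv : ∀ τ : K ≃ₐ[k] K, g τ ≫ g τ.symm = 𝟙 _ := fun τ => by
    have hs : Spec.map (CommRingCat.ofHom (τ : K →+* K)) ≫ Spec.map (CommRingCat.ofHom (τ.symm : K →+* K)) =
        𝟙 (Spec (CommRingCat.of K)) := by
      rw [← Spec.map_comp, ← Spec.map_id]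
      congr 1
      ext x
      exact τ.apply_symm_apply x
    apply pullback.hom_ext
    · simp [g, W4c1astiltbs12.galAct]
    · simp [g, W4c1astiltbs12.galAct, hs]
  haveI : IsIso (g σ) := ⟨g σ.symm, hinv σ, by simpa using hinv σ.symm⟩
  obtain ⟨a, ha⟩ := exists_tX e (PicM.pull (g σ) (tX e 1))
  obtain ⟨b, hb⟩ := exists_tX e (PicM.pull (g σ.symm) (tX e 1))
  have hadd : ∀ (τ : K ≃ₐ[k] K) (c : ℤ) (m : ℤ), PicM.pull (g τ) (tX e 1) = tX e c →
      PicM.pull (g τ) (tX e m) = tX e (c * m) := by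
    intro τ c m hc
    have h0 : PicM.pull (g τ) (tX e 0) = tX e 0 := by
      rw [tX, tP_zero, map_one, map_one]
    induction m using Int.induction_on with
    | zero => rw [mul_zero, h0]
    | succ m ih => rw [← tX_add, map_mul, ih, hc, tX_add, mul_add, mul_one]
    | pred m ih =>
      have h2 : PicM.pull (g τ) (tX e (-(m : ℤ) - 1)) * tX e c = tX e (c * (-(m : ℤ) - 1)) * tX e c := by
        rw [← hc, ← map_mul, hc, tX_add, tX_add, sub_add_cancel, ih]
        congr 1
        ring
      exact mul_right_cancel h2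
  have hab : tX e (b * a) = tX e 1 := by
    rw [← hadd σ.symm b a hb, ← ha, PicM.pull_pull]
    have := hinv σ.symm
    rw [AlgEquiv.symm_symm] at this
    rw [this, PicM.pull_id]
  have h1 := tX_injective e hn hab
  rcases Int.eq_one_or_neg_one_of_mul_eq_one' h1 with ⟨-, h2⟩ | ⟨-, h2⟩
  · exact (hadd σ a d ha).trans (by rw [h2, one_mul])
  exfalso
  subst h2
  let O := Coh.structureModule (CohB1.ProjSpace n K)
  obtain ⟨f, hf⟩ : ∃ f : O ⟶ Twist.twistProjSpace n K 1, f ≠ 0 := by
    letI : (CohB1.ProjSpace n K).Over (Spec (CommRingCat.of K)) := ⟨CohB1.ProjSpace.toSpec n K⟩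
    obtain ⟨E⟩ := Coherent.nonempty_HH_zero_twist (n := n) (R := K) 1
    let x : MvPolynomial.homogeneousSubmodule (Fin (n + 1)) K 1 := ⟨MvPolynomial.X 0, MvPolynomial.isHomogeneous_X K 0⟩
    refine ⟨(SerreDual.homUnitHH K _).symm (E.symm x), fun h0 => ?_⟩
    have h0 := E.symm.map_eq_zero_iff.1 ((SerreDual.homUnitHH K _).symm.map_eq_zero_iff.1 h0)
    exact MvPolynomial.X_ne_zero (R := K) (0 : Fin (n + 1)) (congrArg Subtype.val h0)
  let φ := e.iso.inv ≫ g σ ≫ e.iso.hom
  have hφ : PicM.pull φ (tP n K 1) = tP n K (-1) := by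
    rw [← PicM.pull_pull, ← PicM.pull_pull]
    show PicM.pull e.iso.inv (PicM.pull (g σ) (tX e 1)) = _
    rw [ha, tX, PicM.pull_pull, Iso.inv_hom_id, PicM.pull_id]
  obtain ⟨j⟩ := (PicM.of_eq_iff (PicLoc.isInvertible_pullback φ (PruferLib.ProjVanish.isInvertible_twist (R := K) (n := n) 1)) (PruferLib.ProjVanish.isInvertible_twist (R := K) (n := n) (-1))).1 hφ
  letI : (CohB1.ProjSpace n K).Over (Spec (CommRingCat.of K)) := ⟨CohB1.ProjSpace.toSpec n K⟩
  haveI := Coherent.subsingleton_HH_twist (n := n) (R := K) (d := -1) 0 (by omega) (by omega)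
  haveI : Subsingleton (O ⟶ Twist.twistProjSpace n K (-1)) := (SerreDual.homUnitHH K _).toEquiv.subsingleton
  obtain ⟨o⟩ := AmpleLib.exists_pullStructureIso φ
  apply ne_zero_of_iso_pullback φ hf
  have h3 : o.inv ≫ (Scheme.Modules.pullback φ).map f ≫ j.hom = 0 := Subsingleton.elim _ _
  calc (Scheme.Modules.pullback φ).map f = o.hom ≫ (o.inv ≫ (Scheme.Modules.pullback φ).map f ≫ j.hom) ≫ j.inv := by simp
    _ = 0 := by rw [h3, zero_comp, comp_zero]

/-- `O_e(d)` is isomorphic to its Galois conjugates. -/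
theorem nonempty_galAct_twist (σ : K ≃ₐ[k] K) (d : ℤ) :
    Nonempty ((Scheme.Modules.pullback (W4c1astiltbs12.galAct p K σ)).obj (e.twist d) ≅ e.twist d) :=
  (PicM.of_eq_iff (PicLoc.isInvertible_pullback _ (isInvertible_twist e d)) (isInvertible_twist e d)).1 (twist_invariant e σ d)

/-- Invertible modules on a split Severi–Brauer variety are twists. -/
theorem exists_iso_twist {L : (BrSev.bc p K).Modules} (hL : PicF.IsInvertible L) : ∃ d : ℤ, Nonempty (L ≅ e.twist d) := by
  obtain ⟨d, hd⟩ := exists_tX e (PicM.of hL)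
  exact ⟨d, (PicM.of_eq_iff hL (isInvertible_twist e d)).1 hd⟩

end Groth.Agent.ASBun8
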