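import Groth.Agent.ASBun8.Twist
import Groth.Agent.ASBun8.Split
import Groth.Agent.ASBun8.Exists
import Groth.Agent.PicProj27.Basic
import Groth.Agent.RelVALib.AffBaseChange
import Groth.Agent.KModel28.Basic
import Groth.Agent.RelVAFib14.Main

/-!
# Descending twists along purely inseparable extensions up to a retract
-/

set_option autoImplicit false
set_option linter.style.haveILetI false
set_option linter.unusedSectionVars false
set_option backward.isDefEq.respectTransparency.types false
set_option backward.isDefEq.respectTransparency false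
set_option maxHeartbeats 1600000

universe u

open CategoryTheory CategoryTheory.Limits AlgebraicGeometry Opposite TopologicalSpace
open Groth.Agent.PicLib Groth.Agent.Coherent Groth.Agent.FEtQuot.FieldLimit

namespace Groth.Agent.ASBun8

/-- A section of a morphism makes an invertible module a summand of the pushforward of its pullback. -/
theorem nonempty_retract_push {Y Z : Scheme.{u}} (q : Z ⟶ Y) (i : Y ⟶ Z) (hi : i ≫ q = 𝟙 Y) {T : Y.Modules}
    (hT : PicF.IsInvertible T) :
    Nonempty (Retract T ((Scheme.Modules.pushforward q).obj ((Scheme.Modules.pullback q).obj T))) := by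
  let η := fun {A B : Scheme.{u}} (f : A ⟶ B) => (Scheme.Modules.pullbackPushforwardAdjunction f).unit
  haveI : IsIso ((η (i ≫ q)).app T) := Scheme.Modules.Hom.isIso_iff_isIso_app.2 fun U => by
    refine (ConcreteCategory.isIso_iff_bijective _).2 (bijective_pullSec (i ≫ q) (fun U => ?_) hT U)
    haveI : IsIso (i ≫ q) := by rw [hi]; infer_instance
    exact ConcreteCategory.bijective_of_isIso ((i ≫ q).app U)
  let r := (Scheme.Modules.pushforward q).map ((η i).app ((Scheme.Modules.pullback q).obj T)) ≫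
    (Scheme.Modules.pushforwardComp i q).hom.app _ ≫
      (Scheme.Modules.pushforward (i ≫ q)).map ((Scheme.Modules.pullbackComp i q).hom.app T) ≫
        inv ((η (i ≫ q)).app T)
  refine ⟨⟨(η q).app T, r, ?_⟩⟩
  rw [← cancel_mono ((η (i ≫ q)).app T)]
  simp only [r, Category.assoc, IsIso.inv_hom_id, Category.comp_id, Category.id_comp]
  exact Scheme.Modules.hom_ext _ _ fun U => ConcreteCategory.hom_ext _ _ fun s =>
    H8Lim.pullbackComp_hom_app_pullSec i q T s

variable {k K : Type u} [Field k] [Field K] [Algebra k K] {X : Scheme.{u}}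
  {p : X ⟶ Spec (CommRingCat.of k)} {n : ℕ} (e : BrSev.Splitting p K n)

theorem isPullback_splitting : IsPullback e.iso.hom (BrSev.bcTo p K) (CohB1.ProjSpace.toSpec n K) (𝟙 _) :=
  IsPullback.of_horiz_isIso ⟨by rw [e.comm, Category.comp_id]⟩

theorem isPn_projSpace (R : Type u) [CommRing R] :
    ∃ h : CohB1.ProjSpace n R ⟶ CohB1.ProjSpace n (ULift.{u} ℤ), Quot8.IsPn n (CohB1.ProjSpace.toSpec n R) h := by
  letI : Algebra (ULift.{u} ℤ) R := ((Int.castRingHom R).comp (ULift.ringEquiv : (ULift.{u} ℤ) ≃+* ℤ).toRingHom).toAlgebra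
  refine ⟨Quot8.projChange n (ULift.{u} ℤ) R, ?_⟩
  show IsPullback _ _ _ _
  rw [specULiftZIsTerminal.hom_ext (specULiftZIsTerminal.from _)
    (Spec.map (CommRingCat.ofHom (algebraMap (ULift.{u} ℤ) R)))]
  exact Coherent.isPullback_projSpace n (ULift.{u} ℤ) R

include e in
/-- Over a purely inseparable extension a twist is a summand of the base change of a bundle. -/
theorem exists_retract_twist [IsPurelyInseparable k K] [IsProper p] (j : ℤ) :
    ∃ N : X.Modules, FlatMod.IsFinLocFree N ∧ Nonempty (Retract (e.twist j) (BrSev.bcMod p K N)) := by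
  classical
  haveI : Algebra.IsAlgebraic k K := inferInstance
  haveI : CompactSpace X := QuasiCompact.compactSpace_of_compactSpace p
  letI : X.Over (Spec (CommRingCat.of k)) := ⟨p⟩
  haveI : IsProper (X ↘ Spec (CommRingCat.of k)) := ‹IsProper p›
  haveI := EulerLib.isNoetherian_of_proper (X := X) k
  haveI : QuasiSeparatedSpace X := inferInstance
  haveI := irreducibleSpace_bc e
  obtain ⟨hc⟩ := nonempty_isLimit_cone (k := k) (Ω := K) p
  let T := e.twist j
  have hT : PicF.IsInvertible T := isInvertible_twist e j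
  have hTl := RelVAFib14.isFinLocFree_of_isInvertible hT
  haveI : Coh.IsQCoh T := (CohBC.isCoh_of_isFinLocFree hTl).1
  obtain ⟨m, -, Fm, hFm, hFmp, ⟨em⟩⟩ := H8Lim.exists_stage_fpModule (D := diag (Ω := K) p) (c := cone p) hc
    (i := op (∅ : Finset K)) T (Props12.isFP_of_isFinLocFree _ hTl)
  haveI := hFm
  obtain ⟨l, φ, hl⟩ := (H8Lim.isFinLocFree_iff_eventually (D := diag (Ω := K) p) (c := cone p) hc (i := m) Fm hFmp).1
    (DCat.PerfTensor.isFinLocFree_of_iso em.symm hTl)
  let W₀ := (Scheme.Modules.pullback ((diag (Ω := K) p).map φ)).obj Fm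
  let π₀ : BrSev.bc p K ⟶ pullback p (bs k l.unop) := (cone (Ω := K) p).π.app l
  let e₀ : (Scheme.Modules.pullback π₀).obj W₀ ≅ T :=
    (Scheme.Modules.pullbackComp π₀ ((diag (Ω := K) p).map φ)).app Fm ≪≫
      (Scheme.Modules.pullbackCongr ((cone (Ω := K) p).w φ)).app Fm ≪≫ em
  let L : IntermediateField k K := ext k l.unop
  haveI : IsPurelyInseparable k L := IsPurelyInseparable.tower_bot k L K
  let g₀ : pullback p (bs k l.unop) ⟶ X := pullback.fst p (bs k l.unop)
  let pr : BrSev.bc p K ⟶ X := BrSev.proj p K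
  have hπ₀g : π₀ ≫ g₀ = pr := π_fst p l
  let s₁ : pullback (bs k l.unop) (Spec.map (CommRingCat.ofHom (algebraMap k K))) ⟶ Spec (CommRingCat.of K) :=
    pullback.snd _ _
  have hξ : π₀ ≫ pullback.snd p (bs k l.unop) = BrSev.bcTo p K ≫ Spec.map ((extCocone k).ι.app l.unop) := π_snd p l
  -- `X_L` is connected and `W₀` is invertible
  haveI : Surjective (Spec.map ((extCocone (Ω := K) k).ι.app l.unop)) := ⟨fun z =>
    ⟨Classical.arbitrary (Spec (CommRingCat.of K)), @Subsingleton.elim _
      (inferInstanceAs (Subsingleton (PrimeSpectrum L))) _ _⟩⟩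
  have hπsq : IsPullback π₀ (BrSev.bcTo p K) (pullback.snd p (bs k l.unop))
      (Spec.map ((extCocone k).ι.app l.unop)) := by
    refine IsPullback.of_right ?_ hξ (IsPullback.of_hasPullback p (bs k l.unop))
    rw [ι_bs]
    show IsPullback (π₀ ≫ g₀) _ _ _
    rw [hπ₀g]
    exact IsPullback.of_hasPullback _ _
  haveI : Surjective π₀ := MorphismProperty.of_isPullback hπsq.flip inferInstance
  haveI : ConnectedSpace (BrSev.bc p K) := inferInstance
  haveI : ConnectedSpace ↥(pullback p (bs k l.unop)) := π₀.surjective.connectedSpace π₀.continuous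
  haveI : ConnectedSpace ↥((diag (Ω := K) p).obj l) := ‹ConnectedSpace ↥(pullback p (bs k l.unop))›
  obtain ⟨r, hr⟩ := KModel28.exists_rank (E := W₀) hl
  obtain rfl : r = 1 := KModel28.rank_unique
    (KModel28.rank_iso e₀ (VarietyLib.isFinLocFreeOfRank_pullback π₀ hr)) (PicLib.isFinLocFreeOfRank_one hT)
  have hW₀ : PicF.IsInvertible W₀ := KRRPBLib.isInvertible_of_rankOne hr
  -- the fibre product `X_A`
  let ρ : pullback g₀ pr ⟶ pullback p (bs k l.unop) := pullback.fst _ _
  let q : pullback g₀ pr ⟶ BrSev.bc p K := pullback.snd _ _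
  have hA : IsPullback ρ q g₀ pr := IsPullback.of_hasPullback _ _
  let πA : pullback g₀ pr ⟶ pullback (bs k l.unop) (Spec.map (CommRingCat.ofHom (algebraMap k K))) :=
    pullback.lift (ρ ≫ pullback.snd _ _) (q ≫ BrSev.bcTo p K) (by
      rw [Category.assoc, ← pullback.condition, Category.assoc, ← pullback.condition (f := p)]
      exact hA.w =≫ p)
  have hsqA : IsPullback q πA (BrSev.bcTo p K) s₁ := by
    refine (IsPullback.of_right ?_ (pullback.lift_snd _ _ _)
      (IsPullback.of_hasPullback (bs k l.unop) (Spec.map (CommRingCat.ofHom (algebraMap k K))))).flip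
    rw [pullback.lift_fst, show BrSev.bcTo p K ≫ Spec.map (CommRingCat.ofHom (algebraMap k K)) = pr ≫ p from
      pullback.condition.symm]
    exact hA.paste_horiz (IsPullback.of_hasPullback p (bs k l.unop)).flip
  obtain ⟨hK, hHK⟩ := isPn_projSpace (n := n) K
  have H : Quot8.IsPn n πA (q ≫ e.iso.hom ≫ hK) := by
    have h2 := hsqA.paste_horiz (isPullback_splitting e)
    rw [Category.comp_id] at h2
    rw [← Category.assoc]
    exact hHK.comp h2
  haveI := H.isProper
  haveI := H.flat
  haveI := PicProj27.locallyOfFinitePresentation H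
  haveI hui : UniversallyInjective (bs k l.unop) := H8Lim.universallyInjective_algSpec k L
  haveI : UniversallyInjective s₁ := MorphismProperty.pullback_snd (P := @UniversallyInjective) _ _ hui
  haveI : Subsingleton ↥(pullback (bs k l.unop) (Spec.map (CommRingCat.ofHom (algebraMap k K)))) :=
    ⟨fun a b => s₁.injective (@Subsingleton.elim _ (inferInstanceAs (Subsingleton (PrimeSpectrum K))) _ _)⟩
  let i : Spec (CommRingCat.of K) ⟶ pullback (bs k l.unop) (Spec.map (CommRingCat.ofHom (algebraMap k K))) :=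
    pullback.lift (Spec.map ((extCocone k).ι.app l.unop)) (𝟙 _) (by rw [ι_bs, Category.id_comp])
  let iX : BrSev.bc p K ⟶ pullback g₀ pr := pullback.lift π₀ (𝟙 _) (by rw [hπ₀g, Category.id_comp])
  have hiXq : iX ≫ q = 𝟙 _ := pullback.lift_snd _ _ _
  have hiXρ : iX ≫ ρ = π₀ := pullback.lift_fst _ _ _
  have hiXπ : iX ≫ πA = BrSev.bcTo p K ≫ i := by
    apply pullback.hom_ext
    · simp only [πA, i, Category.assoc, pullback.lift_fst]
      rw [← Category.assoc iX, hiXρ, hξ]
    · simp only [πA, i, Category.assoc, pullback.lift_snd, Category.comp_id]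
      rw [← Category.assoc iX, hiXq, Category.id_comp]
  let s := i (Classical.arbitrary (Spec (CommRingCat.of K)))
  have his : i ≫ s₁ = 𝟙 _ := pullback.lift_snd _ _ _
  have hfs : Scheme.fromSpecResidueField _ s ≫ s₁ ≫ i = Scheme.fromSpecResidueField _ s := by
    obtain ⟨⟨s', φ⟩, hφ⟩ : ∃ x, (Scheme.SpecToEquivOfField K _).symm x = i :=
      ⟨_, (Scheme.SpecToEquivOfField K _).symm_apply_apply i⟩
    obtain rfl : s' = s := Subsingleton.elim _ _
    have hφ' : Spec.map φ ≫ Scheme.fromSpecResidueField _ s = i := hφ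
    have h1 : Spec.map φ ≫ (Scheme.fromSpecResidueField _ s ≫ s₁) = 𝟙 _ := by rw [← Category.assoc, hφ', his]
    obtain ⟨ψ, hψ⟩ : ∃ ψ, Spec.map ψ = Scheme.fromSpecResidueField _ s ≫ s₁ := ⟨_, Spec.map_preimage _⟩
    rw [← hψ, ← Spec.map_comp, ← Spec.map_id] at h1
    have h2 := Spec.map_injective h1
    haveI : IsIso φ := (ConcreteCategory.isIso_iff_bijective φ).2
      ⟨φ.hom.injective, fun x => ⟨ψ.hom x, congr($h2 x)⟩⟩
    rw [← cancel_epi (Spec.map φ), ← Category.assoc, ← Category.assoc, hφ', his, Category.id_comp]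
  have hfib : πA.fiberι s = (πA.fiberι s ≫ q) ≫ iX := by
    refine hsqA.hom_ext ?_ ?_
    · simp only [Category.assoc, hiXq, Category.comp_id]
    · simp only [Category.assoc, hiXπ]
      rw [← Category.assoc q, ← hsqA.flip.w]
      simp only [Category.assoc]
      rw [← Category.assoc (πA.fiberι s), show πA.fiberι s ≫ πA = πA.fiberToSpecResidueField s ≫ Scheme.fromSpecResidueField _ s
        from pullback.condition, Category.assoc, hfs]
  have hb := PicLoc.isInvertible_pullback q (isInvertible_twist e (-j))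
  have ha' := PicLoc.isInvertible_pullback ρ hW₀
  let a := AmpleLib.isInvertible_tensorMod ha' hb
  have ha : PicM.pull iX (PicM.of a) = 1 := by
    rw [← PicM.of_mul ha' hb, map_mul, ← PicM.pull_of ρ hW₀, ← PicM.pull_of q (isInvertible_twist e (-j)),
      PicM.pull_pull, PicM.pull_pull, hiXρ, hiXq, PicM.pull_id, of_twist, PicM.pull_of,
      (PicM.of_eq_iff (PicLoc.isInvertible_pullback π₀ hW₀) hT).2 ⟨e₀⟩, of_twist, tX_add, add_neg_cancel,
      tX, tP_zero, map_one]
  obtain ⟨U, hsU, t, ht⟩ := FlatMor12.Cube.exists_gen_of_subsingleton πA (PicProj27.bijective_algebraMap_fibre H) a s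
    (by rw [hfib, ← PicM.pull_pull, ha, map_one]) (PicProj27.subsingleton_H1_fibre H s)
  obtain rfl : U = ⊤ := top_le_iff.1 fun y _ => by rwa [Subsingleton.elim y s]
  have hone : PicM.of a = 1 := CubeLib.eq_one_of_isGen_top a ht
  have hiso : PicM.of ha' = PicM.of (PicLoc.isInvertible_pullback q hT) := by
    refine mul_right_cancel (b := PicM.of hb) ?_
    rw [PicM.of_mul, hone, ← PicM.pull_of q hT, ← PicM.pull_of q (isInvertible_twist e (-j)), ← map_mul,
      of_twist, of_twist, tX_add, add_neg_cancel, tX, tP_zero, map_one, map_one]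
  obtain ⟨eM⟩ := (PicM.of_eq_iff _ _).1 hiso
  letI : (pullback p (bs k l.unop)).Over (Spec (CommRingCat.of L)) := ⟨pullback.snd p (bs k l.unop)⟩
  have h₀ : IsPullback g₀ (pullback p (bs k l.unop) ↘ Spec (CommRingCat.of L)) (X ↘ Spec (CommRingCat.of k))
      (Spec.map (CommRingCat.ofHom (algebraMap k L))) := IsPullback.of_hasPullback p (bs k l.unop)
  haveI : IsFinite g₀ := (isFinLocFree_proj h₀).1
  haveI : Coh.IsQCoh W₀ := AmpleLib.isQCoh_of_isInvertible hW₀
  haveI := RelVALib.isIso_bcHom hA W₀
  let eP : BrSev.bcMod p K ((Scheme.Modules.pushforward g₀).obj W₀) ≅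
      (Scheme.Modules.pushforward q).obj ((Scheme.Modules.pullback q).obj T) :=
    asIso (RelVALib.bcHom hA W₀) ≪≫ (Scheme.Modules.pushforward q).mapIso eM
  obtain ⟨R⟩ := nonempty_retract_push q iX hiXq hT
  exact ⟨_, DQCoh.isFinLocFree_push _ (isFinLocFree_proj h₀) hl, ⟨R.trans ⟨eP.inv, eP.hom, eP.inv_hom_id⟩⟩⟩

end Groth.Agent.ASBun8
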