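import Groth.Agent.ASBun8.SBDatum
import Groth.Agent.KoszPn17.TwistGen
import Groth.Agent.AmpleLib.Tensor

/-!
# The tautological bundle of a Severi–Brauer scheme, with the action of the algebra
-/

set_option autoImplicit false
set_option linter.style.haveILetI false
set_option linter.unusedSectionVars false
set_option backward.isDefEq.respectTransparency.types false
set_option backward.isDefEq.respectTransparency false
set_option maxHeartbeats 1600000

universe u

open CategoryTheory CategoryTheory.Limits AlgebraicGeometry Opposite TopologicalSpace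
open Groth.Agent.GrassLib Groth.Agent.Coherent Groth.Agent.PicLib
open scoped TensorProduct

namespace Groth.Agent.ASBun8

variable {k : Type u} [Field k] {A : Type u} [Ring A] [Algebra k A] {N c : ℕ} (b : Module.Basis (Fin N) k A)
  {X : Scheme.{u}}

theorem ker_congr {n q : ℕ} (D : Datum n q X) {V W : X.Opens} (h : V = W) (x : Fin n → Γ(X, V)) :
    x ∈ D.ker V ↔ (fun j => X.presheaf.map (eqToHom h.symm).op (x j)) ∈ D.ker W := by
  subst h
  simp

theorem mem_ker_iff_rel {n q : ℕ} (D : Datum n q X) {W : X.Opens} (hW : IsAffineOpen W) (x : Fin n → Γ(X, W)) :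
    x ∈ D.ker W ↔ x ∈ rel (A := Γ(X, W)) (D.pull hW.fromSpec) := by
  rw [mem_rel, ← D.ker_pull_iff hW.fromSpec hW.range_fromSpec.ge x, ker_congr _ hW.fromSpec_preimage_self]
  refine iff_of_eq (congrArg (· ∈ (D.pull hW.fromSpec).ker ⊤) (funext fun j => ?_))
  show ((hW.fromSpec.app W) ≫ (Spec Γ(X, W)).presheaf.map (eqToHom hW.fromSpec_preimage_self.symm).op) (x j) = gm _ (x j)
  rw [hW.fromSpec_app_self, Category.assoc, ← Functor.map_comp, ← op_comp, eqToHom_trans, eqToHom_refl, op_id,
    CategoryTheory.Functor.map_id, Category.comp_id]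
  rfl

variable {f : X ⟶ Spec (CommRingCat.of k)}

/-- The scalars on an open. -/
noncomputable def scal (f : X ⟶ Spec (CommRingCat.of k)) (W : X.Opens) : k →+* Γ(X, W) :=
  (X.presheaf.map (homOfLE (le_top : W ≤ ⊤)).op).hom.comp (Coh.toGlobal f)

theorem fromSpec_comp {W : X.Opens} (hW : IsAffineOpen W) :
    hW.fromSpec ≫ f = Spec.map (CommRingCat.ofHom (scal f W)) := by
  rw [← IsAffineOpen.SpecMap_appLE_fromSpec f (isAffineOpen_top (Spec (CommRingCat.of k))) hW le_top,
    IsAffineOpen.fromSpec_top, Scheme.isoSpec_Spec_inv, ← Spec.map_comp]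
  rfl

/-- The matrix of left multiplication. -/
noncomputable def mulCoef (a : A) (i j : Fin N) : k := b.repr (a * b i) j

theorem coordR_mul {R : Type u} [CommRing R] [Algebra k R] (a : A) (x : R ⊗[k] A) (j : Fin N) :
    coordR b R (((1 : R) ⊗ₜ[k] a) * x) j = ∑ i, coordR b R x i * algebraMap k R (mulCoef b a i j) := by
  induction x using TensorProduct.induction_on with
  | zero => simp
  | add x y hx hy => simp [mul_add, add_mul, Finset.sum_add_distrib, hx, hy]
  | tmul r y =>
    rw [Algebra.TensorProduct.tmul_mul_tmul, one_mul]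
    simp only [coordR_tmul, mulCoef, Algebra.smul_def]
    conv_lhs => rw [← b.sum_repr y, Finset.mul_sum, map_sum, Finsupp.finsetSum_apply, map_sum, Finset.sum_mul]
    refine Finset.sum_congr rfl fun i _ => ?_
    rw [mul_smul_comm, map_smul, Finsupp.smul_apply, smul_eq_mul, map_mul]
    ring

/-- The endomorphism of the free module given by left multiplication. -/
noncomputable def mulEnd (f : X ⟶ Spec (CommRingCat.of k)) (a : A) :
    freeMod X (ULift.{u} (Fin N)) ⟶ freeMod X (ULift.{u} (Fin N)) :=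
  freeDesc fun i => unitDesc _ (∑ j : Fin N, scal f ⊤ (mulCoef b a i.down j) • freeBasisVec (X := X) (ULift.up.{u} j) ⊤)

theorem res_scal {V W : X.Opens} (h : W ≤ V) (x : k) : X.presheaf.map (homOfLE h).op (scal f V x) = scal f W x := by
  show (X.presheaf.map _ ≫ X.presheaf.map _) _ = X.presheaf.map _ _
  rw [← Functor.map_comp]
  rfl

theorem coord_mulEnd (a : A) (V : X.Opens) (x : Γ(freeMod X (ULift.{u} (Fin N)), V)) (j : Fin N) :
    freeSectionsEquiv V ((mulEnd b f a).app V x) ⟨j⟩ =
      ∑ i : Fin N, freeSectionsEquiv V x ⟨i⟩ * scal f V (mulCoef b a i j) := by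
  classical
  let E := freeSectionsEquiv (X := X) (I := ULift.{u} (Fin N)) V
  have hv : ∀ i : ULift.{u} (Fin N), unitVal (freeInj i ≫ mulEnd b f a) V =
      ∑ l : Fin N, scal f V (mulCoef b a i.down l) • freeBasisVec (X := X) (ULift.up.{u} l) V := fun i => by
    rw [mulEnd, freeInj_freeDesc, unitVal_unitDesc, map_sum]
    refine Finset.sum_congr rfl fun l _ => ?_
    rw [resM_smul, res_scal]
    exact congrArg (_ • ·) (resM_unitVal _ _)
  rw [freeMod_app]
  simp only [hv, map_sum, map_smul, Finset.sum_apply, Pi.smul_apply]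
  rw [← Equiv.ulift.symm.sum_comp]
  refine Finset.sum_congr rfl fun i _ => ?_
  have hb : ∀ l : Fin N, freeSectionsEquiv V (freeBasisVec (X := X) (ULift.up.{u} l) V) ⟨j⟩ = if l = j then 1 else 0 := by
    intro l
    refine (freeCoord_basisVec V _ _).trans ?_
    exact if_congr ⟨fun h => congrArg ULift.down h, fun h => congrArg ULift.up h⟩ rfl rfl
  simp only [smul_eq_mul, hb, mul_ite, mul_one, mul_zero, Finset.sum_ite_eq', Finset.mem_univ, if_true]
  rfl

theorem free_hom_ext_coord (φ ψ : freeMod X (ULift.{u} (Fin N)) ⟶ freeMod X (ULift.{u} (Fin N)))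
    (h : ∀ (V : X.Opens) x j, freeSectionsEquiv V (φ.app V x) ⟨j⟩ = freeSectionsEquiv V (ψ.app V x) ⟨j⟩) : φ = ψ := by
  refine Scheme.Modules.hom_ext _ _ fun V => ConcreteCategory.hom_ext _ _ fun x => ?_
  exact (freeSectionsEquiv V).injective (funext fun j => h V x j.down)

theorem mulEnd_one : mulEnd b f (1 : A) = 𝟙 _ := by
  classical
  refine free_hom_ext_coord _ _ fun V x j => ?_
  rw [coord_mulEnd, Finset.sum_eq_single j]
  · simp [mulCoef]
  · intro i _ hi; simp [mulCoef, hi]
  · exact fun h => absurd (Finset.mem_univ j) h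

theorem mulEnd_mul (a a' : A) : mulEnd b f (a * a') = mulEnd b f a' ≫ mulEnd b f a := by
  refine free_hom_ext_coord _ _ fun V x j => ?_
  show _ = freeSectionsEquiv V ((mulEnd b f a).app V ((mulEnd b f a').app V x)) ⟨j⟩
  simp only [coord_mulEnd, Finset.sum_mul]
  rw [Finset.sum_comm]
  refine Finset.sum_congr rfl fun i _ => ?_
  have h : mulCoef b (a * a') i j = ∑ l, mulCoef b a' i l * mulCoef b a l j := by
    simp only [mulCoef]
    rw [mul_assoc]
    conv_lhs => rw [← b.sum_repr (a' * b i), Finset.mul_sum, map_sum, Finsupp.finsetSum_apply]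
    exact Finset.sum_congr rfl fun l _ => by rw [mul_smul_comm, map_smul, Finsupp.smul_apply, smul_eq_mul]
  rw [h, map_sum, Finset.mul_sum]
  exact Finset.sum_congr rfl fun l _ => by rw [map_mul, mul_assoc]

theorem mulEnd_add (a a' : A) : mulEnd b f (a + a') = mulEnd b f a + mulEnd b f a' := by
  refine free_hom_ext_coord _ _ fun V x j => ?_
  show _ = freeSectionsEquiv V ((mulEnd b f a).app V x + (mulEnd b f a').app V x) ⟨j⟩
  rw [map_add, Pi.add_apply]
  simp only [coord_mulEnd, ← Finset.sum_add_distrib]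
  exact Finset.sum_congr rfl fun i _ => by simp [mulCoef, add_mul, mul_add]

theorem mulEnd_algebraMap [X.Over (Spec (CommRingCat.of k))] (hf : X ↘ Spec (CommRingCat.of k) = f) (r : k) :
    mulEnd b f (algebraMap k A r) = r • 𝟙 _ := by
  classical
  subst hf
  refine free_hom_ext_coord _ _ fun V x j => ?_
  rw [coord_mulEnd, Finset.sum_eq_single j, KLin.smul_app_apply]
  · erw [map_smul]
    simp [mulCoef, Algebra.algebraMap_eq_smul_one, mul_comm, scal]
    rfl
  · intro i _ hi; simp [mulCoef, Algebra.algebraMap_eq_smul_one, hi]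
  · exact fun h => absurd (Finset.mem_univ j) h

variable {σ : BrSev.SBStr k A c f} (D : Datum N c X)
  (hD : ∀ (R : Type u) [CommRing R] [Algebra k R] (P : BrSev.Pts f R) (x : R ⊗[k] A),
    coordR b R x ∈ rel (A := CommRingCat.of R) (D.pull P.1) ↔ x ∈ (σ.bij R P).1.toSubmodule)

include hD in
/-- Left multiplication preserves the relations. -/
theorem mul_mem_ker (a : A) {V : X.Opens} {x : Fin N → Γ(X, V)} (hx : x ∈ D.ker V) :
    (fun j => ∑ i, x i * scal f V (mulCoef b a i j)) ∈ D.ker V := by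
  refine D.mem_ker_of_nhds _ fun y hy => ?_
  obtain ⟨W, hW, hyW, hWV⟩ := exists_isAffineOpen_mem_and_subset (x := y) (U := V) hy
  refine ⟨W, hWV, hyW, ?_⟩
  have h1 := (mem_ker_iff_rel D hW _).1 (D.res_mem_ker hWV hx)
  rw [mem_ker_iff_rel D hW]
  letI : Algebra k Γ(X, W) := (scal f W).toAlgebra
  let P : BrSev.Pts f Γ(X, W) := ⟨hW.fromSpec, fromSpec_comp hW⟩
  obtain ⟨z, hz⟩ := (coordR b Γ(X, W)).surjective fun j => X.presheaf.map (homOfLE hWV).op (x j)
  have h1' : coordR b Γ(X, W) z ∈ rel (A := Γ(X, W)) (D.pull hW.fromSpec) := by rw [hz]; exact h1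
  have h2 := (hD _ P _).2 ((σ.bij _ P).2 ((1 : Γ(X, W)) ⊗ₜ[k] a) z ((hD _ P z).1 h1'))
  have h3 : coordR b Γ(X, W) (((1 : Γ(X, W)) ⊗ₜ[k] a) * z) =
      fun j => X.presheaf.map (homOfLE hWV).op (∑ i, x i * scal f V (mulCoef b a i j)) := by
    funext j
    rw [coordR_mul, hz, map_sum]
    exact Finset.sum_congr rfl fun i _ => by rw [map_mul]; exact congrArg (_ * ·) (res_scal hWV _).symm
  exact Eq.mp (congrArg (· ∈ rel (A := Γ(X, W)) (D.pull hW.fromSpec)) h3) h2

include hD in
theorem mulEnd_desc (a : A) : kernel.ι D.desc ≫ mulEnd b f a ≫ D.desc = 0 := by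
  classical
  refine Scheme.Modules.hom_ext _ _ fun V => ConcreteCategory.hom_ext _ _ fun s => ?_
  have hs : (fun j => freeSectionsEquiv V ((kernel.ι D.desc).app V s) ⟨j⟩) ∈ D.ker V := by
    show _ = _
    exact (D.desc_app V _).symm.trans (kernel_ι_app_zero D.desc V s)
  show D.desc.app V ((mulEnd b f a).app V ((kernel.ι D.desc).app V s)) = 0
  rw [D.desc_app]
  simp only [coord_mulEnd]
  exact mul_mem_ker b D hD a hs

include hD in
/-- The algebra acts on the tautological bundle. -/
theorem exists_actHom [X.Over (Spec (CommRingCat.of k))] (hf : X ↘ Spec (CommRingCat.of k) = f) :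
    ∃ φ : A →ₐ[k] End (kernel D.desc), ∀ a, (φ a : kernel D.desc ⟶ kernel D.desc) ≫ kernel.ι D.desc =
      kernel.ι D.desc ≫ mulEnd b f a := by
  let L : A → End (kernel D.desc) := fun a =>
    kernel.lift D.desc (kernel.ι D.desc ≫ mulEnd b f a) (by rw [Category.assoc]; exact mulEnd_desc b D hD a)
  have hL : ∀ a, (L a : kernel D.desc ⟶ kernel D.desc) ≫ kernel.ι D.desc = kernel.ι D.desc ≫ mulEnd b f a :=
    fun a => kernel.lift_ι _ _ _
  refine ⟨{ toFun := L, map_one' := ?_, map_mul' := fun a a' => ?_, map_zero' := ?_, map_add' := fun a a' => ?_,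
            commutes' := fun r => ?_ }, hL⟩
  · refine (cancel_mono (kernel.ι D.desc)).1 ?_
    rw [hL, mulEnd_one, End.one_def, Category.comp_id, Category.id_comp]
  · refine (cancel_mono (kernel.ι D.desc)).1 ?_
    rw [hL, mulEnd_mul, End.mul_def, Category.assoc, hL, ← Category.assoc, ← Category.assoc, hL]
  · refine (cancel_mono (kernel.ι D.desc)).1 ?_
    have h0 : mulEnd b f (0 : A) = 0 := by
      have := mulEnd_add (f := f) b (0 : A) 0
      rwa [add_zero, left_eq_add] at this
    rw [hL, h0, comp_zero, zero_comp]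
  · refine (cancel_mono (kernel.ι D.desc)).1 ?_
    rw [hL, mulEnd_add, Preadditive.comp_add, Preadditive.add_comp, hL, hL]
  · refine (cancel_mono (kernel.ι D.desc)).1 ?_
    show (L _ : kernel D.desc ⟶ _) ≫ _ = (r • 𝟙 (kernel D.desc)) ≫ _
    rw [hL, mulEnd_algebraMap b hf, Linear.comp_smul, Category.comp_id, Linear.smul_comp, Category.id_comp]

end Groth.Agent.ASBun8
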