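import Groth.Agent.BrSev28.Split

/-!
# Recognition of projective space, with the correspondence of points
-/

set_option autoImplicit false
set_option backward.isDefEq.respectTransparency.types false

universe u

open CategoryTheory CategoryTheory.Limits AlgebraicGeometry
open MvPolynomial HomogeneousLocalization
open Groth.Agent.ProjLib Groth.Agent.H8Constr
open scoped TensorProduct

namespace Groth.Agent.ASBun8

open Groth.Agent.BrSev28

variable (m : ℕ) {K : Type u} [CommRing K]

/-- The recognition principle, with the points. -/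
theorem exists_iso_pts {Y : Scheme.{u}} (p : Y ⟶ Spec (CommRingCat.of K))
    (y : ∀ (S : Type u) [CommRing S] (q : K →+* S) (i : Fin (m + 1)) (v : Fin (m + 1) → S), v i = 1 →
      (Spec (CommRingCat.of S) ⟶ Y))
    (hy : ∀ (S : Type u) [CommRing S] (q : K →+* S) i v hv, y S q i v hv ≫ p = Spec.map (CommRingCat.ofHom q))
    (hnat : ∀ (S T : Type u) [CommRing S] [CommRing T] (φ : S →+* T) (q : K →+* S) i (v : Fin (m + 1) → S) hv,
      Spec.map (CommRingCat.ofHom φ) ≫ y S q i v hv =
        y T (φ.comp q) i (fun l => φ (v l)) ((congrArg φ hv).trans (map_one φ)))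
    (hchange : ∀ (S : Type u) [CommRing S] (q : K →+* S) i j (v : Fin (m + 1) → S) hv c hc,
      y S q i v hv = y S q j (fun l => c * v l) hc)
    (hinj : ∀ (S : Type u) [CommRing S] (q : K →+* S) i j (v w : Fin (m + 1) → S) hv hw,
      y S q i v hv = y S q j w hw → ∃ c : S, ∀ l, w l = c * v l)
    (hloc : ∀ (S : Type u) [CommRing S] (q : K →+* S) (g : Spec (CommRingCat.of S) ⟶ Y),
      g ≫ p = Spec.map (CommRingCat.ofHom q) → ∀ x : PrimeSpectrum S,
      ∃ f : S, f ∉ x.asIdeal ∧ ∃ (i : Fin (m + 1)) (v : Fin (m + 1) → Localization.Away f) (hv : v i = 1),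
        Spec.map (CommRingCat.ofHom (algebraMap S (Localization.Away f))) ≫ g =
          y (Localization.Away f) ((algebraMap S (Localization.Away f)).comp q) i v hv) :
    ∃ e : Y ≅ CohB1.ProjSpace m K, e.hom ≫ CohB1.ProjSpace.toSpec m K = p ∧
      ∀ (S : Type u) [CommRing S] (q : K →+* S) i (v : Fin (m + 1) → S) hv, pt m q i v hv ≫ e.inv = y S q i v hv := by
  let 𝒜 := CohB1.polyGrading m K
  let ι : ∀ i : Fin (m + 1), Spec (CommRingCat.of (Away (CohB1.polyGrading m K) (X i))) ⟶ CohB1.ProjSpace m K :=
    fun i => Proj.awayι (CohB1.polyGrading m K) (X i) (X_mem_polyGrading m K i) one_pos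
  have hι : ∀ i, IsOpenImmersion (ι i) := fun i => inferInstanceAs (IsOpenImmersion (Proj.awayι _ _ _ _))
  let 𝒰 : (CohB1.ProjSpace m K).OpenCover :=
    { I₀ := Fin (m + 1)
      X := fun i => Spec (CommRingCat.of (Away (CohB1.polyGrading m K) (X i)))
      f := ι
      mem₀ := by
        rw [Scheme.presieve₀_mem_precoverage_iff]
        refine ⟨fun z => ?_, hι⟩
        obtain ⟨i, hi⟩ := TopologicalSpace.Opens.mem_iSup.mp
          ((iSup_basicOpen_X m K).ge (TopologicalSpace.Opens.mem_top z))
        have e := Proj.opensRange_awayι (CohB1.polyGrading m K) (X i) (X_mem_polyGrading m K i) one_pos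
        exact ⟨i, (show z ∈ (Proj.awayι (CohB1.polyGrading m K) (X i) (X_mem_polyGrading m K i) one_pos).opensRange from e ▸ hi)⟩ }
  let u : ∀ i : Fin (m + 1), Spec (CommRingCat.of (Away (CohB1.polyGrading m K) (X i))) ⟶ Y :=
    fun i => y _ (toAway m K (X i)) i (coord m i) (coord_self m i)
  have hu : ∀ {S : Type u} [CommRing S] (q : K →+* S) (i : Fin (m + 1)) (a : Away (CohB1.polyGrading m K) (X i) →+* S)
      (_ : a.comp (toAway m K (X i)) = q) (v : Fin (m + 1) → S) (hv : v i = 1), (∀ l, a (coord m i l) = v l) →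
      Spec.map (CommRingCat.ofHom a) ≫ u i = y S q i v hv := by
    intro S _ q i a hq v hv hl
    rw [hnat]
    subst hq
    have e : (fun l => a (coord m i l)) = v := funext hl
    subst e
    rfl
  let φ : CohB1.ProjSpace m K ⟶ Y := 𝒰.glueMorphisms u fun i j => by
    let x : MvPolynomial (Fin (m + 1)) K := X i * X j
    let Q := Proj.pullbackAwayιIso (CohB1.polyGrading m K) (X_mem_polyGrading m K i) one_pos
      (X_mem_polyGrading m K j) one_pos (rfl : x = X i * X j)
    refine (cancel_epi Q.inv).1 ?_
    have e1 : Q.inv ≫ pullback.fst (𝒰.f i) (𝒰.f j) = _ := Proj.pullbackAwayιIso_inv_fst ..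
    have e2 : Q.inv ≫ pullback.snd (𝒰.f i) (𝒰.f j) = _ := Proj.pullbackAwayιIso_inv_snd ..
    refine ((Category.assoc _ _ _).symm.trans (congrArg (· ≫ u i) e1)).trans (Eq.trans ?_
      ((Category.assoc _ _ _).symm.trans (congrArg (· ≫ u j) e2)).symm)
    rw [hu (toAway m K x) i _ (awayMap_toAway m i j rfl) _ ((congrArg _ (coord_self m i)).trans (map_one _)) fun _ => rfl,
      hu (toAway m K x) j _ (awayMap_toAway m j i (mul_comm _ _)) _ ((congrArg _ (coord_self m j)).trans (map_one _)) fun _ => rfl]
    have hc := awayMap_coord_mul m (K := K) j i (x := x)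
    rw [hchange _ _ i j _ _ (awayMap (CohB1.polyGrading m K) (X_mem_polyGrading m K i) (mul_comm (X i) (X j) : x = _) (coord m j i))
      ((mul_comm _ _).trans ((hc j (mul_comm _ _) rfl).trans ((congrArg _ (coord_self m j)).trans (map_one _))))]
    congr 1
    funext l
    exact (mul_comm _ _).trans (hc l (mul_comm _ _) rfl)
  have hpt : ∀ {S : Type u} [CommRing S] (q : K →+* S) i (v : Fin (m + 1) → S) hv,
      pt m q i v hv ≫ φ = y S q i v hv := by
    intro S _ q i v hv
    obtain ⟨h₀, h₁⟩ := (exists_away_hom m q i v hv).choose_spec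
    rw [pt, Category.assoc]
    refine Eq.trans ?_ (hu q i _ h₀ v hv h₁)
    exact congrArg _ (𝒰.ι_glueMorphisms u _ i)
  have hφp : φ ≫ p = CohB1.ProjSpace.toSpec m K := 𝒰.hom_ext _ _ fun i => by
    rw [Scheme.Cover.ι_glueMorphisms_assoc]
    exact (hy _ _ _ _ _).trans (awayι_toSpec m K (X_mem_polyGrading m K i) one_pos).symm
  have huniq : ∀ {S : Type u} [CommRing S] (z z' : Spec (CommRingCat.of S) ⟶ CohB1.ProjSpace m K),
      z ≫ φ = z' ≫ φ → z = z' := by
    intro S _ z z' h
    refine eq_of_local z z' fun x => ?_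
    obtain ⟨qc, hqc⟩ := Spec.map_surjective (z ≫ CohB1.ProjSpace.toSpec m K)
    have hq : z ≫ CohB1.ProjSpace.toSpec m K = Spec.map (CommRingCat.ofHom qc.hom) := hqc.symm
    have hq' : z' ≫ CohB1.ProjSpace.toSpec m K = Spec.map (CommRingCat.ofHom qc.hom) := by
      rw [← hq, ← hφp, ← Category.assoc, ← h, Category.assoc]
    obtain ⟨f, hf, i, v, hv, e⟩ := exists_pt_local m qc.hom z hq x
    obtain ⟨g, hg, j, w, hw, e'⟩ := exists_pt_local m qc.hom z' hq' x
    refine ⟨f * g, fun hfg => (x.2.mem_or_mem hfg).elim hf hg, ?_⟩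
    let α : Localization.Away f →+* Localization.Away (f * g) := Localization.awayLift (algebraMap S _) f
      (isUnit_of_dvd_unit (map_dvd _ (dvd_mul_right f g)) (IsLocalization.Away.algebraMap_isUnit (f * g)))
    let β : Localization.Away g →+* Localization.Away (f * g) := Localization.awayLift (algebraMap S _) g
      (isUnit_of_dvd_unit (map_dvd _ (dvd_mul_left g f)) (IsLocalization.Away.algebraMap_isUnit (f * g)))
    have hα : α.comp (algebraMap S _) = algebraMap S _ := IsLocalization.Away.lift_comp _ _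
    have hβ : β.comp (algebraMap S _) = algebraMap S _ := IsLocalization.Away.lift_comp _ _
    have E := congrArg (Spec.map (CommRingCat.ofHom α) ≫ ·) e
    have E' := congrArg (Spec.map (CommRingCat.ofHom β) ≫ ·) e'
    simp only [← Category.assoc, ← Spec.map_comp, ← CommRingCat.ofHom_comp, hα, hβ, pt_comp, ← RingHom.comp_assoc] at E E'
    rw [E, E']
    set q := (algebraMap S (Localization.Away (f * g))).comp qc.hom
    set v' := fun l => α (v l)
    set w' := fun l => β (w l)
    have hv' : v' i = 1 := by simp [v', hv]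
    have hw' : w' j = 1 := by simp [w', hw]
    have heq : y _ q i v' hv' = y _ q j w' hw' := by
      rw [← hpt, ← hpt, ← E, ← E', Category.assoc, Category.assoc, h]
    obtain ⟨c, hc⟩ := hinj _ q i j v' w' hv' hw' heq
    have hcj : c * v' j = 1 := by rw [← hc, hw']
    rw [pt_change m q i j v' hv' c hcj]
    congr 1
    exact (funext hc).symm
  haveI : Mono φ := ⟨fun {T} z z' h => T.affineOpenCover.openCover.hom_ext _ _ fun a =>
    huniq _ _ ((Category.assoc _ _ _).trans ((congrArg (T.affineOpenCover.openCover.f a ≫ ·) h).trans (Category.assoc _ _ _).symm))⟩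
  haveI : IsIso φ := by
    refine isIso_of_mono_of_local φ fun η => ?_
    obtain ⟨a, x, hx⟩ : ∃ a, η ∈ Set.range (Y.affineOpenCover.f a) := ⟨_, Y.affineOpenCover.covers η⟩
    obtain ⟨qc, hqc⟩ := Spec.map_surjective (Y.affineOpenCover.f a ≫ p)
    obtain ⟨f, hf, i, v, hv, e⟩ := hloc _ qc.hom (Y.affineOpenCover.f a) hqc.symm x
    refine ⟨_, _, pt m _ i v hv, ?_, ?_, (hpt _ i v hv).trans e.symm⟩
    · haveI : IsOpenImmersion (Spec.map (CommRingCat.ofHom (algebraMap _ (Localization.Away f)))) :=
        IsOpenImmersion.of_isLocalization f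
      infer_instance
    · obtain ⟨w, hw⟩ : x ∈ Set.range (PrimeSpectrum.comap (algebraMap (Y.affineOpenCover.X a) (Localization.Away f))) := by
        rw [PrimeSpectrum.localization_away_comap_range (Localization.Away f) f]
        exact hf
      exact ⟨w, (congrArg (Y.affineOpenCover.f a) hw).trans hx⟩
  exact ⟨(asIso φ).symm, (Iso.inv_comp_eq (asIso φ)).2 hφp.symm, fun S _ q i v hv => hpt q i v hv⟩


section

variable {k A K : Type u} [Field k] [Ring A] [Algebra k A] [Field K] [Algebra k K] {m : ℕ}
  (e : (K ⊗[k] A) ≃ₐ[K] Matrix (Fin (m + 1)) (Fin (m + 1)) K) {X : Scheme.{u}} {f : X ⟶ Spec (CommRingCat.of k)}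
  (σ : BrSev.SBStr k A ((m + 1) * (m + 1) - (m + 1)) f)

include e σ in
/-- The splitting, with the points. -/
theorem exists_iso_linePt : ∃ E : BrSev.bc f K ≅ CohB1.ProjSpace m K,
    E.hom ≫ CohB1.ProjSpace.toSpec m K = BrSev.bcTo f K ∧
    ∀ (S : Type u) [CommRing S] (q : K →+* S) i (v : Fin (m + 1) → S) hv, pt m q i v hv ≫ E.inv = linePt e σ S q i v hv := by
  refine exists_iso_pts m (K := K) (Y := BrSev.bc f K) (BrSev.bcTo f K) (linePt e σ) ?_ ?_ ?_ ?_ ?_
  · intro S _ q i v hv
    exact pullback.lift_snd _ _ _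
  · intro S T _ _ φ q i v hv
    letI : Algebra K S := q.toAlgebra
    letI : Algebra k S := (q.comp (algebraMap k K)).toAlgebra
    haveI : IsScalarTower k K S := IsScalarTower.of_algebraMap_eq' rfl
    letI : Algebra K T := (φ.comp q).toAlgebra
    letI : Algebra k T := ((φ.comp q).comp (algebraMap k K)).toAlgebra
    haveI : IsScalarTower k K T := IsScalarTower.of_algebraMap_eq' rfl
    let φK : S →ₐ[K] T := { φ with commutes' := fun _ => rfl }
    apply pullback.hom_ext
    · simp only [linePt, Category.assoc, pullback.lift_fst]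
      have : σ.bij T (BrSev.Pts.map f (φK.restrictScalars k) ((σ.bij S).symm (lineIdeal e i v hv))) =
          lineIdeal e i (fun l => φ (v l)) ((congrArg φ hv).trans (map_one φ)) := by
        refine Subtype.ext (Module.Grassmannian.ext ?_)
        rw [σ.natural, Equiv.apply_symm_apply]
        exact congrArg Module.Grassmannian.toSubmodule (map_lineIdeal e φK i v hv)
      exact congrArg Subtype.val ((Equiv.eq_symm_apply (σ.bij T)).2 this)
    · simp only [linePt, Category.assoc, pullback.lift_snd, ← Spec.map_comp, ← CommRingCat.ofHom_comp]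
  · intro S _ q i j v hv c hc
    letI : Algebra K S := q.toAlgebra
    letI : Algebra k S := (q.comp (algebraMap k K)).toAlgebra
    haveI : IsScalarTower k K S := IsScalarTower.of_algebraMap_eq' rfl
    apply pullback.hom_ext
    · simp only [linePt, pullback.lift_fst]
      rw [lineIdeal_change e hv hc]
    · simp only [linePt, pullback.lift_snd]
  · intro S _ q i j v w hv hw h
    letI : Algebra K S := q.toAlgebra
    letI : Algebra k S := (q.comp (algebraMap k K)).toAlgebra
    haveI : IsScalarTower k K S := IsScalarTower.of_algebraMap_eq' rfl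
    have h1 := congrArg (· ≫ pullback.fst _ _) h
    simp only [linePt, pullback.lift_fst] at h1
    exact lineIdeal_inj e ((σ.bij S).symm.injective (Subtype.ext h1))
  · intro S _ q g hg x
    letI : Algebra K S := q.toAlgebra
    letI : Algebra k S := (q.comp (algebraMap k K)).toAlgebra
    haveI : IsScalarTower k K S := IsScalarTower.of_algebraMap_eq' rfl
    let P : BrSev.Pts f S := ⟨g ≫ pullback.fst _ _, by
      rw [Category.assoc, pullback.condition, ← Category.assoc, hg, ← Spec.map_comp, ← CommRingCat.ofHom_comp]⟩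
    obtain ⟨z, hz, r, i, hzi⟩ := exists_unit_entry e (σ.bij S P) x
    let s := splitMap e S z r i
    have key : ∀ (T : Type u) [CommRing T] (φ : S →+* T) (u : T) (hu : u * φ (splitMap e S z r i) = 1),
        Spec.map (CommRingCat.ofHom φ) ≫ g =
          linePt e σ T (φ.comp q) i (fun l => u * φ (splitMap e S z r l)) hu := by
      intro T _ φ u hu
      letI : Algebra K T := (φ.comp q).toAlgebra
      letI : Algebra k T := ((φ.comp q).comp (algebraMap k K)).toAlgebra
      haveI : IsScalarTower k K T := IsScalarTower.of_algebraMap_eq' rfl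
      let φK : S →ₐ[K] T := { φ with commutes' := fun _ => rfl }
      apply pullback.hom_ext
      · simp only [linePt, Category.assoc, pullback.lift_fst]
        have := exists_lineIdeal e (σ.bij S P) hz r i φK (σ.bij T (BrSev.Pts.map f (φK.restrictScalars k) P))
          (σ.natural S T (φK.restrictScalars k) P) hu
        exact congrArg Subtype.val ((Equiv.eq_symm_apply (σ.bij T)).2 this)
      · simp only [linePt, Category.assoc, pullback.lift_snd]
        show Spec.map _ ≫ g ≫ BrSev.bcTo f K = _
        rw [hg, ← Spec.map_comp, ← CommRingCat.ofHom_comp]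
    obtain ⟨u, hu⟩ := isUnit_iff_exists_inv'.1 (IsLocalization.Away.algebraMap_isUnit (S := Localization.Away s) s)
    exact ⟨s, hzi, i, _, hu, key _ (algebraMap S (Localization.Away s)) u hu⟩

end

end Groth.Agent.ASBun8
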