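import Groth.Agent.ASBun8.SBBundle
import Groth.Agent.ASBun8.SBIso
import Groth.Agent.PicPn22.Main
import Groth.Agent.Coherent.TwistSections

/-!
# The coordinate functions of projective space on the standard charts
-/

set_option autoImplicit false
set_option linter.style.haveILetI false
set_option linter.unusedSectionVars false
set_option backward.isDefEq.respectTransparency.types false
set_option backward.isDefEq.respectTransparency false
set_option maxHeartbeats 1600000

universe u

open CategoryTheory CategoryTheory.Limits AlgebraicGeometry Opposite TopologicalSpace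
open MvPolynomial HomogeneousLocalization
open Groth.Agent.ProjLib Groth.Agent.H8Constr Groth.Agent.PicPn22 Groth.Agent.BrSev28 Groth.Agent.Coherent

namespace Groth.Agent.ASBun8

variable (m : ℕ) (K : Type u) [Field K]

/-- `X_l / X_i` on `D₊(X_i)`. -/
noncomputable def cs (i l : Fin (m + 1)) : Γ(CohB1.ProjSpace m K, PicPn22.D m K i) :=
  Proj.awayToSection (CohB1.polyGrading m K) (X i) (coord m i l)

theorem evS_cs (i l : Fin (m + 1)) :
    evS m K (PicPn22.D m K i) (eta_mem_D m K i) (cs m K i l) = xi m K l / xi m K i := by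
  refine (congrArg (iota m K) ?_).trans ((iota_mk m K (X l) ⟨X i ^ 1,
    Submonoid.pow_mem _ ((notMem_eta m K).2 (X_ne_zero i)) 1⟩).trans (by
      show _ / am m K (X i ^ 1) = _
      rw [pow_one]; rfl))
  rw [cs, coord_eq_mk]
  exact val_awayToSection_mk (X_mem_polyGrading m K i) 1 (X l) _ ⟨eta m K, eta_mem_D m K i⟩

theorem cs_self (i : Fin (m + 1)) : cs m K i i = 1 := by
  rw [cs, coord_self, map_one]

theorem mono_single_sub (i j : Fin (m + 1)) :
    mono m K (Pi.single i (-1 : ℤ) - Pi.single j (-1 : ℤ)) = xi m K j / xi m K i := by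
  classical
  rw [sub_eq_add_neg, ← Pi.single_neg, neg_neg, mono_add]
  have h : ∀ (l : Fin (m + 1)) (d : ℤ), mono m K (Pi.single l d) = xi m K l ^ d := fun l d => by
    rw [mono, Finset.prod_eq_single l (fun l' _ hl => by simp [hl]) (fun h => absurd (Finset.mem_univ l) h),
      Pi.single_eq_same]
  rw [h, h, zpow_neg_one, zpow_one, div_eq_inv_mul]

/-- On an affine open inside `D₊(X_i)` the inclusion is the point with these coordinates. -/
theorem fromSpec_eq_pt {W : (CohB1.ProjSpace m K).Opens} (hW : IsAffineOpen W) {i : Fin (m + 1)}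
    (hWD : W ≤ PicPn22.D m K i)
    (hv : (CohB1.ProjSpace m K).presheaf.map (homOfLE hWD).op (cs m K i i) = 1) :
    hW.fromSpec = pt m (scal (CohB1.ProjSpace.toSpec m K) W) i
      (fun l => (CohB1.ProjSpace m K).presheaf.map (homOfLE hWD).op (cs m K i l)) hv := by
  have hD : IsAffineOpen (PicPn22.D m K i) :=
    Proj.isAffineOpen_basicOpen (CohB1.polyGrading m K) (X i) (ProjLib.X_mem_polyGrading m K i) one_pos
  let a := Proj.awayToSection (CohB1.polyGrading m K) (X i) ≫
    (CohB1.ProjSpace m K).presheaf.map (homOfLE hWD).op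
  have h1 : hW.fromSpec = Spec.map a ≫
      Proj.awayι (CohB1.polyGrading m K) (X i) (X_mem_polyGrading m K i) one_pos := by
    rw [Spec.map_comp, Category.assoc, ← hD.map_fromSpec hW (homOfLE hWD).op]
    refine congrArg (Spec.map _ ≫ ·) ?_
    rw [IsAffineOpen.fromSpec, Proj.awayι, ← Category.assoc]
    refine congrArg (· ≫ _) ?_
    refine (Iso.eq_comp_inv _).2 ?_
    refine (Iso.inv_comp_eq _).2 ?_
    rw [IsAffineOpen.isoSpec_hom, Proj.basicOpenIsoSpec_hom]
    rfl
  have h0 : a.hom.comp (toAway m K (X i)) = scal (CohB1.ProjSpace.toSpec m K) W := by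
    refine congrArg CommRingCat.Hom.hom (Spec.map_injective (show Spec.map (CommRingCat.ofHom (a.hom.comp (toAway m K (X i)))) =
      Spec.map (CommRingCat.ofHom (scal (CohB1.ProjSpace.toSpec m K) W)) from ?_))
    rw [← fromSpec_comp hW, h1, Category.assoc, CommRingCat.ofHom_comp, CommRingCat.ofHom_hom, Spec.map_comp]
    exact congrArg (Spec.map a ≫ ·) (awayι_toSpec m K (X_mem_polyGrading m K i) one_pos).symm
  rw [h1]
  exact (pt_eq m i a.hom _ h0 _ hv (fun l => rfl)).symm

end Groth.Agent.ASBun8
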