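import Groth.Prelude.Def_BrSev2
import Groth.Agent.BrSev28.Ideals
import Groth.Agent.GrassLib.Functor
import Groth.Agent.GrassLib.OverPoints

/-!
# The tautological quotient on a Severi–Brauer scheme
-/

set_option autoImplicit false
set_option linter.style.haveILetI false
set_option linter.unusedSectionVars false
set_option backward.isDefEq.respectTransparency.types false
set_option backward.isDefEq.respectTransparency false
set_option maxHeartbeats 1600000

universe u

open CategoryTheory CategoryTheory.Limits AlgebraicGeometry Opposite TopologicalSpace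
open Groth.Agent.GrassLib
open scoped TensorProduct

namespace Groth.Agent.ASBun8

variable {k : Type u} [Field k] {A : Type u} [Ring A] [Algebra k A] {N : ℕ} (b : Module.Basis (Fin N) k A)

/-- `R ⊗ A ≃ R ⊗ k^N`. -/
noncomputable def coordTen (R : Type u) [CommRing R] [Algebra k R] : R ⊗[k] A ≃ₗ[R] R ⊗[k] (Fin N → k) :=
  b.equivFun.baseChange k R A (Fin N → k)

/-- The coordinates of an element of `R ⊗ A`. -/
noncomputable def coordR (R : Type u) [CommRing R] [Algebra k R] : R ⊗[k] A ≃ₗ[R] (Fin N → R) :=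
  (coordTen b R).trans (kappa (R := k) R N)

theorem coordR_tmul (R : Type u) [CommRing R] [Algebra k R] (r : R) (a : A) :
    coordR b R (r ⊗ₜ a) = fun j => b.repr a j • r := by
  funext j
  simp [coordR, coordTen, kappa_tmul]

theorem coordR_rTensor {R S : Type u} [CommRing R] [Algebra k R] [CommRing S] [Algebra k S] (φ : R →ₐ[k] S)
    (x : R ⊗[k] A) : coordR b S (φ.toLinearMap.rTensor A x) = fun j => φ (coordR b R x j) := by
  induction x using TensorProduct.induction_on with
  | zero => funext j; simp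
  | tmul r a => funext j; simp [coordR_tmul, Algebra.smul_def]
  | add x y hx hy => funext j; simp [hx, hy]

variable {c : ℕ}

/-- An ideal as a point of the Grassmannian. -/
noncomputable def toGr (R : Type u) [CommRing R] [Algebra k R] (M : Module.Grassmannian R (R ⊗[k] A) c) :
    Module.Grassmannian R (R ⊗[k] (Fin N → k)) c :=
  let e := Submodule.Quotient.equiv M.toSubmodule (M.toSubmodule.map (coordTen b R).toLinearMap) (coordTen b R) rfl
  { toSubmodule := M.toSubmodule.map (coordTen b R).toLinearMap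
    finite_quotient := Module.Finite.equiv e
    projective_quotient := Module.Projective.of_equiv e
    rankAtStalk_eq := fun p => (congrFun (Module.rankAtStalk_eq_of_equiv e.symm) p).trans (M.rankAtStalk_eq p) }

theorem map_toGr {R S : Type u} [CommRing R] [Algebra k R] [CommRing S] [Algebra k S] (φ : R →ₐ[k] S)
    (M : Module.Grassmannian R (R ⊗[k] A) c) :
    Module.Grassmannian.map φ (toGr b R M) = toGr b S (Module.Grassmannian.map φ M) := by
  refine BrSev28.grass_eq_of_le _ _ fun z hz => ?_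
  have h1 := map_le_span (A := CommAlgCat.of k R) (B := CommAlgCat.of k S) (CommAlgCat.ofHom φ) (toGr b R M) ⟨z, hz, rfl⟩
  have h2 : kappa (R := k) S N z ∈ (Module.Grassmannian.map φ M).toSubmodule.map (coordR b S).toLinearMap := by
    refine Submodule.span_le.2 ?_ h1
    rintro _ ⟨_, ⟨_, ⟨x, hx, rfl⟩, rfl⟩, rfl⟩
    exact ⟨_, BrSev28.mem_map φ M hx, coordR_rTensor b φ x⟩
  obtain ⟨x, hx, hxz⟩ := h2
  exact ⟨x, hx, (kappa (R := k) S N).injective hxz⟩

variable {X : Scheme.{u}} {f : X ⟶ Spec (CommRingCat.of k)}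

/-- The tautological quotient. -/
theorem exists_datum_of_SBStr (σ : BrSev.SBStr k A c f) :
    ∃ D : Datum N c X, ∀ (R : Type u) [CommRing R] [Algebra k R] (P : BrSev.Pts f R) (x : R ⊗[k] A),
      coordR b R x ∈ rel (A := CommRingCat.of R) (D.pull P.1) ↔ x ∈ (σ.bij R P).1.toSubmodule := by
  let X₀ : Over (Spec (CommRingCat.of k)) := Over.mk f
  let toP : ∀ R : CommAlgCat.{u} k, (pt R ⟶ X₀) → BrSev.Pts f R := fun R g => ⟨g.left, Over.w g⟩
  let Φ : ∀ R : CommAlgCat.{u} k, (pt R ⟶ X₀) → (pt R ⟶ GrOver N c k) := fun R g =>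
    (repFree N c k R).symm (toGr b R (σ.bij R (toP R g)).1)
  have hnat : ∀ (R S : CommAlgCat.{u} k) (φ : R ⟶ S) (g : pt R ⟶ X₀) (g' : pt S ⟶ X₀),
      g'.left = Spec.map (CommRingCat.ofHom φ.hom.toRingHom) ≫ g.left →
        (Φ S g').left = Spec.map (CommRingCat.ofHom φ.hom.toRingHom) ≫ (Φ R g).left := by
    intro R S φ g g' h
    let h₀ : pt S ⟶ pt R := Over.homMk (Spec.map (CommRingCat.ofHom φ.hom.toRingHom))
      (BrSev.specMap_comp_specMap_algebraMap φ.hom)
    have h1 := repFree_natural R S φ (Φ R g) (h₀ ≫ Φ R g) rfl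
    have h2 : Φ S g' = h₀ ≫ Φ R g := by
      refine (Equiv.symm_apply_eq _).2 (Eq.trans ?_ h1.symm)
      rw [show toP S g' = BrSev.Pts.map f φ.hom (toP R g) from Subtype.ext h]
      show toGr b S _ = Module.Grassmannian.map φ.hom (repFree N c k R ((repFree N c k R).symm _))
      rw [Equiv.apply_symm_apply, map_toGr]
      refine Module.Grassmannian.ext ?_
      show Submodule.map _ _ = Submodule.map _ _
      rw [σ.natural R S φ.hom (toP R g)]
    rw [h2]
    rfl
  obtain ⟨ψ, hψ⟩ := exists_hom Φ hnat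
  let E : Elt N c X := representableBy.homEquiv (ψ.left ≫ pullback.fst _ _)
  refine ⟨E.datum, fun R _ _ P x => ?_⟩
  let R' : CommAlgCat.{u} k := CommAlgCat.of k R
  let g : pt R' ⟶ X₀ := Over.homMk P.1 P.2
  have h1 : repFree N c k R' (g ≫ ψ) = toGr b R (σ.bij R P).1 := by
    rw [hψ, Equiv.apply_symm_apply]
    rfl
  have h2 : repFree N c k R' (g ≫ ψ) = toGrass N c R' (E.datum.pull P.1) := by
    show eltEquiv R' (representableBy.homEquiv ((g ≫ ψ).left ≫ pullback.fst _ _)) = _
    rw [show (g ≫ ψ).left ≫ pullback.fst _ _ = P.1 ≫ ψ.left ≫ pullback.fst _ _ from Category.assoc _ _ _]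
    erw [representableBy.homEquiv_comp]
    exact (toGrass_eq_iff R' _ _).2 (Elt.mk_eq_mk.1 (Elt.mk_datum _))
  have h3 := congrArg Module.Grassmannian.toSubmodule (h2.symm.trans h1)
  have h4 := SetLike.ext_iff.1 h3 (coordTen b R x)
  refine Iff.trans h4 ?_
  exact ⟨fun ⟨y, hy, hyx⟩ => (coordTen b R).injective hyx ▸ hy, fun hx => ⟨x, hx, rfl⟩⟩

end Groth.Agent.ASBun8
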