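import Groth.Agent.ASBun8.SBCoord

/-!
# The relations of the tautological quotient on projective space
-/

set_option autoImplicit false
set_option linter.style.haveILetI false
set_option linter.unusedSectionVars false
set_option backward.isDefEq.respectTransparency.types false
set_option backward.isDefEq.respectTransparency false
set_option maxHeartbeats 1600000

universe u

open CategoryTheory CategoryTheory.Limits AlgebraicGeometry Opposite TopologicalSpace
open Groth.Agent.GrassLib Groth.Agent.Coherent Groth.Agent.PicLib Groth.Agent.PicPn22 Groth.Agent.BrSev28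
open scoped TensorProduct

namespace Groth.Agent.ASBun8

variable {k A K : Type u} [Field k] [Ring A] [Algebra k A] [Field K] [Algebra k K] {m N : ℕ}
  (e : (K ⊗[k] A) ≃ₐ[K] Matrix (Fin (m + 1)) (Fin (m + 1)) K) (b : Module.Basis (Fin N) k A)

/-- The entries of the images of the basis. -/
noncomputable def entry (j : Fin N) (r l : Fin (m + 1)) : K := e ((1 : K) ⊗ₜ[k] b j) r l

/-- The coordinates of the elementary matrices. -/
noncomputable def unitCo (r l : Fin (m + 1)) (j : Fin N) : K := coordR b K (e.symm (Matrix.single r l 1)) j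

theorem eq_sum_coordR {S : Type u} [CommRing S] [Algebra k S] (x : S ⊗[k] A) :
    x = ∑ j, coordR b S x j • ((1 : S) ⊗ₜ[k] b j) := by
  induction x using TensorProduct.induction_on with
  | zero => simp
  | tmul s a =>
    conv_lhs => rw [← b.sum_repr a, TensorProduct.tmul_sum]
    refine Finset.sum_congr rfl fun j _ => ?_
    rw [coordR_tmul, TensorProduct.tmul_smul]
    simp [TensorProduct.smul_tmul', Algebra.smul_def, mul_comm]
  | add x y hx hy =>
    conv_lhs => rw [hx, hy]
    simp [map_add, add_smul, Finset.sum_add_distrib]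

theorem sum_unitCo_mul_entry (r l r' l' : Fin (m + 1)) :
    ∑ j, unitCo e b r l j * entry e b j r' l' = if r = r' ∧ l = l' then 1 else 0 := by
  have h := congrArg e (eq_sum_coordR b (e.symm (Matrix.single r l 1)))
  rw [AlgEquiv.apply_symm_apply, map_sum] at h
  have h' := congrFun (congrFun h r') l'
  rw [Matrix.sum_apply] at h'
  simp only [map_smul, Matrix.smul_apply, smul_eq_mul] at h'
  refine h'.symm.trans ?_
  rw [Matrix.single_apply]

theorem sum_entry_mul_unitCo (j j' : Fin N) :
    ∑ r, ∑ l, entry e b j r l * unitCo e b r l j' = if j = j' then 1 else 0 := by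
  classical
  have h : ((1 : K) ⊗ₜ[k] b j : K ⊗[k] A) = ∑ r, ∑ l, entry e b j r l • e.symm (Matrix.single r l 1) := by
    apply e.injective
    simp only [map_sum, map_smul, AlgEquiv.apply_symm_apply, Matrix.smul_single, smul_eq_mul, mul_one]
    exact Matrix.matrix_eq_sum_single _
  have h' := congrFun (congrArg (coordR b K) h) j'
  simp only [map_sum, map_smul, Finset.sum_apply, Pi.smul_apply, smul_eq_mul] at h'
  refine h'.symm.trans ?_
  simp [coordR_tmul, Finsupp.single_apply]

variable {X : Scheme.{u}} (p : X ⟶ Spec (CommRingCat.of K))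

/-- The matrix with given coordinates. -/
noncomputable def matF {V : X.Opens} (y : Fin N → Γ(X, V)) (r l : Fin (m + 1)) : Γ(X, V) :=
  ∑ j, y j * scal p V (entry e b j r l)

/-- The coordinates of the matrix with `r`th row `v`. -/
noncomputable def rowF {V : X.Opens} (v : Fin (m + 1) → Γ(X, V)) (r : Fin (m + 1)) (j : Fin N) : Γ(X, V) :=
  ∑ l, scal p V (unitCo e b r l j) * v l

theorem matF_rowF {V : X.Opens} (v : Fin (m + 1) → Γ(X, V)) (r r' l' : Fin (m + 1)) :
    matF e b p (rowF e b p v r) r' l' = if r = r' then v l' else 0 := by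
  classical
  simp only [matF, rowF, Finset.sum_mul]
  rw [Finset.sum_comm]
  have h : ∀ l, ∑ j, scal p V (unitCo e b r l j) * v l * scal p V (entry e b j r' l') =
      (if r = r' ∧ l = l' then 1 else 0) * v l := fun l => by
    have h' := congrArg (scal p V) (sum_unitCo_mul_entry e b r l r' l')
    rw [map_sum, apply_ite (scal p V), map_one, map_zero] at h'
    rw [← h', Finset.sum_mul]
    exact Finset.sum_congr rfl fun j _ => by rw [map_mul]; ring
  simp only [h]
  by_cases hr : r = r'
  · subst hr; simp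
  · simp [hr]

theorem sum_matF_mul {V : X.Opens} (y : Fin N → Γ(X, V)) (j' : Fin N) :
    ∑ r, ∑ l, matF e b p y r l * scal p V (unitCo e b r l j') = y j' := by
  classical
  simp only [matF, Finset.sum_mul]
  rw [Finset.sum_congr rfl fun r _ => Finset.sum_comm, Finset.sum_comm]
  have h : ∀ j, ∑ r, ∑ l, y j * scal p V (entry e b j r l) * scal p V (unitCo e b r l j') =
      y j * (if j = j' then 1 else 0) := fun j => by
    have h' := congrArg (scal p V) (sum_entry_mul_unitCo e b j j')
    simp only [map_sum, apply_ite (scal p V), map_one, map_zero] at h'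
    rw [← h', Finset.mul_sum]
    refine Finset.sum_congr rfl fun r _ => ?_
    rw [Finset.mul_sum]
    exact Finset.sum_congr rfl fun l _ => by rw [map_mul]; ring
  simp only [h]
  simp

/-- Being combinations of the rows. -/
def IsLines {V : X.Opens} (i : Fin (m + 1)) (v : Fin (m + 1) → Γ(X, V)) (y : Fin N → Γ(X, V)) : Prop :=
  ∀ r l, matF e b p y r l = matF e b p y r i * v l

theorem isLines_eq_sum {V : X.Opens} {i : Fin (m + 1)} {v : Fin (m + 1) → Γ(X, V)} {y : Fin N → Γ(X, V)}
    (h : IsLines e b p i v y) : y = fun j => ∑ r, matF e b p y r i * rowF e b p v r j := by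
  funext j
  conv_lhs => rw [← sum_matF_mul e b p y j]
  refine Finset.sum_congr rfl fun r _ => ?_
  simp only [rowF, Finset.mul_sum]
  exact Finset.sum_congr rfl fun l _ => by rw [h r l]; ring

theorem isLines_sum {V : X.Opens} {i : Fin (m + 1)} {v : Fin (m + 1) → Γ(X, V)} (hv : v i = 1)
    (c : Fin (m + 1) → Γ(X, V)) :
    IsLines e b p i v (fun j => ∑ r, c r * rowF e b p v r j) ∧
      ∀ r, matF e b p (fun j => ∑ s, c s * rowF e b p v s j) r i = c r := by
  classical
  have h : ∀ r l, matF e b p (fun j => ∑ s, c s * rowF e b p v s j) r l = c r * v l := fun r l => by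
    have h1 : ∀ s, c s * matF e b p (rowF e b p v s) r l = ∑ j, c s * rowF e b p v s j * scal p V (entry e b j r l) :=
      fun s => by simp only [matF, Finset.mul_sum]; exact Finset.sum_congr rfl fun j _ => by ring
    show ∑ j, (∑ s, c s * rowF e b p v s j) * _ = _
    simp only [Finset.sum_mul]
    rw [Finset.sum_comm]
    simp only [← h1, matF_rowF, mul_ite, mul_zero, Finset.sum_ite_eq', Finset.mem_univ, if_true]
  exact ⟨fun r l => by rw [h, h, hv, mul_one], fun r => by rw [h, hv, mul_one]⟩

theorem res_matF {V W : X.Opens} (hWV : W ≤ V) (y : Fin N → Γ(X, V)) (r l : Fin (m + 1)) :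
    X.presheaf.map (homOfLE hWV).op (matF e b p y r l) =
      matF e b p (fun j => X.presheaf.map (homOfLE hWV).op (y j)) r l := by
  simp only [matF, map_sum, map_mul, res_scal]

theorem res_rowF {V W : X.Opens} (hWV : W ≤ V) (v : Fin (m + 1) → Γ(X, V)) (r : Fin (m + 1)) (j : Fin N) :
    X.presheaf.map (homOfLE hWV).op (rowF e b p v r j) =
      rowF e b p (fun l => X.presheaf.map (homOfLE hWV).op (v l)) r j := by
  simp only [rowF, map_sum, map_mul, res_scal]

section ProjSpace

variable {Y : Scheme.{u}} {f : Y ⟶ Spec (CommRingCat.of k)}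
  (σ : BrSev.SBStr k A ((m + 1) * (m + 1) - (m + 1)) f) (D : Datum N ((m + 1) * (m + 1) - (m + 1)) Y)
  (hD : ∀ (R : Type u) [CommRing R] [Algebra k R] (P : BrSev.Pts f R) (x : R ⊗[k] A),
    coordR b R x ∈ rel (A := CommRingCat.of R) (D.pull P.1) ↔ x ∈ (σ.bij R P).1.toSubmodule)
  (E : BrSev.bc f K ≅ CohB1.ProjSpace m K)
  (hE : ∀ (S : Type u) [CommRing S] (q : K →+* S) i (v : Fin (m + 1) → S) hv,
    BrSev28.pt m q i v hv ≫ E.inv = linePt e σ S q i v hv)

include hD hE in
/-- The relations on an affine open inside a standard chart. -/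
theorem mem_ker_affine {W : (CohB1.ProjSpace m K).Opens} (hW : IsAffineOpen W) {i : Fin (m + 1)}
    (hWD : W ≤ PicPn22.D m K i) (y : Fin N → Γ(CohB1.ProjSpace m K, W)) :
    y ∈ (D.pull (E.inv ≫ pullback.fst _ _)).ker W ↔
      IsLines e b (CohB1.ProjSpace.toSpec m K) i
        (fun l => (CohB1.ProjSpace m K).presheaf.map (homOfLE hWD).op (cs m K i l)) y := by
  let p := CohB1.ProjSpace.toSpec m K
  let v : Fin (m + 1) → Γ(CohB1.ProjSpace m K, W) := fun l =>
    (CohB1.ProjSpace m K).presheaf.map (homOfLE hWD).op (cs m K i l)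
  have hv : v i = 1 := (congrArg _ (cs_self m K i)).trans (map_one _)
  let g : CohB1.ProjSpace m K ⟶ Y := E.inv ≫ pullback.fst _ _
  letI : Algebra K Γ(CohB1.ProjSpace m K, W) := (scal p W).toAlgebra
  letI : Algebra k Γ(CohB1.ProjSpace m K, W) := ((scal p W).comp (algebraMap k K)).toAlgebra
  haveI : IsScalarTower k K Γ(CohB1.ProjSpace m K, W) := IsScalarTower.of_algebraMap_eq' rfl
  let P : BrSev.Pts f Γ(CohB1.ProjSpace m K, W) := (σ.bij _).symm (lineIdeal e i v hv)
  have hP : hW.fromSpec ≫ g = P.1 := by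
    rw [fromSpec_eq_pt m K hW hWD hv, ← Category.assoc, hE]
    exact pullback.lift_fst _ _ _
  rw [mem_ker_iff_rel _ hW, ← GrassLib.rel_congr (Datum.pull_comp_ker D g hW.fromSpec), hP]
  obtain ⟨z, hz⟩ := (coordR b Γ(CohB1.ProjSpace m K, W)).surjective y
  subst hz
  refine (hD _ P z).trans ?_
  rw [show σ.bij _ P = lineIdeal e i v hv from Equiv.apply_symm_apply _ _, mem_lineIdeal]
  have h : ∀ r l, splitMap e Γ(CohB1.ProjSpace m K, W) z r l = matF e b p (coordR b Γ(CohB1.ProjSpace m K, W) z) r l := by
    intro r l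
    conv_lhs => rw [eq_sum_coordR b z, map_sum, Matrix.sum_apply]
    refine Finset.sum_congr rfl fun j _ => ?_
    rw [map_smul, Matrix.smul_apply, splitMap_tmul, one_smul, Matrix.map_apply, smul_eq_mul]
    rfl
  simp only [IsLines, h]
  rfl

include hD hE in
/-- The relations on any open inside a standard chart. -/
theorem mem_ker_chart {V : (CohB1.ProjSpace m K).Opens} {i : Fin (m + 1)}
    (hVD : V ≤ PicPn22.D m K i) (y : Fin N → Γ(CohB1.ProjSpace m K, V)) :
    y ∈ (D.pull (E.inv ≫ pullback.fst _ _)).ker V ↔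
      IsLines e b (CohB1.ProjSpace.toSpec m K) i
        (fun l => (CohB1.ProjSpace m K).presheaf.map (homOfLE hVD).op (cs m K i l)) y := by
  have hres : ∀ {W : (CohB1.ProjSpace m K).Opens} (hWV : W ≤ V) (l : Fin (m + 1)),
      (CohB1.ProjSpace m K).presheaf.map (homOfLE hWV).op
        ((CohB1.ProjSpace m K).presheaf.map (homOfLE hVD).op (cs m K i l)) =
      (CohB1.ProjSpace m K).presheaf.map (homOfLE (hWV.trans hVD)).op (cs m K i l) := fun hWV l => by
    rw [← ConcreteCategory.comp_apply, ← Functor.map_comp]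
    rfl
  refine ⟨fun hy r l => ?_, fun hy => Datum.mem_ker_of_nhds _ y fun x hx => ?_⟩
  · refine TopCat.Sheaf.eq_of_locally_eq' (CohB1.ProjSpace m K).sheaf
      (fun W : {W : (CohB1.ProjSpace m K).Opens // IsAffineOpen W ∧ W ≤ V} => W.1) V (fun W => homOfLE W.2.2)
      (fun x hx => ?_) _ _ fun W => ?_
    · obtain ⟨W, hW, hxW, hWV⟩ := exists_isAffineOpen_mem_and_subset (x := x) (U := V) hx
      exact Opens.mem_iSup.2 ⟨⟨W, hW, hWV⟩, hxW⟩
    · have h := (mem_ker_affine e b σ D hD E hE W.2.1 (W.2.2.trans hVD) _).1 (Datum.res_mem_ker _ W.2.2 hy) r l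
      show (CohB1.ProjSpace m K).presheaf.map (homOfLE W.2.2).op _ = (CohB1.ProjSpace m K).presheaf.map (homOfLE W.2.2).op _
      simp only [map_mul, res_matF, hres]
      exact h
  · obtain ⟨W, hW, hxW, hWV⟩ := exists_isAffineOpen_mem_and_subset (x := x) (U := V) hx
    refine ⟨W, hWV, hxW, (mem_ker_affine e b σ D hD E hE hW (hWV.trans hVD) _).2 fun r l => ?_⟩
    have h := congrArg ((CohB1.ProjSpace m K).presheaf.map (homOfLE hWV).op) (hy r l)
    simp only [map_mul, hres] at h
    exact ((res_matF e b _ hWV y r l).symm.trans h).trans (congrArg (· * _) (res_matF e b _ hWV y r i))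

end ProjSpace

end Groth.Agent.ASBun8
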