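import Groth.Agent.ASBun8.SBSplit
import Groth.Agent.ASBun8.SBEnd
import Groth.Agent.ASBun8.Dual
import Groth.Agent.ASBun8.Twist
import Groth.Agent.CSA.PeriodIndex

/-!
# Multiplicities of indecomposable bundles on Severi–Brauer schemes and indices of tensor powers
-/

set_option autoImplicit false
set_option linter.style.haveILetI false
set_option linter.unusedSectionVars false
set_option backward.isDefEq.respectTransparency.types false
set_option backward.isDefEq.respectTransparency false
set_option maxHeartbeats 1600000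

universe u

open CategoryTheory CategoryTheory.Limits AlgebraicGeometry Opposite TopologicalSpace
open Groth.Agent.GrassLib Groth.Agent.Coherent Groth.Agent.PicLib Groth.Agent.PicPn22
open scoped TensorProduct

namespace Groth.Agent.ASBun8

variable {k K : Type u} [Field k] [Field K] [Algebra k K] [IsAlgClosure k K] {X : Scheme.{u}}
  [X.Over (Spec (CommRingCat.of k))] [IsProper (X ↘ Spec (CommRingCat.of k))] {m : ℕ}
  (e : BrSev.Splitting (X ↘ Spec (CommRingCat.of k)) K m)

include e in
/-- An automorphism of projective space preserves `O(-1)` or turns it into `O(1)`. -/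
theorem exists_sign (E : BrSev.bc (X ↘ Spec (CommRingCat.of k)) K ≅ CohB1.ProjSpace m K) :
    ∃ d : ℤ, (d = 1 ∨ d = -1) ∧ PicM.pull E.hom (tP m K (-1)) = tX e d := by
  rcases Nat.eq_zero_or_pos m with rfl | hm
  · haveI := ProjLib.isIso_toSpec_zero K
    have h1 : ∀ a : PicM (BrSev.bc (X ↘ Spec (CommRingCat.of k)) K), a = 1 := fun a => by
      let q := e.iso.hom ≫ CohB1.ProjSpace.toSpec 0 K
      rw [← PicM.pull_id a, ← IsIso.hom_inv_id q, ← PicM.pull_pull, PicM.eq_one_of_field K (PicM.pull (inv q) a), map_one]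
    exact ⟨1, Or.inl rfl, (h1 _).trans (h1 _).symm⟩
  · choose g hg using fun s : ℤ => exists_tX e (PicM.pull E.hom (tP m K s))
    have hadd : ∀ a b, g (a + b) = g a + g b := fun a b => by
      refine tX_injective e hm ?_
      rw [← hg, ← tX_add, ← hg, ← hg, ← map_mul, tP_add]
    have hlin : ∀ s, g s = s * g 1 := fun s => by
      have h := map_zsmul (AddMonoidHom.mk' g hadd) s (1 : ℤ)
      simpa using h
    obtain ⟨s, hs⟩ := exists_tP (PicM.pull E.inv (tX e 1))
    have h1 : g s = 1 := by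
      refine tX_injective e hm ?_
      rw [← hg, ← hs, PicM.pull_pull, Iso.hom_inv_id, PicM.pull_id]
    rw [hlin] at h1
    refine ⟨g (-1), ?_, hg (-1)⟩
    rcases Int.eq_one_or_neg_one_of_mul_eq_one' h1 with ⟨-, h⟩ | ⟨-, h⟩
    · exact Or.inr (by rw [hlin, h]; rfl)
    · exact Or.inl (by rw [hlin, h]; rfl)

variable (A : Type u) [Ring A] [Algebra k A] [CSA.IsCSA k A] (hA : Module.finrank k A = (m + 1) * (m + 1))
  (hX : BrSev.IsSBOf k A ((m + 1) * (m + 1) - (m + 1)) (X ↘ Spec (CommRingCat.of k)))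

include hA hX in
/-- The tautological bundle. -/
theorem exists_tautological :
    ∃ (P : X.Modules) (d : ℤ), FlatMod.IsFinLocFree P ∧ (d = 1 ∨ d = -1) ∧ BrSev.IsTwPow e d (m + 1) P ∧
      Nonempty (A →ₐ[k] End P) := by
  classical
  obtain ⟨σ⟩ := hX
  let f := X ↘ Spec (CommRingCat.of k)
  let b := Module.finBasis k A
  haveI : IsAlgClosed K := IsAlgClosure.isAlgClosed k
  obtain ⟨n, hn, hn2, ⟨eA⟩⟩ := CSA.exists_splitting_of_isSepClosed k K A
  have hnm : n = m + 1 := by
    refine Nat.pow_left_injective two_ne_zero ?_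
    show n ^ 2 = (m + 1) ^ 2
    rw [hn2, hA, sq]
  subst hnm
  obtain ⟨D, hD⟩ := exists_datum_of_SBStr b σ
  obtain ⟨φ, -⟩ := exists_actHom b D hD (f := f) rfl
  obtain ⟨E, -, hE⟩ := exists_iso_linePt eA σ
  obtain ⟨t, ht⟩ := PicPn22.exists_frame_twist m K (-1)
  obtain ⟨c⟩ := nonempty_kernel_iso_pow eA b σ D hD E hE ht
  obtain ⟨ψ⟩ := nonempty_pullback_kernel D (E.inv ≫ BrSev.proj f K)
  obtain ⟨d, hd, hd'⟩ := exists_sign e E
  have hT : PicF.IsInvertible ((Scheme.Modules.pullback E.hom).obj (Twist.twistProjSpace m K (-1))) :=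
    PicLoc.isInvertible_pullback E.hom (PruferLib.ProjVanish.isInvertible_twist (R := K) (n := m) (-1))
  obtain ⟨τ⟩ := (PicM.of_eq_iff hT (isInvertible_twist e d)).1 ((PicM.pull_of E.hom _).symm.trans hd')
  refine ⟨kernel D.desc, d, isFinLocFree_kernel_desc D, hd, ⟨?_⟩, ⟨φ⟩⟩
  have w : BrSev.proj f K = E.hom ≫ E.inv ≫ BrSev.proj f K := (Iso.hom_inv_id_assoc E _).symm
  exact (Scheme.Modules.pullbackCongr w).app _ ≪≫ ((Scheme.Modules.pullbackComp E.hom (E.inv ≫ BrSev.proj f K)).app _).symm ≪≫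
    (Scheme.Modules.pullback E.hom).mapIso (ψ ≪≫ c.symm) ≪≫ pullbackSigma E.hom _ ≪≫ Sigma.mapIso fun _ => τ

include hA hX in
/-- The tensor powers of the tautological bundle. -/
theorem exists_powers : ∃ d : ℤ, (d = 1 ∨ d = -1) ∧ ∀ j : ℕ, ∃ Q : X.Modules,
    FlatMod.IsFinLocFree Q ∧ BrSev.IsTwPow e (d * j) ((m + 1) ^ j) Q ∧
      Nonempty (CSA.TPow k A j ≃ₐ[k] End Q) := by
  classical
  obtain ⟨P, d, hP, hd, hPt, ⟨φ⟩⟩ := exists_tautological e A hA hX
  refine ⟨d, hd, ?_⟩
  let f := X ↘ Spec (CommRingCat.of k)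
  letI : (BrSev.bc f K).Over (Spec (CommRingCat.of K)) := ⟨BrSev.bcTo f K⟩
  haveI : IsProper (BrSev.bc f K ↘ Spec (CommRingCat.of K)) :=
    inferInstanceAs (IsProper (pullback.snd f (Spec.map (CommRingCat.ofHom (algebraMap k K)))))
  haveI : IsAlgClosed K := IsAlgClosure.isAlgClosed k
  haveI := CurveLib.isIntegral_projSpace K m
  haveI : IsIntegral (BrSev.bc f K) := IsIntegral.of_isIso e.iso.inv
  have h : IsPullback (BrSev.proj f K) (BrSev.bc f K ↘ Spec (CommRingCat.of K)) (X ↘ Spec (CommRingCat.of k))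
      (Spec.map (CommRingCat.ofHom (algebraMap k K))) := IsPullback.of_hasPullback _ _
  have key : ∀ (j : ℕ) (Q : X.Modules), FlatMod.IsFinLocFree Q → BrSev.IsTwPow e (d * j) ((m + 1) ^ j) Q →
      (CSA.TPow k A j →ₐ[k] End Q) → Nonempty (CSA.TPow k A j ≃ₐ[k] End Q) := by
    intro j Q hQ hQt F
    obtain ⟨eQ⟩ := hQt
    have h2 : Module.finrank k (End Q) = ((m + 1) ^ j) ^ 2 := finrank_end_isotypical h hQ (isInvertible_twist e _) eQ
    have hpos : 0 < Module.finrank k (End Q) := by rw [h2]; positivity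
    haveI : Module.Finite k (End Q) := Module.finite_of_finrank_pos hpos
    haveI : Nontrivial (End Q) := Module.nontrivial_of_finrank_pos hpos
    have hinj : Function.Injective F := F.toRingHom.injective
    have heq : Module.finrank k (CSA.TPow k A j) = Module.finrank k (End Q) := by
      rw [CSA.finrank_tpow, hA, h2, ← sq, ← pow_mul, ← pow_mul, mul_comm]
    exact ⟨AlgEquiv.ofBijective F ⟨hinj,
      (LinearMap.injective_iff_surjective_of_finrank_eq_finrank heq (f := F.toLinearMap)).1 hinj⟩⟩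
  intro j
  induction j with
  | zero =>
    have hO := Coherent.CohBC.isFinLocFree_structureModule X
    have hOi := (AmpleLib.isInvertible_structureModule : PicF.IsInvertible (Coh.structureModule (BrSev.bc f K)))
    have hQt : BrSev.IsTwPow e (d * ((0 : ℕ) : ℤ)) ((m + 1) ^ 0) (Coh.structureModule X) := by
      have h0 : PicM.of hOi = PicM.of (isInvertible_twist e 0) := by
        rw [PicM.of_structureModule, of_twist, tX, tP_zero, map_one]
      obtain ⟨a⟩ := (PicM.of_eq_iff _ _).1 h0
      rw [Nat.cast_zero, mul_zero, pow_zero]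
      exact ⟨PicLoc.pullbackStructureIso _ ≪≫ a ≪≫ (coproductUniqueIso fun _ : Fin 1 => e.twist 0).symm⟩
    exact ⟨_, hO, hQt, key 0 _ hO hQt ((Algebra.ofId k _).comp (CSA.tpowZero k A).toAlgHom)⟩
  | succ j ih =>
    obtain ⟨Q, hQ, hQt, ⟨F⟩⟩ := ih
    have hQP := WeilFin.isFinLocFree_tensorMod hQ hP
    have hQPt : BrSev.IsTwPow e (d * ((j + 1 : ℕ) : ℤ)) ((m + 1) ^ (j + 1)) (CohB1.tensorMod Q P) := by
      have := isTwPow_tensor e hQt hPt
      rwa [← pow_succ, show d * (j : ℤ) + d = d * ((j + 1 : ℕ) : ℤ) by push_cast; ring] at this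
    exact ⟨_, hQP, hQPt, key (j + 1) _ hQP hQPt ((endTensor k F.toAlgHom φ).comp
      ((Algebra.TensorProduct.congr AlgEquiv.refl (CSA.tpowOne k A)).toAlgHom.comp (CSA.tpowAdd k A j 1).symm.toAlgHom))⟩

include hA hX in
/-- The multiplicity of an indecomposable bundle of type `j` is the index of the tensor power. -/
theorem isIndex_multiplicity {W : X.Modules} (hW : FlatMod.IsFinLocFree W) (hWi : Ind W) {j : ℤ} {r : ℕ}
    (hr : 0 < r) (hWt : BrSev.IsTwPow e j r W) : CSAGal.IsIndex k (CSAGal.tpow k A j.natAbs) r := by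
  classical
  obtain ⟨d, hd, hpow⟩ := exists_powers e A hA hX
  obtain ⟨Q, hQ, ⟨eQ⟩, ⟨F⟩⟩ := hpow j.natAbs
  let f := X ↘ Spec (CommRingCat.of k)
  letI : (BrSev.bc f K).Over (Spec (CommRingCat.of K)) := ⟨BrSev.bcTo f K⟩
  haveI : IsProper (BrSev.bc f K ↘ Spec (CommRingCat.of K)) :=
    inferInstanceAs (IsProper (pullback.snd f (Spec.map (CommRingCat.ofHom (algebraMap k K)))))
  haveI : IsAlgClosed K := IsAlgClosure.isAlgClosed k
  haveI := CurveLib.isIntegral_projSpace K m
  haveI : IsIntegral (BrSev.bc f K) := IsIntegral.of_isIso e.iso.inv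
  haveI := isLocallyNoetherian_X (X := X) k
  have h : IsPullback (BrSev.proj f K) (BrSev.bc f K ↘ Spec (CommRingCat.of K)) (X ↘ Spec (CommRingCat.of k))
      (Spec.map (CommRingCat.ofHom (algebraMap k K))) := IsPullback.of_hasPullback _ _
  have hLi : Ind (e.twist (d * j.natAbs)) := ind_of_invertible (isInvertible_twist e _)
  have hLc : Coh.IsCoh (e.twist (d * j.natAbs)) := CohBC.isCoh_of_isFinLocFree (Coherent.isFinLocFree_of_invertible (isInvertible_twist e _))
  have hQc := CohBC.isCoh_of_isFinLocFree hQ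
  have hQ0 : ¬ IsZero Q := fun hz => by
    have h1 := finrank_end_isotypical h hQ (isInvertible_twist e _) eQ
    haveI : Subsingleton (End Q) := ⟨fun a b => hz.eq_of_src a b⟩
    rw [Module.finrank_zero_of_subsingleton] at h1
    exact (pow_pos (pow_pos m.succ_pos _) 2).ne h1
  obtain ⟨G, t, hGi, ⟨R⟩, ⟨eG⟩⟩ := exists_iso_pow h hQc hQ0 hLi hLc eQ
  obtain ⟨s, ⟨es⟩⟩ := exists_pow_of_retract K hLi hLc
    ((R.map (Scheme.Modules.pullback (BrSev.proj f K))).trans ⟨eQ.hom, eQ.inv, eQ.hom_inv_id⟩)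
  have hG := WeilFin.isFinLocFree_retract R hQ
  have hGc := CohBC.isCoh_of_isFinLocFree hG
  have hs : 0 < s := pos_of_isotypical h hGc hGi.1 es
  have hWc := CohBC.isCoh_of_isFinLocFree hW
  obtain ⟨eW⟩ := hWt
  have hrs : s = r := by
    by_cases hj : d * (j.natAbs : ℤ) = j
    · rw [hj] at es
      exact le_antisymm
        (isotypical_le h hWc hGc hGi (ind_of_invertible (isInvertible_twist e j))
          (CohBC.isCoh_of_isFinLocFree (Coherent.isFinLocFree_of_invertible (isInvertible_twist e j))) hr eW es)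
        (isotypical_le h hGc hWc hWi (ind_of_invertible (isInvertible_twist e j))
          (CohBC.isCoh_of_isFinLocFree (Coherent.isFinLocFree_of_invertible (isInvertible_twist e j))) hs es eW)
    · have hneg : d * (j.natAbs : ℤ) = -j := by
        rcases hd with rfl | rfl <;> omega
      have h0 : ∀ a : ℤ, PicM.of (isInvertible_twist e (-a)) * PicM.of (isInvertible_twist e a) = 1 := by
        intro a
        rw [of_twist, of_twist, tX_add, neg_add_cancel, tX, tP_zero, map_one]
      rw [hneg] at es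
      exact le_antisymm
        (isotypical_dual_le h hW hWi.1 hG hGi (isInvertible_twist e j) (isInvertible_twist e (-j)) (h0 j) eW es)
        (isotypical_dual_le h hG hGi.1 hW hWi (isInvertible_twist e (-j)) (isInvertible_twist e j)
          ((mul_comm _ _).trans (h0 j)) es eW)
  subst hrs
  have ht : 0 < t := Nat.pos_of_ne_zero fun h0 => by
    subst h0
    exact hQ0 ((isZero_sigma _ fun i => i.elim0).of_iso eG)
  haveI := isSimpleRing_end h hG hGi.1 (exists_smul_id K (isInvertible_twist e _)) es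
  haveI : Module.Finite k (End G) := TF7.finite_hom_coh k hGc hGc
  letI : DivisionRing (End G) := DivisionRing.ofIsUnitOrEqZero fun x => or_iff_not_imp_right.2
    (isUnit_of_isSimpleRing (A := End G)
      fun x => VB5.isUnit_or_isNilpotent (k := k) (A := End G) (fun g hg => VB5.idem_of_indecomposable hGi.2 g hg) x)
  exact ⟨hr, t, End G, inferInstance, inferInstance, ht, finrank_end_isotypical h hG (isInvertible_twist e _) es,
    ⟨(F.trans (endConj k eG)).trans (endPow k G t)⟩⟩

end Groth.Agent.ASBun8
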