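import Groth.Agent.ASBun8.SBLines
import Groth.Agent.KPull28.Basic
import Groth.Agent.KPr28.Gen0
import Groth.Agent.CurveRR24.Vanish

/-!
# The tautological bundle of a split Severi–Brauer scheme
-/

set_option autoImplicit false
set_option linter.style.haveILetI false
set_option linter.unusedSectionVars false
set_option backward.isDefEq.respectTransparency.types false
set_option backward.isDefEq.respectTransparency false
set_option maxHeartbeats 1600000

universe u

open CategoryTheory CategoryTheory.Limits AlgebraicGeometry Opposite TopologicalSpace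
open Groth.Agent.GrassLib Groth.Agent.Coherent Groth.Agent.PicLib Groth.Agent.PicPn22 Groth.Agent.BrSev28
open scoped TensorProduct

namespace Groth.Agent.ASBun8

section Pullback

variable {X Y : Scheme.{u}} {n q : ℕ} (D : GrassLib.Datum n q Y) (g : X ⟶ Y)

theorem isFinLocFree_L : FlatMod.IsFinLocFree D.L := fun x => by
  obtain ⟨U, hx, he⟩ := D.isFinLocFreeOfRank x
  exact ⟨U, q, hx, he⟩

theorem isFinLocFree_kernel_desc : FlatMod.IsFinLocFree (kernel D.desc) :=
  KoszPn17.isFinLocFree_kernel D.desc (KPr28.Gen.isFinLocFree_freeMod _) (isFinLocFree_L D)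

theorem isBasisOn_basisVec (Z : Scheme.{u}) (I : Type u) [Fintype I] [DecidableEq I] :
    IsBasisOn (freeMod Z I) ⊤ fun i => freeBasisVec (X := Z) i ⊤ := by
  intro V hV
  refine (congrArg Function.Bijective (funext fun c => ?_)).mpr (freeSectionsEquiv (X := Z) (I := I) V).symm.bijective
  exact Finset.sum_congr rfl fun i _ => congrArg (c i • ·) (resM_unitVal _ _)

/-- The relations of the inverse image datum are the inverse image of the relations. -/
theorem nonempty_pullback_kernel :
    Nonempty ((Scheme.Modules.pullback g).obj (kernel D.desc) ≅ kernel (D.pull g).desc) := by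
  classical
  let I := ULift.{u} (Fin n)
  let P := (Scheme.Modules.pullback g).obj (freeMod Y I)
  let φ₀ : freeMod X I ⟶ P := freeDesc fun i => unitDesc P (pullSec g (freeBasisVec (X := Y) i ⊤))
  have hb := IsBasisOn.pull g (isBasisOn_basisVec Y I)
  have happ : ∀ (V : X.Opens) (a : Γ(freeMod X I, V)), φ₀.app V a =
      ∑ i, freeSectionsEquiv V a i • resM P (show V ≤ g ⁻¹ᵁ ⊤ from le_top) (pullSec g (freeBasisVec (X := Y) i ⊤)) := by
    intro V a
    rw [freeMod_app]
    refine Finset.sum_congr rfl fun i _ => ?_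
    rw [show unitVal (freeInj i ≫ φ₀) V = resM P (le_top : V ≤ ⊤) (pullSec g (freeBasisVec (X := Y) i ⊤)) from by
      rw [freeInj_freeDesc, ← resM_unitVal _ (le_top : V ≤ ⊤), unitVal_unitDesc]; all_goals (try rw [resM_resM])]
    rfl
  haveI : IsIso φ₀ := by
    refine Scheme.Modules.Hom.isIso_iff_isIso_app.2 fun V => (ConcreteCategory.isIso_iff_bijective _).2 ?_
    rw [show ⇑(φ₀.app V) = _ from funext (happ V)]
    exact (hb (show V ≤ g ⁻¹ᵁ ⊤ from le_top)).comp (freeSectionsEquiv V).bijective
  have hcomp : φ₀ ≫ (Scheme.Modules.pullback g).map D.desc = (D.pull g).desc := by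
    refine freeMod_hom_ext fun i => ?_
    refine CurveRR24.hom_ext_one _ _ fun V => ?_
    show unitVal _ V = unitVal _ V
    rw [← resM_unitVal _ (le_top : V ≤ ⊤), ← resM_unitVal (freeInj i ≫ (D.pull g).desc) (le_top : V ≤ ⊤)]
    refine congrArg _ ?_
    show ((Scheme.Modules.pullback g).map D.desc).app ⊤ (unitVal (freeInj i ≫ φ₀) ⊤) =
      unitVal (freeInj i ≫ (D.pull g).desc) ⊤
    simp only [φ₀, freeInj_freeDesc, Datum.desc, unitVal_unitDesc]
    rw [resM_self, resM_self]
    exact (RelVALib.map_app_pullSec g D.desc ⊤ _).trans (congrArg (pullSec g) (D.desc_basisVec i.down))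
  let S : ShortComplex Y.Modules := ShortComplex.mk (kernel.ι D.desc) D.desc (kernel.condition _)
  have hS : S.ShortExact := ShortComplex.ShortExact.mk' (S.exact_of_f_is_kernel (kernelIsKernel _))
    inferInstance inferInstance
  have hS' := KPull28.shortExact_pullback g hS (isFinLocFree_L D)
  haveI := hS'.mono_f
  refine ⟨IsLimit.conePointUniqueUpToIso hS'.exact.fIsKernel (limit.isLimit _) ≪≫ ?_⟩
  exact kernel.mapIso _ _ (asIso φ₀).symm (Iso.refl _) (by
    rw [Iso.refl_hom, Category.comp_id, Iso.symm_hom, asIso_inv, IsIso.eq_inv_comp]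
    exact hcomp.symm ▸ rfl)

end Pullback

section Chart

variable {k A K : Type u} [Field k] [Ring A] [Algebra k A] [Field K] [Algebra k K] {m N : ℕ}
  (e : (K ⊗[k] A) ≃ₐ[K] Matrix (Fin (m + 1)) (Fin (m + 1)) K) (b : Module.Basis (Fin N) k A)

theorem rowF_mul {X : Scheme.{u}} (p : X ⟶ Spec (CommRingCat.of K)) {V : X.Opens} (c : Γ(X, V))
    (v : Fin (m + 1) → Γ(X, V)) (r : Fin (m + 1)) (j : Fin N) :
    rowF e b p (fun l => c * v l) r j = c * rowF e b p v r j := by
  simp only [rowF, Finset.mul_sum]
  exact Finset.sum_congr rfl fun l _ => by ring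

variable {Y : Scheme.{u}} {f : Y ⟶ Spec (CommRingCat.of k)}
  (σ : BrSev.SBStr k A ((m + 1) * (m + 1) - (m + 1)) f) (D : GrassLib.Datum N ((m + 1) * (m + 1) - (m + 1)) Y)
  (hD : ∀ (R : Type u) [CommRing R] [Algebra k R] (P : BrSev.Pts f R) (x : R ⊗[k] A),
    coordR b R x ∈ rel (A := CommRingCat.of R) (D.pull P.1) ↔ x ∈ (σ.bij R P).1.toSubmodule)
  (E : BrSev.bc f K ≅ CohB1.ProjSpace m K)
  (hE : ∀ (S : Type u) [CommRing S] (q : K →+* S) i (v : Fin (m + 1) → S) hv,
    BrSev28.pt m q i v hv ≫ E.inv = linePt e σ S q i v hv)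

include hD hE in
/-- On projective space the relations are a power of `O(-1)`. -/
theorem nonempty_kernel_iso_pow {L : (CohB1.ProjSpace m K).Modules} {t : ∀ i, Γ(L, PicPn22.D m K i)}
    (ht : PicPn22.IsFrame m K L (-1) t) :
    Nonempty ((∐ fun _ : Fin (m + 1) => L) ≅ kernel (D.pull (E.inv ≫ pullback.fst _ _)).desc) := by
  classical
  let Z := CohB1.ProjSpace m K
  let p := CohB1.ProjSpace.toSpec m K
  let D' := D.pull (E.inv ≫ pullback.fst _ _)
  let I := ULift.{u} (Fin N)
  let U : ULift.{u} (Fin (m + 1)) → Z.Opens := fun i => PicPn22.D m K i.down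
  have hU : (⨆ i, U i) = ⊤ := by
    refine eq_top_iff.2 fun x _ => ?_
    obtain ⟨i, hi⟩ := Opens.mem_iSup.1 ((ProjLib.iSup_basicOpen_X m K).ge (Opens.mem_top x))
    exact Opens.mem_iSup.2 ⟨⟨i⟩, hi⟩
  -- the value of a row on a chart
  let v : ∀ {V : Z.Opens} {i : Fin (m + 1)}, V ≤ PicPn22.D m K i → Fin (m + 1) → Γ(Z, V) := fun {V i} h l =>
    Z.presheaf.map (homOfLE h).op (cs m K i l)
  have hv : ∀ {V : Z.Opens} {i : Fin (m + 1)} (h : V ≤ PicPn22.D m K i), v h i = 1 := fun h =>
    (congrArg _ (cs_self m K _)).trans (map_one _)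
  let G : Fin (m + 1) → ∀ i, Γ(freeMod Z I, U i) := fun r i =>
    (freeSectionsEquiv (U i)).symm fun j => rowF e b p (cs m K i.down) r j.down
  have hG : ∀ (r : Fin (m + 1)) (i) (W : Z.Opens) (hW : W ≤ U i) (j : Fin N),
      freeSectionsEquiv W (resM (freeMod Z I) hW (G r i)) ⟨j⟩ = rowF e b p (v hW) r j := by
    intro r i W hW j
    show (freeProj _).app W (resM _ hW _) = _
    rw [app_resM]
    refine Eq.trans ?_ (res_rowF e b p hW (cs m K i.down) r j)
    show Z.presheaf.map (homOfLE hW).op (freeSectionsEquiv (U i) (G r i) ⟨j⟩) = _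
    rw [LinearEquiv.apply_symm_apply]
  have hι : ∀ r, ∃ ι : L ⟶ freeMod Z I, ∀ i, ι.app (U i) (t i.down) = G r i := fun r =>
    exists_hom_of_gen U hU (fun i => t i.down) (fun i => ht.1 i.down) (G r) fun i j W hi hj c hc => by
      obtain ⟨a, ha⟩ := ((ht.1 j.down) (PicPn22.D m K i.down ⊓ PicPn22.D m K j.down) inf_le_right).2
        (resM L inf_le_left (t i.down))
      dsimp only at ha
      have hW : W ≤ PicPn22.D m K i.down ⊓ PicPn22.D m K j.down := le_inf hi hj
      have h1 := congrArg (resM L hW) ha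
      rw [resM_smul, resM_resM, resM_resM] at h1
      have hac : Z.presheaf.map (homOfLE hW).op a = c := ((ht.1 j.down) W hj).1 (h1.trans hc)
      have hcs : ∀ l, v inf_le_left l = a * v (i := j.down) inf_le_right l := by
        intro l
        refine evS_injective m K _ (eta_mem_inf m K i.down j.down) ?_
        rw [map_mul, ht.2 _ _ a ha.symm, mono_single_sub, evS_res, evS_res, evS_cs, evS_cs]
        field_simp [xi_ne_zero m K]
      have hcsW : v hi = fun l => c * v hj l := funext fun l => by
        have h2 := congrArg (Z.presheaf.map (homOfLE hW).op) (hcs l)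
        rw [map_mul, hac] at h2
        simp only [v, ← ConcreteCategory.comp_apply, ← Functor.map_comp] at h2
        exact h2
      refine (freeSectionsEquiv W).injective (funext fun l => ?_)
      obtain ⟨l⟩ := l
      rw [map_smul, Pi.smul_apply, smul_eq_mul, hG, hG, hcsW, rowF_mul]
  choose ι hι using hι
  have hιc : ∀ (r : Fin (m + 1)) (i : ULift.{u} (Fin (m + 1))) (W : Z.Opens) (hW : W ≤ U i) (c : Γ(Z, W))
      (j : Fin N), freeSectionsEquiv W ((ι r).app W (c • resM L hW (t i.down))) ⟨j⟩ = c * rowF e b p (v hW) r j := by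
    intro r i W hW c j
    rw [Scheme.Modules.Hom.app_smul, app_resM, hι, map_smul, Pi.smul_apply, smul_eq_mul, hG]
  have hker : ∀ r, ι r ≫ D'.desc = 0 := by
    intro r
    refine hom_ext_gen U hU (fun i => t i.down) (fun i => ht.1 i.down) _ _ fun i => ?_
    show D'.desc.app (U i) ((ι r).app (U i) (t i.down)) = 0
    rw [hι, Datum.desc_app]
    have h1 := (isLines_sum e b p (hv (le_refl (U i))) (fun s => if s = r then 1 else 0)).1
    have h2 := (mem_ker_chart e b σ D hD E hE (le_refl (U i)) _).2 h1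
    refine Eq.trans (Finset.sum_congr rfl fun j _ => congrArg (· • _) ?_) h2
    rw [LinearEquiv.apply_symm_apply]
    simp only [ite_mul, one_mul, zero_mul, Finset.sum_ite_eq', Finset.mem_univ, if_true, v]
    exact congrArg (fun v' => rowF e b p v' r j) (funext fun l => (ConcreteCategory.congr_hom (Z.presheaf.map_id _) _).symm)
  let lft : Fin (m + 1) → (L ⟶ kernel D'.desc) := fun r => kernel.lift D'.desc (ι r) (hker r)
  let φ : (∐ fun _ : Fin (m + 1) => L) ⟶ kernel D'.desc := Sigma.desc lft
  let π : Fin (m + 1) → ((∐ fun _ : Fin (m + 1) => L) ⟶ L) := fun r =>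
    Sigma.desc fun s => if s = r then 𝟙 L else 0
  have hπ : ∑ r, π r ≫ Sigma.ι (fun _ : Fin (m + 1) => L) r = 𝟙 _ := by
    refine Sigma.hom_ext _ _ fun s => ?_
    rw [Preadditive.comp_sum, Category.comp_id, Finset.sum_eq_single s]
    · rw [Sigma.ι_desc_assoc, if_pos rfl, Category.id_comp]
    · intro r _ hr
      rw [Sigma.ι_desc_assoc, if_neg (Ne.symm hr), zero_comp]
    · exact fun h => absurd (Finset.mem_univ s) h
  haveI : IsIso φ := by
    refine TwistLib.isIso_of_bijective_on φ U (fun x => Opens.mem_iSup.1 (hU.ge (Opens.mem_top x))) fun i V hV => ?_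
    have hsum : ∀ (c : Fin (m + 1) → Γ(Z, V)) (j : Fin N), freeSectionsEquiv V ((kernel.ι D'.desc).app V
        (∑ r, (lft r).app V (c r • resM L hV (t i.down)))) ⟨j⟩ = ∑ r, c r * rowF e b p (v hV) r j := by
      intro c j
      rw [map_sum, map_sum, Finset.sum_apply]
      refine Finset.sum_congr rfl fun r _ => ?_
      rw [show (kernel.ι D'.desc).app V ((lft r).app V (c r • resM L hV (t i.down))) =
        (ι r).app V (c r • resM L hV (t i.down)) from
          congrArg (fun g : L ⟶ freeMod Z I => g.app V _) (kernel.lift_ι D'.desc (ι r) (hker r)), hιc]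
    have hdec : ∀ a, φ.app V a = ∑ r, (lft r).app V ((π r).app V a) := fun a => by
      conv_lhs => rw [show a = (∑ r, π r ≫ Sigma.ι (fun _ : Fin (m + 1) => L) r).app V a from by rw [hπ]; rfl]
      rw [app_sum, map_sum]
      refine Finset.sum_congr rfl fun r _ => ?_
      exact congrArg (fun g : L ⟶ kernel D'.desc => g.app V ((π r).app V a)) (Sigma.ι_desc lft r)
    constructor
    · refine (injective_iff_map_eq_zero _).2 fun a ha => ?_
      let c : Fin (m + 1) → Γ(Z, V) := fun r => (ht.1 i.down).coef hV ((π r).app V a)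
      have hc : ∀ r, c r • resM L hV (t i.down) = (π r).app V a := fun r => (ht.1 i.down).coef_spec hV _
      have h0 : ∀ j, ∑ r, c r * rowF e b p (v hV) r j = 0 := fun j => by
        rw [← hsum c j, Finset.sum_congr rfl fun r _ => congrArg ((lft r).app V) (hc r), ← hdec, ha, map_zero,
          map_zero]
        rfl
      have hc0 : ∀ r, c r = 0 := fun r => by
        rw [← (isLines_sum e b p (hv hV) c).2 r, funext h0]
        simp [matF]
      have hπ0 : ∀ r, (π r).app V a = 0 := fun r => by rw [← hc r, hc0, zero_smul]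
      rw [show a = (∑ r, π r ≫ Sigma.ι (fun _ : Fin (m + 1) => L) r).app V a from by rw [hπ]; rfl, app_sum]
      exact Finset.sum_eq_zero fun r _ =>
        (congrArg ((Sigma.ι (fun _ : Fin (m + 1) => L) r).app V) (hπ0 r)).trans (map_zero _)
    · intro x
      let y : Fin N → Γ(Z, V) := fun j => freeSectionsEquiv V ((kernel.ι D'.desc).app V x) ⟨j⟩
      have hy : y ∈ D'.ker V := (D'.desc_app V _).symm.trans (kernel_ι_app_zero D'.desc V x)
      have h1 := isLines_eq_sum e b p ((mem_ker_chart e b σ D hD E hE hV y).1 hy)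
      let c : Fin (m + 1) → Γ(Z, V) := fun r => matF e b p y r i.down
      refine ⟨∑ r, (Sigma.ι (fun _ : Fin (m + 1) => L) r).app V (c r • resM L hV (t i.down)), ?_⟩
      refine (map_sum (φ.app V).hom _ _).trans ((Finset.sum_congr rfl fun r _ => congrArg (fun g : L ⟶ kernel D'.desc => g.app V
        (c r • resM L hV (t i.down))) (Sigma.ι_desc lft r)).trans ?_)
      refine Coherent.app_injective_of_mono (kernel.ι D'.desc) V ((freeSectionsEquiv V).injective (funext fun l => ?_))
      obtain ⟨j⟩ := l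
      exact (hsum c j).trans (congrFun h1 j).symm
  exact ⟨asIso φ⟩

end Chart

end Groth.Agent.ASBun8
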