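import Groth.Agent.PicLib.FlatSections
import Groth.Agent.H8Lim.ModSections
import Mathlib.LinearAlgebra.TensorProduct.Basis
import Mathlib.RingTheory.TensorProduct.Free

/-!
# Coordinates of sections of the base change of a module along a field extension
-/

set_option autoImplicit false
set_option backward.isDefEq.respectTransparency false
set_option linter.style.haveILetI false

universe u

open CategoryTheory CategoryTheory.Limits AlgebraicGeometry Opposite TopologicalSpace TensorProduct
open Groth.Agent.Coherent Groth.Agent.PicLib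

namespace Groth.Agent.ASBun8

variable {k K : Type u} [Field k] [Field K] [Algebra k K] {X X' : Scheme.{u}}
  [X.Over (Spec (CommRingCat.of k))] [X'.Over (Spec (CommRingCat.of K))] {g : X' ⟶ X}
  (h : IsPullback g (X' ↘ Spec (CommRingCat.of K)) (X ↘ Spec (CommRingCat.of k))
    (Spec.map (CommRingCat.ofHom (algebraMap k K))))

/-- The scalar `b` on an open of `X_K`. -/
noncomputable abbrev scl (X' : Scheme.{u}) [X'.Over (Spec (CommRingCat.of K))] (V : X'.Opens) (b : K) : Γ(X', V) :=
  X'.presheaf.map (homOfLE (le_top (a := V))).op (Coh.toGlobal (X' ↘ Spec (CommRingCat.of K)) b)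

include h in
/-- Over an affine open the sections of `π^* M` are freely spanned over a basis of `K` by those of `M`. -/
theorem existsUnique_coords {ι : Type u} (B₀ : Module.Basis ι k K) (M : X.Modules) [Coh.IsQCoh M] {U : X.Opens}
    (hU : IsAffineOpen U) (z : Γ((Scheme.Modules.pullback g).obj M, g ⁻¹ᵁ U)) :
    ∃! c : ι →₀ Γ(M, U), z = c.sum fun i x => scl (K := K) X' (g ⁻¹ᵁ U) (B₀ i) • pullSec g x := by
  classical
  haveI : IsAffineHom g :=
    MorphismProperty.IsStableUnderBaseChange.of_isPullback (P := @IsAffineHom) h.flip inferInstance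
  let φ := Coh.toGlobal (X ↘ Spec (CommRingCat.of k))
  let β := Coh.toGlobal (X' ↘ Spec (CommRingCat.of K))
  have hp := isBCPushout_of_isPullback g h hU
  let U' : X'.Opens := g ⁻¹ᵁ U
  rw [IsBCPushout, g.app_eq_appLE] at hp
  let P : X'.Modules := (Scheme.Modules.pullback g).obj M
  let rU : k →+* Γ(X, U) := (X.presheaf.map (homOfLE (le_top (a := U))).op).hom.comp φ
  let rU' : K →+* Γ(X', U') := (X'.presheaf.map (homOfLE (le_top (a := U'))).op).hom.comp β
  let _ : Algebra k Γ(X, U) := rU.toAlgebra
  let _ : Algebra Γ(X, U) Γ(X', U') := (g.appLE U U' le_rfl).hom.toAlgebra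
  let _ : Algebra K Γ(X', U') := rU'.toAlgebra
  let _ : Algebra k Γ(X', U') := ((g.appLE U U' le_rfl).hom.comp rU).toAlgebra
  have : IsScalarTower k Γ(X, U) Γ(X', U') := .of_algebraMap_eq fun _ => rfl
  have : IsScalarTower k K Γ(X', U') :=
    .of_algebraMap_eq fun r => ConcreteCategory.congr_hom hp.w r
  have : Algebra.IsPushout k Γ(X, U) K Γ(X', U') := CommRingCat.isPushout_iff_isPushout.1 hp
  have : Algebra.IsPushout k K Γ(X, U) Γ(X', U') := Algebra.IsPushout.symm inferInstance
  let _ : Module k Γ(M, U) := Module.compHom _ rU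
  have : IsScalarTower k Γ(X, U) Γ(M, U) := IsScalarTower.of_algebraMap_smul fun _ _ => rfl
  let _ : Module Γ(X, U) Γ(P, U') := Module.compHom _ (g.appLE U U' le_rfl).hom
  let _ : Module k Γ(P, U') := Module.compHom _ ((g.appLE U U' le_rfl).hom.comp rU)
  let _ : Module K Γ(P, U') := Module.compHom _ rU'
  have : IsScalarTower Γ(X, U) Γ(X', U') Γ(P, U') := IsScalarTower.of_algebraMap_smul fun _ _ => rfl
  have : IsScalarTower k Γ(X, U) Γ(P, U') := IsScalarTower.of_algebraMap_smul fun _ _ => rfl
  have : IsScalarTower K Γ(X', U') Γ(P, U') := IsScalarTower.of_algebraMap_smul fun _ _ => rfl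
  have : IsScalarTower k K Γ(P, U') := IsScalarTower.of_algebraMap_smul fun a m => by
    show rU' (algebraMap k K a) • m = g.appLE U U' le_rfl (rU a) • m
    rw [show rU' (algebraMap k K a) = g.appLE U U' le_rfl (rU a) from (ConcreteCategory.congr_hom hp.w a).symm]
  obtain ⟨μ, hμ, hμe⟩ :=
    EGA43.InjFibre.pullMap_isBaseChange g hU (hU.preimage g) le_rfl (M := M)
  have hb := (EGA43.Cons.isBaseChange_iff_of_isPushout (R := k) (T := K) (R' := Γ(X, U))
    (T' := Γ(X', U')) μ).1 hμ
  let E : Γ(P, U') ≃ₗ[k] (ι →₀ Γ(M, U)) :=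
    ((hb.equiv).restrictScalars k).symm ≪≫ₗ TensorProduct.equivFinsuppOfBasisLeft B₀
  have hE : ∀ c : ι →₀ Γ(M, U), E.symm c = c.sum fun i x => scl (K := K) X' U' (B₀ i) • pullSec g x := fun c => by
    induction c using Finsupp.induction_linear with
    | zero => simp
    | add a b ha hb =>
      rw [map_add, ha, hb, Finsupp.sum_add_index']
      · intro i; rw [H8Lim.pullSec_zero, smul_zero]
      · intro i x y; rw [H8Lim.pullSec_add, smul_add]
    | single i x =>
      rw [Finsupp.sum_single_index (by rw [H8Lim.pullSec_zero, smul_zero])]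
      show hb.equiv ((TensorProduct.equivFinsuppOfBasisLeft B₀).symm (Finsupp.single i x)) = _
      rw [TensorProduct.equivFinsuppOfBasisLeft_symm_apply, Finsupp.sum_single_index (by simp), IsBaseChange.equiv_tmul]
      show rU' (B₀ i) • μ x = _
      refine congrArg (rU' (B₀ i) • ·) ?_
      refine ((hμe _).trans (pullMap_eq_resM_pullSec g hU (hU.preimage g) le_rfl M _)).trans ?_
      exact resM_refl _ _
  refine ⟨E z, ?_, fun c hc => ?_⟩
  · exact ((hE (E z)).symm.trans (E.symm_apply_apply z)).symm
  · exact E.symm.injective ((hE c).trans (hc.symm.trans (E.symm_apply_apply z).symm))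

end Groth.Agent.ASBun8
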