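import Groth.Agent.ASBun8.Iso
import Groth.Agent.GenOneBC5.HomBC
import Groth.Agent.ThetaLib.Scalar
import Groth.Agent.VB5.Split
import Mathlib.RingTheory.SimpleRing.Basic
import Mathlib.RingTheory.TwoSidedIdeal.Operations
import Mathlib.AlgebraicGeometry.Morphisms.Proper
import Mathlib.AlgebraicGeometry.Geometrically.Integral

/-!
# Endomorphism rings of isotypical bundles
-/

set_option autoImplicit false
set_option linter.style.haveILetI false
set_option linter.unusedSectionVars false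
set_option backward.isDefEq.respectTransparency.types false
set_option backward.isDefEq.respectTransparency false

universe u

open CategoryTheory CategoryTheory.Limits AlgebraicGeometry Opposite TopologicalSpace TensorProduct
open Groth.Agent.WeilFin Groth.Agent.Coherent

namespace Groth.Agent.ASBun8

variable {X' : Scheme.{u}} (K : Type u) [Field K] [X'.Over (Spec (CommRingCat.of K))]

/-- Over an algebraically closed field endomorphisms of invertible modules on proper varieties are constants. -/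
theorem exists_smul_id [IsAlgClosed K] [IsIntegral X'] [IsProper (X' ↘ Spec (CommRingCat.of K))] {L : X'.Modules}
    (hL : PicF.IsInvertible L) (φ : L ⟶ L) : ∃ c : K, φ = c • 𝟙 L := by
  obtain ⟨r, rfl⟩ := ThetaLib.exists_eq_smulMod hL φ
  let ψ : K →+* Γ(X', ⊤) := Coh.toGlobal (X' ↘ Spec (CommRingCat.of K))
  letI := ψ.toAlgebra
  letI := (isField_of_universallyClosed K (X' ↘ Spec (CommRingCat.of K))).toField
  haveI : Algebra.IsIntegral K Γ(X', ⊤) := by
    have h1 : ψ.Finite := (finite_appTop_of_universallyClosed K (X' ↘ Spec (CommRingCat.of K))).comp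
      (RingHom.Finite.of_surjective _ (Scheme.ΓSpecIso (CommRingCat.of K)).symm.commRingCatIsoToRingEquiv.surjective)
    exact algebraMap_isIntegral_iff.1 h1.to_isIntegral
  obtain ⟨c, hc⟩ := (IsAlgClosed.algebraMap_bijective_of_isIntegral (k := K) (K := Γ(X', ⊤))).2 r
  exact ⟨c, by rw [← hc]; exact VB5.smulMod_eq_smul K L c⟩

/-- A nonzero bimodule of endomorphisms of `L^r` contains the identity, if `End L` consists of constants. -/
theorem id_mem_of_ne_zero {P L : X'.Modules} {r : ℕ} (e : P ≅ ∐ fun _ : Fin r => L)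
    (hL : ∀ φ : L ⟶ L, ∃ c : K, φ = c • 𝟙 L) (S : Submodule K (P ⟶ P))
    (hS : ∀ φ ∈ S, ∀ u v : P ⟶ P, u ≫ φ ≫ v ∈ S) {φ : P ⟶ P} (hφ : φ ∈ S) (h0 : φ ≠ 0) : 𝟙 P ∈ S := by
  classical
  let ι : Fin r → (L ⟶ ∐ fun _ : Fin r => L) := fun j => Sigma.ι (fun _ : Fin r => L) j
  let π : Fin r → ((∐ fun _ : Fin r => L) ⟶ L) := fun j => (sigmaRetract (fun _ : Fin r => L) j).r
  have htot : ∑ j, π j ≫ ι j = 𝟙 _ := Sigma.hom_ext _ _ fun a => by
    rw [Preadditive.comp_sum, Category.comp_id, Finset.sum_eq_single a]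
    · rw [← Category.assoc]
      exact (congrArg (· ≫ ι a) (sigmaRetract (fun _ : Fin r => L) a).retract).trans (Category.id_comp _)
    · intro j _ hj
      show Sigma.ι (fun _ : Fin r => L) a ≫ (Sigma.desc fun i => if h : i = j then eqToHom (congrArg (fun _ : Fin r => L) h) else 0) ≫ ι j = 0
      rw [Sigma.ι_desc_assoc, dif_neg (Ne.symm hj), zero_comp]
    · simp
  let φ' := e.inv ≫ φ ≫ e.hom
  obtain ⟨a, b, hab⟩ : ∃ a b, ι a ≫ φ' ≫ π b ≠ 0 := by
    by_contra! hz
    refine h0 ?_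
    have h1 : φ' = 0 := Sigma.hom_ext _ _ fun a => by
      calc ι a ≫ φ' = (ι a ≫ φ') ≫ ∑ b, π b ≫ ι b := by rw [htot, Category.comp_id]
        _ = 0 := by
          rw [Preadditive.comp_sum]
          refine Finset.sum_eq_zero fun b _ => ?_
          rw [← Category.assoc, Category.assoc (ι a) φ' (π b), hz a b, zero_comp]
        _ = _ := comp_zero.symm
    calc φ = e.hom ≫ φ' ≫ e.inv := by simp [φ']
      _ = 0 := by rw [h1, zero_comp, comp_zero]
  obtain ⟨c, hc⟩ := hL (ι a ≫ φ' ≫ π b)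
  have hc0 : c ≠ 0 := fun h => hab (by rw [hc, h, zero_smul])
  have hid : 𝟙 P = ∑ j, c⁻¹ • ((e.hom ≫ π j ≫ ι a ≫ e.inv) ≫ φ ≫ (e.hom ≫ π b ≫ ι j ≫ e.inv)) := by
    calc 𝟙 P = e.hom ≫ (∑ j, π j ≫ ι j) ≫ e.inv := by rw [htot, Category.id_comp, Iso.hom_inv_id]
      _ = _ := by
        rw [Preadditive.sum_comp, Preadditive.comp_sum]
        refine Finset.sum_congr rfl fun j _ => ?_
        have h2 : (e.hom ≫ π j ≫ ι a ≫ e.inv) ≫ φ ≫ (e.hom ≫ π b ≫ ι j ≫ e.inv) =
            e.hom ≫ π j ≫ (ι a ≫ φ' ≫ π b) ≫ ι j ≫ e.inv := by simp [φ']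
        rw [h2, hc, Linear.smul_comp, Linear.comp_smul, Linear.comp_smul, smul_smul, inv_mul_cancel₀ hc0, one_smul,
          Category.id_comp, Category.assoc]
  rw [hid]
  exact S.sum_mem fun j _ => S.smul_mem _ (hS φ hφ _ _)

variable {K} {k : Type u} [Field k] [Algebra k K] {X : Scheme.{u}} [X.Over (Spec (CommRingCat.of k))] {g : X' ⟶ X}
  (h : IsPullback g (X' ↘ Spec (CommRingCat.of K)) (X ↘ Spec (CommRingCat.of k))
    (Spec.map (CommRingCat.ofHom (algebraMap k K))))
  [IsProper (X ↘ Spec (CommRingCat.of k))]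

include h in
/-- The endomorphism ring of an isotypical bundle is simple. -/
theorem isSimpleRing_end {E : X.Modules} (hE : FlatMod.IsFinLocFree E) (hE0 : ¬ IsZero E) {L : X'.Modules}
    (hL : ∀ φ : L ⟶ L, ∃ c : K, φ = c • 𝟙 L) {r : ℕ}
    (e : (Scheme.Modules.pullback g).obj E ≅ ∐ fun _ : Fin r => L) : IsSimpleRing (End E) := by
  classical
  haveI := isLocallyNoetherian_X (X := X) k
  haveI : CompactSpace X := QuasiCompact.compactSpace_of_compactSpace (X ↘ Spec (CommRingCat.of k))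
  haveI := EulerLib.isNoetherian_of_proper (X := X) k
  have hEc := Coherent.CohBC.isCoh_of_isFinLocFree hE
  haveI := hEc.1
  haveI : Nontrivial (End E) := ⟨⟨𝟙 E, 0, fun h' => hE0 ((IsZero.iff_id_eq_zero E).2 h')⟩⟩
  have hbij := GenOneBC5.bijective_homBC h E E hE hE
  obtain ⟨ℓ, hℓ⟩ := (Algebra.linearMap k K).exists_leftInverse_of_injective
    (LinearMap.ker_eq_bot.2 (algebraMap k K).injective)
  have hℓ1 : ℓ 1 = 1 := by simpa using LinearMap.congr_fun hℓ 1
  refine IsSimpleRing.of_eq_bot_or_eq_top fun I => or_iff_not_imp_left.2 fun hI => ?_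
  obtain ⟨f, hf, hf0⟩ : ∃ f : End E, f ∈ I ∧ f ≠ 0 := by
    by_contra! h'
    exact hI (eq_bot_iff.2 fun x hx => (TwoSidedIdeal.mem_bot _).2 (h' x hx))
  let P := Scheme.Modules.pullback g
  let S : Submodule K (P.obj E ⟶ P.obj E) := Submodule.span K ((fun z : End E => P.map z) '' (I : Set (End E)))
  have hPf : P.map f ≠ 0 := fun hz => hf0 (by
    have h1 : GenOneBC5.homBC h E E (1 ⊗ₜ (show E ⟶ E from f)) = GenOneBC5.homBC h E E 0 := by
      rw [GenOneBC5.homBC_tmul, one_smul, map_zero]; exact hz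
    have h2 := congrArg (TensorProduct.lift ((LinearMap.lsmul k (E ⟶ E)).comp ℓ)) (hbij.1 h1)
    simpa [hℓ1] using h2)
  have hS : ∀ φ ∈ S, ∀ u v : P.obj E ⟶ P.obj E, u ≫ φ ≫ v ∈ S := by
    intro φ hφ u v
    obtain ⟨n, b, a, rfl⟩ := exists_hom_sum h hEc u
    obtain ⟨m, b', a', rfl⟩ := exists_hom_sum h hEc v
    induction hφ using Submodule.span_induction with
    | mem φ hφ =>
      obtain ⟨z, hz, rfl⟩ := hφ
      simp only [Preadditive.sum_comp, Preadditive.comp_sum, Linear.smul_comp, Linear.comp_smul]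
      refine S.sum_mem fun i _ => S.smul_mem _ (S.sum_mem fun j _ => S.smul_mem _ (Submodule.subset_span ?_))
      refine ⟨(show End E from a' i) * (z * show End E from a j), I.mul_mem_left _ _ (I.mul_mem_right _ _ hz), ?_⟩
      show P.map ((a j ≫ z) ≫ a' i) = _
      rw [P.map_comp, P.map_comp, Category.assoc]
    | zero => rw [zero_comp, comp_zero]; exact zero_mem _
    | add p q _ _ hp hq => rw [Preadditive.add_comp, Preadditive.comp_add]; exact add_mem hp hq
    | smul t p _ hp => rw [Linear.smul_comp, Linear.comp_smul]; exact S.smul_mem _ hp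
  have hone := id_mem_of_ne_zero K e hL S hS (Submodule.subset_span ⟨f, hf, rfl⟩) hPf
  let I' : Submodule k (E ⟶ E) :=
    { carrier := {x | (show End E from x) ∈ I}
      zero_mem' := I.zero_mem
      add_mem' := fun ha hb => I.add_mem ha hb
      smul_mem' := fun c x hx => by
        show (show End E from c • x) ∈ I
        have := I.mul_mem_left (show End E from c • 𝟙 E) _ hx
        rwa [show (show End E from c • 𝟙 E) * (show End E from x) = (show End E from c • x) from by
          show x ≫ (c • 𝟙 E) = c • x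
          rw [Linear.comp_smul, Category.comp_id]] at this }
  let T : Submodule K (K ⊗[k] (E ⟶ E)) := Submodule.span K ((fun z : E ⟶ E => (1 : K) ⊗ₜ[k] z) '' (I' : Set (E ⟶ E)))
  have hST : S ≤ T.map (GenOneBC5.homBC h E E) := Submodule.span_le.2 (by
    rintro _ ⟨z, hz, rfl⟩
    exact ⟨1 ⊗ₜ z, Submodule.subset_span ⟨z, hz, rfl⟩, by rw [GenOneBC5.homBC_tmul, one_smul]⟩)
  obtain ⟨w, hw, hw1⟩ := hST hone
  have hw' : w = 1 ⊗ₜ (𝟙 E) := hbij.1 (hw1.trans (by rw [GenOneBC5.homBC_tmul, one_smul]; exact (P.map_id E).symm))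
  subst hw'
  let Λ := TensorProduct.lift ((LinearMap.lsmul k ((E ⟶ E) ⧸ I')).comp ℓ) ∘ₗ LinearMap.lTensor K I'.mkQ
  have hT : ∀ (t : K) (w : K ⊗[k] (E ⟶ E)), w ∈ T → Λ (t • w) = 0 := by
    intro t w hw
    induction hw using Submodule.span_induction generalizing t with
    | mem w hw =>
      obtain ⟨z, hz, rfl⟩ := hw
      simp [Λ, TensorProduct.smul_tmul', (Submodule.Quotient.mk_eq_zero I').2 hz]
    | zero => simp
    | add p q _ _ hp hq => rw [smul_add, map_add, hp, hq, add_zero]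
    | smul a p _ hp => rw [smul_smul]; exact hp _
  have h1 := hT 1 _ hw
  rw [one_smul] at h1
  simp [Λ, hℓ1] at h1
  have hone' : (1 : End E) ∈ I := h1
  exact eq_top_iff.2 fun x _ => by simpa using I.mul_mem_left x _ hone'

/-- A simple ring with units and nilpotents only is a division ring. -/
theorem isUnit_of_isSimpleRing {A : Type*} [Ring A] [IsSimpleRing A] (h : ∀ x : A, IsUnit x ∨ IsNilpotent x)
    {x : A} (hx : x ≠ 0) : IsUnit x := by
  by_contra hu
  have h1 := IsSimpleRing.one_mem_of_ne_zero_mem (Ring.jacobson A).toTwoSided hx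
    (Ideal.mem_toTwoSided.2 (mem_jacobson_of_not_isUnit h hu))
  rw [Ideal.mem_toTwoSided, ← Ideal.jacobson_bot, Ideal.mem_jacobson_iff] at h1
  obtain ⟨z, hz⟩ := h1 (-1)
  simp at hz

end Groth.Agent.ASBun8
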