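import Groth.Agent.ASBun8.SymbolExt

/-!
# Tensoring a division algebra with a generic symbol algebra gives a division algebra
-/

set_option autoImplicit false
set_option linter.style.haveILetI false
set_option linter.unusedSectionVars false
set_option backward.isDefEq.respectTransparency.types false
set_option maxHeartbeats 1600000

universe u

open Groth.Agent.CSA
open scoped TensorProduct

namespace Groth.Agent.ASBun8.SymbolDivision

open CSA.Generic

section Monomials

variable {k : Type u} [Field k] {B : Type u} [Ring B] [Algebra k B]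

theorem pow_mul_comm' {a b : B} {u : k} (h : b * a = u • (a * b)) (j l : ℕ) :
    b ^ j * a ^ l = u ^ (j * l) • (a ^ l * b ^ j) := by
  have h1 : ∀ l, b * a ^ l = u ^ l • (a ^ l * b) := by
    intro l
    induction l with
    | zero => simp
    | succ l ih => rw [pow_succ, ← mul_assoc, ih, smul_mul_assoc, mul_assoc, h, mul_smul_comm, smul_smul, ← pow_succ, ← mul_assoc, ← pow_succ]
  induction j with
  | zero => simp
  | succ j ih =>
    rw [pow_succ, mul_assoc, h1, mul_smul_comm, ← mul_assoc, ih, smul_mul_assoc, smul_smul, mul_assoc, ← pow_succ,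
      ← pow_add]
    congr 2
    ring

theorem pow_mul_pow_mod {n : ℕ} {x : k} {a : B} (ha : a ^ n = algebraMap k B x) (i : ℕ) :
    a ^ i = x ^ (i / n) • a ^ (i % n) := by
  conv_lhs => rw [← Nat.mod_add_div i n, pow_add, pow_mul, ha, ← map_pow]
  rw [Algebra.smul_def, Algebra.commutes]

theorem monomial_mul {a b : B} {u : k} (h : b * a = u • (a * b)) (p q : ℕ × ℕ) :
    (a ^ p.1 * b ^ p.2) * (a ^ q.1 * b ^ q.2) = u ^ (p.2 * q.1) • (a ^ (p + q).1 * b ^ (p + q).2) := by
  rw [mul_assoc, ← mul_assoc (b ^ p.2), pow_mul_comm' h, smul_mul_assoc, mul_smul_comm]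
  simp only [Prod.fst_add, Prod.snd_add, pow_add, mul_assoc]

/-- The monomials form a basis of a symbol algebra. -/
theorem exists_monomial_basis {n : ℕ} (hn : 0 < n) {ω : k} (hω : ω ≠ 0) {x y : kˣ} {a b : B}
    (ha : a ^ n = algebraMap k B x) (hb : b ^ n = algebraMap k B y) (hab : a * b = ω • (b * a))
    (hadj : Algebra.adjoin k ({a, b} : Set B) = ⊤) (hdim : Module.finrank k B = n ^ 2) :
    ∃ bB : Module.Basis (Fin n × Fin n) k B, ∀ ij, bB ij = a ^ (ij.1 : ℕ) * b ^ (ij.2 : ℕ) := by
  classical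
  have hba : b * a = ω⁻¹ • (a * b) := by rw [hab, smul_smul, inv_mul_cancel₀ hω, one_smul]
  let v : Fin n × Fin n → B := fun ij => a ^ (ij.1 : ℕ) * b ^ (ij.2 : ℕ)
  let T := Submodule.span k (Set.range v)
  have hmem : ∀ p : ℕ × ℕ, a ^ p.1 * b ^ p.2 ∈ T := fun p => by
    rw [pow_mul_pow_mod ha p.1, pow_mul_pow_mod hb p.2, smul_mul_assoc, mul_smul_comm]
    exact T.smul_mem _ (T.smul_mem _ (Submodule.subset_span ⟨(⟨p.1 % n, Nat.mod_lt _ hn⟩, ⟨p.2 % n, Nat.mod_lt _ hn⟩), rfl⟩))
  have hmul : ∀ z ∈ T, ∀ w ∈ T, z * w ∈ T := by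
    intro z hz w hw
    induction hz using Submodule.span_induction with
    | mem z hz =>
      obtain ⟨p, rfl⟩ := hz
      induction hw using Submodule.span_induction with
      | mem w hw =>
        obtain ⟨q, rfl⟩ := hw
        show (a ^ _ * b ^ _) * (a ^ _ * b ^ _) ∈ T
        rw [monomial_mul hba ((p.1 : ℕ), (p.2 : ℕ)) ((q.1 : ℕ), (q.2 : ℕ))]
        exact T.smul_mem _ (hmem _)
      | zero => rw [mul_zero]; exact zero_mem _
      | add p q _ _ hp hq => rw [mul_add]; exact add_mem hp hq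
      | smul c p _ hp => rw [mul_smul_comm]; exact T.smul_mem _ hp
    | zero => rw [zero_mul]; exact zero_mem _
    | add p q _ _ hp hq => rw [add_mul]; exact add_mem hp hq
    | smul c p _ hp => rw [smul_mul_assoc]; exact T.smul_mem _ hp
  let S : Subalgebra k B := T.toSubalgebra (by simpa using hmem (0, 0)) fun z w hz hw => hmul z hz w hw
  have htop : ⊤ ≤ T := by
    intro z _
    have hle : Algebra.adjoin k ({a, b} : Set B) ≤ S := by
      refine Algebra.adjoin_le ?_
      rintro w (rfl | rfl)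
      · show w ∈ T
        simpa using hmem (1, 0)
      · show w ∈ T
        simpa using hmem (0, 1)
    exact hle (hadj.ge (Algebra.mem_top (x := z)))
  refine ⟨basisOfTopLeSpanOfCardEqFinrank v htop ?_, fun ij => by rw [coe_basisOfTopLeSpanOfCardEqFinrank]⟩
  rw [Fintype.card_prod, Fintype.card_fin, hdim, sq]

end Monomials

theorem isDomain_tensor {k : Type u} [Field k] (D : Type u) [DivisionRing D] [Algebra k D]
    [FiniteDimensional k D] {n : ℕ} (hn : 0 < n) {ω : k} (hω : ω ≠ 0) {x y : (F k)ˣ}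
    (hx : (x : F k) = algebraMap (R k) (F k) (MvPolynomial.X 0))
    (hy : (y : F k) = algebraMap (R k) (F k) (MvPolynomial.X 1))
    {B : Type u} [Ring B] [Algebra (F k) B]
    (hsym : CSAGal.IsSymbolAlg (F k) n (algebraMap k (F k) ω) x y B) :
    IsDomain ((F k ⊗[k] D) ⊗[F k] B) := by
  classical
  obtain ⟨a, b, ha, hb, hab, hadj, -, hdim⟩ := hsym
  have hω' : algebraMap k (F k) ω ≠ 0 := by simpa using hω
  obtain ⟨bB, hbB⟩ := exists_monomial_basis hn hω' ha hb hab hadj hdim
  have hba : b * a = (algebraMap k (F k) ω)⁻¹ • (a * b) := by rw [hab, smul_smul, inv_mul_cancel₀ hω', one_smul]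
  rw [← map_inv₀] at hba
  set u := ω⁻¹ with hu
  let D' := (F k ⊗[k] D) ⊗[F k] B
  let bD := Module.finBasis k D
  let BB : Module.Basis (Fin (Module.finrank k D) × (Fin n × Fin n)) (F k) D' :=
    (Algebra.TensorProduct.basis (F k) bD).tensorProduct bB
  -- the monomial attached to `d` and `p`
  let term : ℕ × ℕ → D →+ D' := fun p =>
    { toFun := fun d => ((1 : F k) ⊗ₜ[k] d) ⊗ₜ[F k] (a ^ p.1 * b ^ p.2)
      map_zero' := by rw [TensorProduct.tmul_zero, TensorProduct.zero_tmul]
      map_add' := fun d e => by rw [TensorProduct.tmul_add, TensorProduct.add_tmul] }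
  let Φ : ((ℕ × ℕ) →₀ D) →+ D' := Finsupp.liftAddHom term
  have hΦ : ∀ p d, Φ (Finsupp.single p d) = term p d := fun p d => Finsupp.liftAddHom_apply_single term p d
  let e : ℕ → ℕ → (Fin 2 →₀ ℕ) := fun q q' => Finsupp.single 0 q + Finsupp.single 1 q'
  have he : ∀ q q', algebraMap (R k) (F k) (MvPolynomial.monomial (e q q') 1) = (x : F k) ^ q * (y : F k) ^ q' := by
    intro q q'
    rw [hx, hy, ← map_pow, ← map_pow, ← map_mul]
    congr 1
    rw [MvPolynomial.X_pow_eq_monomial, MvPolynomial.X_pow_eq_monomial, MvPolynomial.monomial_mul, one_mul]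
  let red : ℕ × ℕ → Fin n × Fin n := fun p => (⟨p.1 % n, Nat.mod_lt _ hn⟩, ⟨p.2 % n, Nat.mod_lt _ hn⟩)
  let qe : ℕ × ℕ → (Fin 2 →₀ ℕ) := fun p => e (p.1 / n) (p.2 / n)
  have hterm : ∀ p d, term p d = ∑ l, algebraMap (R k) (F k) (MvPolynomial.monomial (qe p) (bD.repr d l)) • BB (l, red p) := by
    intro p d
    show ((1 : F k) ⊗ₜ[k] d) ⊗ₜ[F k] (a ^ p.1 * b ^ p.2) = _
    conv_lhs => rw [← bD.sum_repr d, TensorProduct.tmul_sum, TensorProduct.sum_tmul, pow_mul_pow_mod ha p.1,
      pow_mul_pow_mod hb p.2, smul_mul_assoc, mul_smul_comm, smul_smul, ← he]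
    refine Finset.sum_congr rfl fun l _ => ?_
    rw [Module.Basis.tensorProduct_apply, hbB, Algebra.TensorProduct.basis_apply, TensorProduct.tmul_smul,
      TensorProduct.tmul_smul, ← algebraMap_smul (F k) (bD.repr d l), TensorProduct.smul_tmul', smul_smul]
    rw [TensorProduct.smul_tmul']
    congr 2
    rw [IsScalarTower.algebraMap_apply k (R k) (F k), ← map_mul]
    congr 1
    rw [MvPolynomial.algebraMap_eq, mul_comm, MvPolynomial.C_mul_monomial, mul_one]
  have hΦsum : ∀ f : (ℕ × ℕ) →₀ D, Φ f = ∑ p ∈ f.support, term p (f p) := fun f =>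
    Finsupp.liftAddHom_apply term f
  have hinj : Function.Injective Φ := by
    rw [injective_iff_map_eq_zero]
    intro f hf
    refine Finsupp.ext fun p₀ => bD.repr.injective (Finsupp.ext fun l => ?_)
    rw [Finsupp.zero_apply, map_zero, Finsupp.zero_apply]
    let P : R k := ∑ p ∈ f.support.filter (fun p => red p = red p₀), MvPolynomial.monomial (qe p) (bD.repr (f p) l)
    have hP : BB.repr (Φ f) (l, red p₀) = algebraMap (R k) (F k) P := by
      rw [hΦsum, map_sum, Finsupp.finsetSum_apply]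
      show _ = algebraMap (R k) (F k) P
      rw [map_sum, Finset.sum_filter]
      refine Finset.sum_congr rfl fun p _ => ?_
      rw [hterm, map_sum, Finsupp.finsetSum_apply]
      simp only [map_smul, Module.Basis.repr_self, Finsupp.smul_single, smul_eq_mul, mul_one, Finsupp.single_apply,
        Prod.mk.injEq]
      split_ifs with hp
      · rw [Finset.sum_eq_single l]
        · simp [hp]
        · intro l' _ hl'; simp [hl']
        · simp
      · exact Finset.sum_eq_zero fun l' _ => by simp [hp]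
    rw [hf, map_zero, Finsupp.zero_apply] at hP
    have hP0 : P = 0 := IsFractionRing.injective (R k) (F k) (by rw [map_zero]; exact hP.symm)
    by_cases hp₀ : p₀ ∈ f.support
    · have h := congrArg (MvPolynomial.coeff (qe p₀)) hP0
      rw [MvPolynomial.coeff_sum, Finset.sum_eq_single p₀, MvPolynomial.coeff_monomial, if_pos rfl,
        MvPolynomial.coeff_zero] at h
      · exact h
      · intro p hp hne
        rw [MvPolynomial.coeff_monomial, if_neg]
        intro hq
        refine hne ?_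
        have h0 := DFunLike.congr_fun hq 0
        have h1 := DFunLike.congr_fun hq 1
        have hr := (Finset.mem_filter.1 hp).2
        simp only [qe, e, red, Prod.mk.injEq, Fin.mk.injEq] at h0 h1 hr
        simp at h0 h1
        ext
        · rw [← Nat.mod_add_div p.1 n, ← Nat.mod_add_div p₀.1 n, h0, hr.1]
        · rw [← Nat.mod_add_div p.2 n, ← Nat.mod_add_div p₀.2 n, h1, hr.2]
      · intro h'
        exact (h' (by simp [hp₀])).elim
    · rw [Finsupp.notMem_support_iff.1 hp₀, map_zero, Finsupp.zero_apply]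
  have hmulterm : ∀ p q d d', term p d * term q d' = term (p + q) (d * d' * algebraMap k D (u ^ (p.2 * q.1))) := by
    intro p q d d'
    show ((1 : F k) ⊗ₜ[k] d) ⊗ₜ[F k] _ * ((1 : F k) ⊗ₜ[k] d') ⊗ₜ[F k] _ =
      ((1 : F k) ⊗ₜ[k] (d * d' * algebraMap k D (u ^ (p.2 * q.1)))) ⊗ₜ[F k] (a ^ (p + q).1 * b ^ (p + q).2)
    rw [Algebra.TensorProduct.tmul_mul_tmul, Algebra.TensorProduct.tmul_mul_tmul, one_mul, monomial_mul hba,
      ← map_pow, ← Algebra.commutes (u ^ (p.2 * q.1)) (d * d'), ← Algebra.smul_def, TensorProduct.tmul_smul,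
      TensorProduct.tmul_smul, ← algebraMap_smul (F k) (u ^ (p.2 * q.1)) ((1 : F k) ⊗ₜ[k] (d * d')),
      TensorProduct.smul_tmul']
  have hnzd : ∀ f g : (ℕ × ℕ) →₀ D, f ≠ 0 → g ≠ 0 → Φ f * Φ g ≠ 0 := by
    intro f g hf hg h0
    let h : (ℕ × ℕ) →₀ D := ∑ p ∈ f.support, ∑ q ∈ g.support,
      Finsupp.single (p + q) (f p * g q * algebraMap k D (u ^ (p.2 * q.1)))
    have hh : Φ h = Φ f * Φ g := by
      rw [hΦsum f, hΦsum g]
      simp only [h, map_sum, hΦ]
      refine Eq.trans ?_ (Finset.sum_mul (R := D') _ _ _).symm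
      refine Finset.sum_congr rfl fun p _ => ?_
      refine Eq.trans ?_ (Finset.mul_sum (R := D') _ _ _).symm
      exact Finset.sum_congr rfl fun q _ => (hmulterm p q _ _).symm
    obtain ⟨p₀, hp₀, q₀, hq₀, huniq⟩ := UniqueSums.uniqueAdd_of_nonempty
      (Finsupp.support_nonempty_iff.2 hf) (Finsupp.support_nonempty_iff.2 hg)
    have h1 : h (p₀ + q₀) = f p₀ * g q₀ * algebraMap k D (u ^ (p₀.2 * q₀.1)) := by
      simp only [h, Finsupp.finsetSum_apply, Finsupp.single_apply]
      rw [Finset.sum_eq_single p₀, Finset.sum_eq_single q₀, if_pos rfl]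
      · exact fun q hq hne => if_neg fun h2 => hne (huniq hp₀ hq h2).2
      · exact fun h2 => absurd hq₀ h2
      · exact fun p hp hne => Finset.sum_eq_zero fun q hq => if_neg fun h2 => hne (huniq hp hq h2).1
      · exact fun h2 => absurd hp₀ h2
    rw [hinj (hh.trans (h0.trans (map_zero Φ).symm)), Finsupp.zero_apply] at h1
    have : algebraMap k D (u ^ (p₀.2 * q₀.1)) ≠ 0 := by simp [hu, hω]
    exact mul_ne_zero (mul_ne_zero (Finsupp.mem_support_iff.1 hp₀) (Finsupp.mem_support_iff.1 hq₀)) this h1.symm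
  have hclear : ∀ z : D', ∃ (s : R k) (f : (ℕ × ℕ) →₀ D), s ≠ 0 ∧ algebraMap (R k) (F k) s • z = Φ f := by
    intro z
    obtain ⟨s, hs⟩ := IsLocalization.exist_integer_multiples_of_finite (nonZeroDivisors (R k))
      fun i => BB.repr z i
    choose P hP using hs
    refine ⟨s, ∑ i, ∑ m ∈ (P i).support,
      Finsupp.single (n * m 0 + (i.2.1 : ℕ), n * m 1 + (i.2.2 : ℕ)) ((P i).coeff m • bD i.1),
      nonZeroDivisors.coe_ne_zero s, ?_⟩
    rw [map_sum]
    conv_lhs => rw [← BB.sum_repr z, Finset.smul_sum]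
    refine Finset.sum_congr rfl fun i _ => ?_
    rw [smul_smul, map_sum]
    have h2 : algebraMap (R k) (F k) s * BB.repr z i = algebraMap (R k) (F k) (P i) :=
      ((hP i).trans (Algebra.smul_def _ _)).symm
    rw [h2]
    conv_lhs => rw [(P i).as_sum, map_sum, Finset.sum_smul]
    refine Finset.sum_congr rfl fun m _ => ?_
    rw [hΦ, hterm, Finset.sum_eq_single i.1]
    · have e1 : ∀ (q : ℕ) (r : Fin n), (n * q + (r : ℕ)) % n = r ∧ (n * q + (r : ℕ)) / n = q := fun q r => by
        refine ⟨by rw [Nat.mul_add_mod, Nat.mod_eq_of_lt r.isLt], ?_⟩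
        rw [Nat.mul_add_div hn, Nat.div_eq_of_lt r.isLt, add_zero]
      congr 2
      · simp only [map_smul, Module.Basis.repr_self, Finsupp.smul_single, smul_eq_mul, mul_one, Finsupp.single_eq_same]
        congr 2
        · refine Finsupp.ext fun v => ?_
          fin_cases v <;> simp [qe, e, (e1 _ _).2]
      · exact Prod.ext rfl (Prod.ext (Fin.ext (e1 _ _).1.symm) (Fin.ext (e1 _ _).1.symm))
    · intro l _ hl
      simp [Finsupp.single_eq_of_ne, hl, Ne.symm hl]
    · simp
  haveI : Nontrivial D' := nontrivial_of_ne (BB (⟨0, Module.finrank_pos⟩, (⟨0, hn⟩, ⟨0, hn⟩))) 0 (BB.ne_zero _)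
  haveI : NoZeroDivisors D' := ⟨fun {z w} hzw => by
    by_contra hcon
    push Not at hcon
    obtain ⟨s, f, hs, hf⟩ := hclear z
    obtain ⟨t, g, ht, hg⟩ := hclear w
    have hs' : algebraMap (R k) (F k) s ≠ 0 := by simpa [map_eq_zero_iff _ (IsFractionRing.injective (R k) (F k))] using hs
    have ht' : algebraMap (R k) (F k) t ≠ 0 := by simpa [map_eq_zero_iff _ (IsFractionRing.injective (R k) (F k))] using ht
    refine hnzd f g (fun h => ?_) (fun h => ?_) ?_
    · rw [h, map_zero] at hf; exact smul_ne_zero hs' hcon.1 hf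
    · rw [h, map_zero] at hg; exact smul_ne_zero ht' hcon.2 hg
    · rw [← hf, ← hg, smul_mul_assoc, mul_smul_comm, hzw, smul_zero, smul_zero]⟩
  exact NoZeroDivisors.to_isDomain D'

end Groth.Agent.ASBun8.SymbolDivision
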