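import Groth.Agent.ASBun8.SymbolDivision

/-!
# Division algebras of given period and index
-/

set_option autoImplicit false
set_option linter.style.haveILetI false
set_option linter.unusedSectionVars false
set_option backward.isDefEq.respectTransparency.types false
set_option maxHeartbeats 1600000

universe u

open Groth.Agent.CSA
open scoped TensorProduct

namespace Groth.Agent.ASBun8

theorem brEq_tpow_step {k F₀ Om : Type u} [Field k] [Field F₀] [Field Om] [Algebra k F₀] [Algebra k Om]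
    [Algebra F₀ Om] [IsScalarTower k F₀ Om] (D : Type u) [Ring D] [Algebra k D] [IsCSA k D]
    (B : Type u) [Ring B] [Algebra F₀ B] [IsCSA F₀ B]
    (hOm : ∀ (C : Type u) [Ring C] [Algebra k C] [IsCSA k C], Curves.Splits k C Om → Curves.Splits k C k)
    (hBs : Curves.Splits F₀ B Om) {p n : ℕ} (hp : CSAGal.IsPeriod k D p) (hn : CSAGal.IsPeriod F₀ B n) (e : ℕ) :
    BrEq F₀ (TPow F₀ ((F₀ ⊗[k] D) ⊗[F₀] B) e) F₀ ↔ Nat.lcm p n ∣ e := by
  have h0 : BrEq F₀ (TPow F₀ ((F₀ ⊗[k] D) ⊗[F₀] B) e) ((F₀ ⊗[k] TPow k D e) ⊗[F₀] TPow F₀ B e) :=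
    (brEq_tpow_tensor (F₀ ⊗[k] D) B e).trans ((BrEq.baseChange_tpow F₀ D e).symm.tensor_right _)
  have htriv : BrEq k (TPow k D e) k → BrEq F₀ ((F₀ ⊗[k] TPow k D e) ⊗[F₀] TPow F₀ B e) (TPow F₀ B e) := fun h =>
    (((h.baseChange F₀).trans (BrEq.of_algEquiv F₀ (baseChangeSelf F₀))).tensor_right _).trans (BrEq.one_tensor _)
  refine ⟨fun he => ?_, fun he => ?_⟩
  · have h1 := h0.symm.trans he
    have hB : BrEq Om (Om ⊗[F₀] TPow F₀ B e) Om :=
      (splits_iff_brEq Om _).1 (Amitsur.splits_tpow hBs (BrEq.refl F₀ _))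
    have h2 : BrEq Om (Om ⊗[F₀] (F₀ ⊗[k] TPow k D e)) Om :=
      (BrEq.tensor_one (k := Om) _).symm.trans ((hB.symm.tensor_left _).trans
        ((BrEq.of_algEquiv Om (distribBC Om (F₀ ⊗[k] TPow k D e) (TPow F₀ B e))).symm.trans
          ((h1.baseChange Om).trans (BrEq.of_algEquiv Om (baseChangeSelf Om)))))
    have h3 : BrEq k (TPow k D e) k :=
      (splits_self_iff_brEq _).1 (hOm _ ((splits_tower (A := TPow k D e) F₀ Om).2 ((splits_iff_brEq Om _).2 h2)))
    exact Nat.lcm_dvd ((isPeriod_trivial_iff_dvd hp e).1 h3)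
      ((isPeriod_trivial_iff_dvd hn e).1 ((htriv h3).symm.trans h1))
  · exact h0.trans ((htriv ((isPeriod_trivial_iff_dvd hp e).2 ((Nat.dvd_lcm_left p n).trans he))).trans
      ((isPeriod_trivial_iff_dvd hn e).2 ((Nat.dvd_lcm_right p n).trans he)))

/-- One step: a division algebra of index `i * n` and period `lcm p n` over a bigger field. -/
theorem exists_division_step (k : Type u) [Field k] (D : Type u) [DivisionRing D] [Algebra k D] [IsCSA k D]
    {i p n : ℕ} (hi : Module.finrank k D = i * i) (hp : CSAGal.IsPeriod k D p) (hn : 0 < n) {ω : k}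
    (hω : IsPrimitiveRoot ω n) :
    ∃ (k' : Type u) (_ : Field k') (_ : Algebra k k') (D' : Type u) (_ : DivisionRing D') (_ : Algebra k' D'),
      IsCSA k' D' ∧ Module.finrank k' D' = (i * n) * (i * n) ∧ CSAGal.IsPeriod k' D' (Nat.lcm p n) := by
  obtain ⟨x, y, B, _, _, φ, hx, hy, hsym, hB, hBdim, hper, hBs⟩ := SymbolGeneric.exists_generic_symbol k hn hω
  haveI := hB
  haveI : FiniteDimensional k D := IsCSA.finite
  haveI := SymbolDivision.isDomain_tensor D hn (hω.ne_zero hn.ne') hx hy hsym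
  letI : Algebra (CSA.Generic.F k) (CSA.Generic.Om k) := φ.toRingHom.toAlgebra
  haveI : IsScalarTower k (CSA.Generic.F k) (CSA.Generic.Om k) :=
    IsScalarTower.of_algebraMap_eq fun c => (φ.commutes c).symm
  let D' := (CSA.Generic.F k ⊗[k] D) ⊗[CSA.Generic.F k] B
  haveI hcsa : IsCSA (CSA.Generic.F k) D' := inferInstance
  have hfin : Module.finrank (CSA.Generic.F k) D' = (i * n) * (i * n) := by
    show Module.finrank (CSA.Generic.F k) ((CSA.Generic.F k ⊗[k] D) ⊗[CSA.Generic.F k] B) = _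
    rw [Module.finrank_tensorProduct, Module.finrank_baseChange, hi, hBdim]
    ring
  haveI : FiniteDimensional (CSA.Generic.F k) D' := FiniteDimensional.of_finrank_pos (by
    rw [hfin]
    have : 0 < i * i := hi ▸ Module.finrank_pos
    have : 0 < i := Nat.pos_of_ne_zero fun h => by simp [h] at this
    positivity)
  have hper' : CSAGal.IsPeriod (CSA.Generic.F k) D' (Nat.lcm p n) :=
    (isPeriod_iff (Nat.pos_of_ne_zero (Nat.lcm_ne_zero hp.1.ne' hn.ne'))).2 fun e =>
      brEq_tpow_step D B (fun C _ _ _ h => SymbolGeneric.splits_of_Om k h) hBs hp hper e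
  exact ⟨CSA.Generic.F k, inferInstance, inferInstance, D', divisionRingOfFiniteDimensional (CSA.Generic.F k) D',
    inferInstance, hcsa, hfin, hper'⟩

theorem exists_division_period_index (p : ℕ) (hp : 0 < p) :
    ∀ t : ℕ, 0 < t → (∀ q : ℕ, q.Prime → q ∣ t → q ∣ p) →
      ∃ (k : Type u) (_ : Field k) (D : Type u) (_ : DivisionRing D) (_ : Algebra k D),
        (∀ m : ℕ, 0 < m → ∃ ω : k, IsPrimitiveRoot ω m) ∧ IsCSA k D ∧
        Module.finrank k D = (p * t) * (p * t) ∧ CSAGal.IsPeriod k D p := by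
  intro t
  induction t using Nat.strong_induction_on with
  | _ t ih =>
    intro ht hprimes
    rcases eq_or_ne t 1 with rfl | ht1
    · let k₀ := AlgebraicClosure (ULift.{u} ℚ)
      haveI : CharZero (ULift.{u} ℚ) := ⟨fun a b h => by simpa using congrArg ULift.down h⟩
      haveI : CharZero k₀ := charZero_of_injective_algebraMap (algebraMap (ULift.{u} ℚ) k₀).injective
      have hroot : ∀ m : ℕ, 0 < m → ∃ ω : k₀, IsPrimitiveRoot ω m := fun m hm =>
        haveI : NeZero m := ⟨hm.ne'⟩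
        HasEnoughRootsOfUnity.exists_primitiveRoot k₀ m
      obtain ⟨ω, hω⟩ := hroot p hp
      have hper0 : CSAGal.IsPeriod k₀ k₀ 1 :=
        (isPeriod_iff one_pos).2 fun e => ⟨fun _ => one_dvd e, fun _ => tpow_one_brEq e⟩
      obtain ⟨k', _, _, D', _, _, hcsa, hfin, hper⟩ :=
        exists_division_step k₀ k₀ (i := 1) (by rw [Module.finrank_self]) hper0 hp hω
      refine ⟨k', inferInstance, D', inferInstance, inferInstance, fun m hm => ?_, hcsa,
        by rw [hfin, one_mul, mul_one], by rwa [Nat.lcm_one_left] at hper⟩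
      obtain ⟨η, hη⟩ := hroot m hm
      exact ⟨algebraMap k₀ k' η, hη.map_of_injective (algebraMap k₀ k').injective⟩
    · have hq := Nat.minFac_prime ht1
      obtain ⟨t', ht'⟩ := Nat.minFac_dvd t
      have hqp : t.minFac ∣ p := hprimes _ hq (Nat.minFac_dvd t)
      have ht'0 : 0 < t' := Nat.pos_of_ne_zero fun h => by rw [h, mul_zero] at ht'; omega
      obtain ⟨k, _, D, _, _, hroot, hcsa, hfin, hper⟩ :=
        ih t' (by rw [ht']; exact lt_mul_of_one_lt_left ht'0 hq.one_lt) ht'0
          fun q hq' hd => hprimes q hq' (hd.trans (Dvd.intro_left _ ht'.symm))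
      haveI := hcsa
      obtain ⟨ω, hω⟩ := hroot t.minFac hq.pos
      obtain ⟨k', _, _, D', _, _, hcsa', hfin', hper'⟩ := exists_division_step k D hfin hper hq.pos hω
      refine ⟨k', inferInstance, D', inferInstance, inferInstance, fun m hm => ?_, hcsa', ?_, ?_⟩
      · obtain ⟨η, hη⟩ := hroot m hm
        exact ⟨algebraMap k k' η, hη.map_of_injective (algebraMap k k').injective⟩
      · rw [hfin', mul_assoc p t', mul_comm t', ← ht']
      · rwa [Nat.lcm_eq_left hqp] at hper'

theorem exists_type (p i d : ℕ) (hp : 0 < p) (hi : 0 < i) (hd : 0 < d)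
    (hpi : p ∣ i) (hid : i ∣ d) (hprimes : ∀ q : ℕ, q.Prime → q ∣ i → q ∣ p) :
    ∃ (k : Type u) (_ : Field k) (A : Type u) (_ : Ring A) (_ : Algebra k A),
      Algebra.IsCentral k A ∧ IsSimpleRing A ∧ Module.finrank k A = d * d ∧
      CSAGal.IsPeriod k A p ∧ CSAGal.IsIndex k A i ∧
      ∃ (X : AlgebraicGeometry.Scheme.{u}) (f : X ⟶ AlgebraicGeometry.Spec (CommRingCat.of k)),
        BrSev.IsSBOf k A (d * d - d) f := by
  obtain ⟨t, rfl⟩ := hpi
  obtain ⟨r, rfl⟩ := hid
  have ht : 0 < t := Nat.pos_of_ne_zero fun h => by simp [h] at hi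
  have hr : 0 < r := Nat.pos_of_ne_zero fun h => by simp [h] at hd
  obtain ⟨k, _, D, _, _, -, hcsa, hfin, hper⟩ :=
    exists_division_period_index.{u} p hp t ht fun q hq h => hprimes q hq (h.trans (dvd_mul_left t p))
  haveI := hcsa
  haveI : NeZero r := ⟨hr.ne'⟩
  let A := Matrix (Fin r) (Fin r) D
  haveI hA : IsCSA k A := inferInstance
  have hAD : BrEq k A D := (BrEq.matrix k D hr.ne').symm
  have hdim : Module.finrank k A = (p * t * r) * (p * t * r) := by
    show Module.finrank k (Matrix (Fin r) (Fin r) D) = _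
    rw [Module.finrank_matrix, Fintype.card_fin, hfin]
    ring
  refine ⟨k, inferInstance, A, inferInstance, inferInstance, hA.central, hA.simple, hdim, ?_, ?_, ?_⟩
  · exact (isPeriod_iff hp).2 fun e =>
      ⟨fun h => (isPeriod_trivial_iff_dvd hper e).1 ((hAD.tpow e).symm.trans h),
        fun h => (hAD.tpow e).trans ((isPeriod_trivial_iff_dvd hper e).2 h)⟩
  · exact isIndex_of_brEq_division hi (hfin.trans (sq _).symm) hAD
  · haveI : FiniteDimensional k A := IsCSA.finite
    exact exists_isSBOf k A _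

end Groth.Agent.ASBun8
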